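import Groth.Agent.FlatLib.OpenFP
import Mathlib

/-! Flatness at a point of a morphism of schemes. -/

set_option autoImplicit false
universe u

open AlgebraicGeometry CategoryTheory

namespace FlatLib

theorem mem_flatLocus_self_iff {R S : Type u} [CommRing R] [CommRing S] [Algebra R S]
    (q : PrimeSpectrum S) :
    q ∈ flatLocus R S S ↔ Module.Flat R (Localization.AtPrime q.asIdeal) :=
  ⟨fun h ↦ flat_of_le q.asIdeal.primeCompl (LocalizedModule.mkLinearMap _ S) q.asIdeal.primeCompl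
      (Algebra.linearMap S (Localization.AtPrime q.asIdeal)) le_rfl h,
    fun h ↦ flat_of_le q.asIdeal.primeCompl (Algebra.linearMap S (Localization.AtPrime q.asIdeal))
      q.asIdeal.primeCompl (LocalizedModule.mkLinearMap _ S) le_rfl h⟩

theorem flat_stalkMap_iff {X Y : Scheme.{u}} {f : X ⟶ Y} {x : X} (U : Y.Opens) (hU : IsAffineOpen U)
    (V : X.Opens) (hV : IsAffineOpen V) (hVU : V ≤ f ⁻¹ᵁ U) (hx : x ∈ V) :
    letI := (f.appLE U V hVU).hom.toAlgebra
    (f.stalkMap x).hom.Flat ↔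
      hV.primeIdealOf ⟨x, hx⟩ ∈ flatLocus Γ(Y, U) Γ(X, V) Γ(X, V) := by
  let := (f.appLE U V hVU).hom.toAlgebra
  let p := (hU.primeIdealOf ⟨f x, hVU hx⟩).asIdeal
  let q := (hV.primeIdealOf ⟨x, hx⟩).asIdeal
  have : q.LiesOver p :=
    ⟨congr($(IsAffineOpen.comap_primeIdealOf_appLE U hU V hV hVU hx).1).symm⟩
  let := Localization.AtPrime.algebraOfLiesOver p q
  refine Iff.trans ?_ (mem_flatLocus_self_iff _).symm
  trans Module.Flat (Localization.AtPrime p) (Localization.AtPrime q)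
  · rw [← RingHom.flat_algebraMap_iff]
    exact RingHom.Flat.respectsIso.arrow_mk_iso_iff (IsAffineOpen.arrowStalkMapIso f U hU V hV hVU hx)
  · exact Module.flat_iff_of_isLocalization (Localization.AtPrime p) p.primeCompl _

theorem isOpen_setOf_flat_stalkMap {X Y : Scheme.{u}} (f : X ⟶ Y)
    [LocallyOfFinitePresentation f] : IsOpen {x : X | (f.stalkMap x).hom.Flat} := by
  refine isOpen_iff_forall_mem_open.mpr fun x hx ↦ ?_
  obtain ⟨_, ⟨U, hU, rfl⟩, hxU, -⟩ :=
    Y.isBasis_affineOpens.exists_subset_of_mem_open (Set.mem_univ (f x)) isOpen_univ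
  obtain ⟨_, ⟨V, hV, rfl⟩, hxV, hVU⟩ :=
    X.isBasis_affineOpens.exists_subset_of_mem_open hxU (U.2.preimage f.continuous)
  have := f.finitePresentation_appLE hU hV hVU
  algebraize [(f.appLE U V hVU).hom]
  have hopen : IsOpen (flatLocus Γ(Y, U) Γ(X, V) Γ(X, V)) := isOpen_flatLocus_fp
  refine ⟨Subtype.val '' ((fun y : V ↦ hV.primeIdealOf y) ⁻¹' flatLocus Γ(Y, U) Γ(X, V) Γ(X, V)),
    ?_, ?_, ⟨⟨x, hxV⟩, (flat_stalkMap_iff U hU V hV hVU hxV).mp hx, rfl⟩⟩
  · rintro _ ⟨⟨y, hy⟩, hy', rfl⟩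
    exact (flat_stalkMap_iff U hU V hV hVU hy).mpr hy'
  · refine V.2.isOpenMap_subtype_val _ (hopen.preimage ?_)
    exact hV.isoSpec.hom.continuous

end FlatLib
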