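import Groth.Agent.FlatLib.FibreFlatScheme
import Groth.Agent.FlatLib.SchemeFlat
import Groth.Agent.AlgSpLib.Noeth

/-!
# Flatness at a point: composition, base change, cancellation, descent along the fibres
-/

set_option autoImplicit false
universe u

open AlgebraicGeometry CategoryTheory Limits AlgSpLib

namespace FlatLib

variable {X Y Z : Scheme.{u}}

/-- `f` is flat at `x`. -/
abbrev FlatAt (f : X ⟶ Y) (x : X) : Prop := (f.stalkMap x).hom.Flat

theorem flatAt_of_flat (f : X ⟶ Y) [Flat f] (x : X) : FlatAt f x :=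
  (Flat.iff_flat_stalkMap f).mp inferInstance x

theorem flatAt_congr {f g : X ⟶ Y} (e : f = g) (x : X) : FlatAt f x ↔ FlatAt g x := by
  subst e; rfl

theorem flatAt_comp {f : X ⟶ Y} {g : Y ⟶ Z} {x : X} (hf : FlatAt f x) (hg : FlatAt g (f x)) :
    FlatAt (f ≫ g) x := by
  unfold FlatAt
  rw [Scheme.Hom.stalkMap_comp]
  exact RingHom.Flat.comp hg hf

/-- Flatness descends at a point along a morphism flat at it. -/
theorem flatAt_of_comp {f : X ⟶ Y} {g : Y ⟶ Z} {x : X} (hf : FlatAt f x)
    (hfg : FlatAt (f ≫ g) x) : FlatAt g (f x) := by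
  letI : Algebra (Z.presheaf.stalk (g (f x))) (Y.presheaf.stalk (f x)) :=
    (g.stalkMap (f x)).hom.toAlgebra
  letI : Algebra (Y.presheaf.stalk (f x)) (X.presheaf.stalk x) := (f.stalkMap x).hom.toAlgebra
  letI : Algebra (Z.presheaf.stalk (g (f x))) (X.presheaf.stalk x) :=
    ((f.stalkMap x).hom.comp (g.stalkMap (f x)).hom).toAlgebra
  haveI : IsScalarTower (Z.presheaf.stalk (g (f x))) (Y.presheaf.stalk (f x)) (X.presheaf.stalk x) :=
    IsScalarTower.of_algebraMap_eq fun _ ↦ rfl
  haveI : Module.Flat (Z.presheaf.stalk (g (f x))) (X.presheaf.stalk x) := by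
    unfold FlatAt at hfg
    rw [Scheme.Hom.stalkMap_comp] at hfg
    exact hfg
  haveI : Module.Flat (Y.presheaf.stalk (f x)) (X.presheaf.stalk x) := hf
  haveI : IsLocalHom (algebraMap (Y.presheaf.stalk (f x)) (X.presheaf.stalk x)) :=
    f.toLRSHom.prop x
  haveI : IsLocalHom (algebraMap (X.presheaf.stalk x) (X.presheaf.stalk x)) := ⟨fun _ h ↦ h⟩
  haveI := faithfullyFlat_of_flat_local (S := Y.presheaf.stalk (f x)) (S' := X.presheaf.stalk x)
    (M := X.presheaf.stalk x)
  exact flat_of_faithfullyFlat_module (M := X.presheaf.stalk x)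

/-- The flat locus, as an open subscheme flat over the target. -/
theorem exists_open_flat (f : X ⟶ Y) [LocallyOfFinitePresentation f] {x : X} (hx : FlatAt f x) :
    ∃ O : X.Opens, x ∈ O ∧ Flat (O.ι ≫ f) := by
  refine ⟨⟨{z : X | (f.stalkMap z).hom.Flat}, isOpen_setOf_flat_stalkMap f⟩, hx, ?_⟩
  rw [Flat.iff_flat_stalkMap]
  intro z
  exact flatAt_comp (flatAt_of_flat _ z) z.2

theorem flatAt_of_open {f : X ⟶ Y} (O : X.Opens) (h : Flat (O.ι ≫ f)) {x : X} (hx : x ∈ O) :
    FlatAt f x :=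
  flatAt_of_comp (f := O.ι) (x := ⟨x, hx⟩) (flatAt_of_flat _ _) (flatAt_of_flat _ _)

/-- Base change of flatness at a point. -/
theorem flatAt_baseChange {X' Y' : Scheme.{u}} {f : X ⟶ Y} {g : Y' ⟶ Y} {f' : X' ⟶ Y'}
    {p : X' ⟶ X} (sq : IsPullback p f' f g) [LocallyOfFinitePresentation f] {x' : X'}
    (hx : FlatAt f (p x')) : FlatAt f' x' := by
  obtain ⟨O, hO, hflat⟩ := exists_open_flat f hx
  refine flatAt_of_open (p ⁻¹ᵁ O) ?_ hO
  exact MorphismProperty.of_isPullback (P := @Flat)
    ((isPullback_morphismRestrict p O).paste_vert sq) hflat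

/-- Cancellation of an etale morphism. -/
theorem flatAt_cancel_etale {f : X ⟶ Y} {g : Y ⟶ Z} [Etale g] [LocallyOfFinitePresentation f]
    {x : X} (h : FlatAt (f ≫ g) x) : FlatAt f x := by
  obtain ⟨O, hO, hflat⟩ := exists_open_flat (f ≫ g) h
  refine flatAt_of_open O (EtLocProp.cancel_etale (P := @Flat) (O.ι ≫ f) g ?_) hO
  rwa [Category.assoc]

theorem fiberMap_ι (f : X ⟶ Y) (g : Y ⟶ Z) (s : Z) :
    MoreMor.fiberMap f g s ≫ g.fiberι s = (f ≫ g).fiberι s ≫ f :=
  pullback.lift_fst _ _ _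

theorem fiberMap_to (f : X ⟶ Y) (g : Y ⟶ Z) (s : Z) :
    MoreMor.fiberMap f g s ≫ g.fiberToSpecResidueField s = (f ≫ g).fiberToSpecResidueField s :=
  pullback.lift_snd _ _ _

theorem isPullback_fiber (g : Y ⟶ Z) (s : Z) :
    IsPullback (g.fiberι s) (g.fiberToSpecResidueField s) g (Z.fromSpecResidueField s) :=
  IsPullback.of_hasPullback _ _

/-- The fibre map is a base change. -/
theorem isPullback_fiberMap (f : X ⟶ Y) (g : Y ⟶ Z) (s : Z) :
    IsPullback ((f ≫ g).fiberι s) (MoreMor.fiberMap f g s) f (g.fiberι s) := by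
  refine IsPullback.of_bot ?_ (fiberMap_ι f g s).symm (isPullback_fiber g s)
  rw [fiberMap_to]
  exact isPullback_fiber (f ≫ g) s

theorem flatAt_of_fiberMap {f : X ⟶ Y} {g : Y ⟶ Z} [LocallyOfFinitePresentation (f ≫ g)]
    [LocallyOfFiniteType g] (x : X) {s : Z} (z : ↥((f ≫ g).fiber s))
    (hz : (f ≫ g).fiberι s z = x) (hflat : FlatAt (f ≫ g) x)
    (h : FlatAt (MoreMor.fiberMap f g s) z) : FlatAt f x := by
  obtain rfl : g (f x) = s := by
    have hs : (f ≫ g).fiberι s z ∈ (f ≫ g) ⁻¹' {s} := by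
      rw [← Scheme.Hom.range_fiberι]; exact ⟨z, rfl⟩
    rw [hz] at hs
    exact hs
  have : z = (f ≫ g).asFiber x := ((f ≫ g).fiberι _).isEmbedding.injective (by
    rw [hz]; exact ((f ≫ g).fiberι_asFiber x).symm)
  subst this
  exact ((fibre_criterion_near f g x).1.mp ⟨hflat, h⟩).2

/-- Flatness descends along base change of the base when the morphism is flat over the base. -/
theorem flatAt_descend_base {U V W U' V' W' : Scheme.{u}} {k : U ⟶ V} {q : V ⟶ W} {g : W' ⟶ W}
    {k' : U' ⟶ V'} {q' : V' ⟶ W'} {pV : V' ⟶ V} {pU : U' ⟶ U} (sqV : IsPullback pV q' q g)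
    (sqU : IsPullback pU k' k pV) [LocallyOfFinitePresentation (k ≫ q)] [LocallyOfFiniteType q]
    [Flat (k ≫ q)] {u' : U'} (h : FlatAt k' u') : FlatAt k (pU u') := by
  have : LocallyOfFinitePresentation k := lfp_of_comp_lft k q
  have : LocallyOfFinitePresentation k' := MorphismProperty.of_isPullback (P := @LocallyOfFinitePresentation) sqU ‹_›
  let s' : W' := (k' ≫ q') u'
  obtain ⟨z, hz⟩ : u' ∈ Set.range ((k' ≫ q').fiberι s') := by
    rw [Scheme.Hom.range_fiberι]; rfl
  let r : Spec (W'.residueField s') ⟶ Spec (W.residueField (g s')) := Spec.map (g.residueFieldMap s')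
  have hr : r ≫ W.fromSpecResidueField (g s') = W'.fromSpecResidueField s' ≫ g :=
    g.SpecMap_residueFieldMap_fromSpecResidueField s'
  have : Flat r := by
    rw [HasRingHomProperty.Spec_iff (P := @Flat)]
    letI := (g.residueFieldMap s').hom.toAlgebra
    exact (inferInstance : Module.Flat (W.residueField (g s')) (W'.residueField s'))
  let ψ : q'.fiber s' ⟶ q.fiber (g s') :=
    pullback.lift (q'.fiberι s' ≫ pV) (q'.fiberToSpecResidueField s' ≫ r) (by
      rw [Category.assoc, sqV.w, Category.assoc, hr]; exact q'.fiber_fac_assoc s' g)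
  let φ : (k' ≫ q').fiber s' ⟶ (k ≫ q).fiber (g s') :=
    pullback.lift ((k' ≫ q').fiberι s' ≫ pU) ((k' ≫ q').fiberToSpecResidueField s' ≫ r) (by
      rw [Category.assoc, reassoc_of% sqU.w, sqV.w, Category.assoc, hr, ← Category.assoc k']
      exact (k' ≫ q').fiber_fac_assoc s' g)
  have hψ : Flat ψ := by
    have big : IsPullback (q'.fiberι s' ≫ pV) (q'.fiberToSpecResidueField s') q
        (W'.fromSpecResidueField s' ≫ g) :=
      (IsPullback.of_hasPullback q' (W'.fromSpecResidueField s')).paste_horiz sqV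
    rw [← hr] at big
    have sq : IsPullback ψ (q'.fiberToSpecResidueField s') (q.fiberToSpecResidueField (g s')) r :=
      IsPullback.of_right (by rw [show ψ ≫ q.fiberι (g s') = _ from pullback.lift_fst _ _ _]
                              exact big)
        (pullback.lift_snd _ _ _) (isPullback_fiber q (g s'))
    exact MorphismProperty.of_isPullback (P := @Flat) sq.flip ‹Flat r›
  have sqF : IsPullback φ (MoreMor.fiberMap k' q' s') (MoreMor.fiberMap k q (g s')) ψ := by
    refine IsPullback.of_right ?_ ?_ (isPullback_fiberMap k q (g s'))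
    · rw [show φ ≫ (k ≫ q).fiberι (g s') = _ from pullback.lift_fst _ _ _,
        show ψ ≫ q.fiberι (g s') = _ from pullback.lift_fst _ _ _]
      exact (isPullback_fiberMap k' q' s').paste_horiz sqU
    · have e1 : φ ≫ (k ≫ q).fiberι (g s') = (k' ≫ q').fiberι s' ≫ pU := pullback.lift_fst _ _ _
      have e2 : φ ≫ (k ≫ q).fiberToSpecResidueField (g s') =
          (k' ≫ q').fiberToSpecResidueField s' ≫ r := pullback.lift_snd _ _ _
      have e3 : ψ ≫ q.fiberι (g s') = q'.fiberι s' ≫ pV := pullback.lift_fst _ _ _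
      have e4 : ψ ≫ q.fiberToSpecResidueField (g s') = q'.fiberToSpecResidueField s' ≫ r :=
        pullback.lift_snd _ _ _
      refine (isPullback_fiber q (g s')).hom_ext ?_ ?_
      · simp only [Category.assoc, e3, fiberMap_ι, reassoc_of% e1, reassoc_of% (fiberMap_ι k' q' s'),
          sqU.w]
      · simp only [Category.assoc, e4, fiberMap_to, e2, reassoc_of% (fiberMap_to k' q' s')]
  have hφ : Flat φ := MorphismProperty.of_isPullback (P := @Flat) sqF.flip hψ
  have h1 : FlatAt (MoreMor.fiberMap k' q' s') z :=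
    flatAt_baseChange (isPullback_fiberMap k' q' s') (by rw [hz]; exact h)
  have h2 : FlatAt (φ ≫ MoreMor.fiberMap k q (g s')) z :=
    (flatAt_congr sqF.w z).mpr (flatAt_comp h1 (flatAt_of_flat ψ _))
  refine flatAt_of_fiberMap (pU u') (φ z) ?_ (flatAt_of_flat _ _)
    (flatAt_of_comp (flatAt_of_flat φ z) h2)
  rw [← Scheme.Hom.comp_apply, show φ ≫ (k ≫ q).fiberι (g s') = _ from pullback.lift_fst _ _ _,
    Scheme.Hom.comp_apply, hz]

end FlatLib
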