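import Groth.Agent.FlatLib.FibPoint
import Groth.Agent.FlatLib.SchemeFlat
import Mathlib

/-! The fibrewise criterion of flatness. -/

set_option autoImplicit false
universe u

open TensorProduct

namespace FlatLib

theorem isBaseChange_id_of_surjective {P S M : Type u} [CommRing P] [CommRing S] [Algebra P S]
    (hsurj : Function.Surjective (algebraMap P S)) [AddCommGroup M] [Module P M] [Module S M]
    [IsScalarTower P S M] : IsBaseChange S (LinearMap.id : M →ₗ[P] M) := by
  refine IsBaseChange.of_lift_unique _ fun Q _ _ _ _ g ↦ ?_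
  refine ⟨{ toFun := g, map_add' := map_add g, map_smul' := fun c m ↦ ?_ }, rfl,
    fun h hh ↦ LinearMap.ext fun m ↦ LinearMap.congr_fun hh m⟩
  obtain ⟨c, rfl⟩ := hsurj c
  rw [RingHom.id_apply, algebraMap_smul, algebraMap_smul, map_smul]

variable {R S S' M : Type u} [CommRing R] [CommRing S] [CommRing S'] [Algebra R S] [Algebra S S']
  [Algebra R S'] [IsScalarTower R S S'] [AddCommGroup M] [Module R M] [Module S M] [Module S' M]
  [IsScalarTower R S M] [IsScalarTower S S' M] [IsScalarTower R S' M]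

omit [Algebra R S'] [IsScalarTower R S S'] [Module R M] [IsScalarTower R S M] [IsScalarTower R S' M]
  [Algebra R S] [CommRing R] in
theorem fibFlat_of_flat {I : Ideal S} (q : PrimeSpectrum S') (h : q ∈ flatLocus S S' M) :
    FibFlat S S' M I q.asIdeal := fun P _ _ _ N x hx ↦
  (flat_localized_iff q.asIdeal.primeCompl (LocalizedModule.mkLinearMap _ M)).mp h P N x hx

theorem mem_flatLocus_trans (q : PrimeSpectrum S') (h : q ∈ flatLocus S S' M)
    (hy : PrimeSpectrum.comap (algebraMap S S') q ∈ flatLocus R S S) : q ∈ flatLocus R S' M := by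
  let T := q.asIdeal.primeCompl
  let Mq := LocalizedModule T M
  let y := PrimeSpectrum.comap (algebraMap S S') q
  let S'q := Localization.AtPrime q.asIdeal
  let Sy := Localization.AtPrime y.asIdeal
  have : q.asIdeal.LiesOver y.asIdeal := ⟨rfl⟩
  letI := Localization.AtPrime.algebraOfLiesOver y.asIdeal q.asIdeal
  letI : Module Sy Mq := Module.compHom Mq (algebraMap Sy S'q)
  haveI : IsScalarTower S S'q Mq := IsScalarTower.of_algebraMap_smul fun r x ↦ by
    rw [IsScalarTower.algebraMap_apply S S' S'q, algebraMap_smul, algebraMap_smul]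
  haveI : IsScalarTower S Sy Mq := IsScalarTower.of_algebraMap_smul fun s x ↦ by
    show algebraMap Sy S'q (algebraMap S Sy s) • x = s • x
    rw [← IsScalarTower.algebraMap_apply S Sy S'q, algebraMap_smul]
  haveI : IsScalarTower R Sy Mq := IsScalarTower.of_algebraMap_smul fun r x ↦ by
    rw [IsScalarTower.algebraMap_apply R S Sy, algebraMap_smul, algebraMap_smul]
  haveI : Module.Flat Sy Mq := (Module.flat_iff_of_isLocalization Sy y.asIdeal.primeCompl Mq).mpr h
  haveI : Module.Flat R Sy := (mem_flatLocus_self_iff y).mp hy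
  exact Module.Flat.trans R Sy Mq

variable [Algebra.FiniteType R S] [Algebra.FinitePresentation R S'] [Module.FinitePresentation S' M]

set_option maxSynthPendingDepth 6 in
/-- The fibrewise criterion of flatness, with openness. -/
theorem exists_open_of_fibFlat (q : PrimeSpectrum S') (hq : q ∈ flatLocus R S' M)
    (hfib : FibFlat S S' M ((q.asIdeal.comap (algebraMap R S')).map (algebraMap R S)) q.asIdeal)
    (hnt : Nontrivial (LocalizedModule q.asIdeal.primeCompl M)) :
    ∃ U : Set (PrimeSpectrum S'), IsOpen U ∧ q ∈ U ∧ ∀ q' ∈ U, q' ∈ flatLocus S S' M ∧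
      (Nontrivial (LocalizedModule q'.asIdeal.primeCompl M) →
        PrimeSpectrum.comap (algebraMap S S') q' ∈ flatLocus R S S) := by
  classical
  obtain ⟨σ, hσ, π, hπ⟩ := Algebra.FiniteType.iff_quotient_mvPolynomial'.mp
    (inferInstance : Algebra.FiniteType R S)
  obtain ⟨τ, hτ, π₀, hπ₀, -⟩ := Algebra.FinitePresentation.iff_quotient_mvPolynomial'.{_, _, u}.mp
    (inferInstance : Algebra.FinitePresentation R S')
  let π' : MvPolynomial (σ ⊕ τ) R →ₐ[R] S' := MvPolynomial.aeval
    (Sum.elim (fun i ↦ algebraMap S S' (π (MvPolynomial.X i))) fun j ↦ π₀ (MvPolynomial.X j))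
  have hππ : ∀ f, π' (MvPolynomial.rename Sum.inl f) = algebraMap S S' (π f) := fun f ↦ by
    have : π'.comp (MvPolynomial.rename Sum.inl) = (IsScalarTower.toAlgHom R S S').comp π :=
      MvPolynomial.algHom_ext fun i ↦ by simp [π']
    exact DFunLike.congr_fun this f
  have hπ' : Function.Surjective π' := fun z ↦ by
    obtain ⟨f, rfl⟩ := hπ₀ z
    have : π'.comp (MvPolynomial.rename Sum.inr) = π₀ :=
      MvPolynomial.algHom_ext fun i ↦ by simp [π']
    exact ⟨MvPolynomial.rename Sum.inr f, DFunLike.congr_fun this f⟩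
  have hπ'fg : (RingHom.ker π'.toRingHom).FG :=
    Algebra.FinitePresentation.ker_fG_of_surjective π' hπ'
  let L := q.asIdeal.ResidueField
  let mL := MvPolynomial.map (σ := σ) (algebraMap R L)
  obtain ⟨t, ht⟩ : ((RingHom.ker π.toRingHom).map mL).FG := IsNoetherian.noetherian _
  have hlift : ∀ x ∈ t, ∃ G : Finset (MvPolynomial σ R), (∀ g ∈ G, π g = 0) ∧
      x ∈ (Ideal.span (G : Set (MvPolynomial σ R))).map mL := fun x hx ↦ by
    have hx' : x ∈ Submodule.span (MvPolynomial σ L) (mL '' (RingHom.ker π.toRingHom : Set _)) :=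
      ht.le (Submodule.subset_span hx)
    obtain ⟨W, hW, hxW⟩ := Submodule.mem_span_finite_of_mem_span hx'
    obtain ⟨G, hG, rfl⟩ := Finset.subset_set_image_iff.mp hW
    refine ⟨G, fun g hg ↦ hG hg, ?_⟩
    rw [Ideal.map_span, ← Finset.coe_image]
    exact hxW
  choose! Gf hGf hxG using hlift
  let G := t.biUnion Gf
  have hG : ∀ g ∈ G, π g = 0 := fun g hg ↦ by
    obtain ⟨x, hx, hg⟩ := Finset.mem_biUnion.mp hg
    exact hGf x hx g hg
  have hGJ : (RingHom.ker π.toRingHom).map mL ≤
      (Ideal.span (G : Set (MvPolynomial σ R))).map mL := by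
    rw [← ht, Submodule.span_le]
    intro x hx
    exact Ideal.map_mono (Ideal.span_mono (Finset.coe_subset.mpr
      (Finset.subset_biUnion_of_mem Gf hx))) (hxG x hx)
  let I₀ : Ideal (MvPolynomial σ R) := Ideal.span (G : Set _)
  have hI₀ : ∀ f ∈ I₀, π f = 0 := fun f hf ↦
    (Ideal.span_le.mpr fun g hg ↦ RingHom.mem_ker.mpr (hG g hg) :
      I₀ ≤ RingHom.ker π.toRingHom) hf
  let St := MvPolynomial σ R ⧸ I₀
  let ρ : MvPolynomial σ R →ₐ[R] St := Ideal.Quotient.mkₐ R I₀
  letI : Algebra St S := (Ideal.Quotient.lift I₀ π.toRingHom hI₀).toAlgebra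
  letI : Algebra St S' := ((algebraMap S S').comp (algebraMap St S)).toAlgebra
  haveI : IsScalarTower St S S' := IsScalarTower.of_algebraMap_eq fun _ ↦ rfl
  haveI : IsScalarTower R St S := IsScalarTower.of_algebraMap_eq fun r ↦ by
    show algebraMap R S r = π (algebraMap R (MvPolynomial σ R) r)
    rw [π.commutes]
  haveI : IsScalarTower R St S' := IsScalarTower.of_algebraMap_eq fun r ↦ by
    show algebraMap R S' r = algebraMap S S' (algebraMap St S (algebraMap R St r))
    rw [← IsScalarTower.algebraMap_apply R St S, ← IsScalarTower.algebraMap_apply]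
  letI : Module St M := Module.compHom M (algebraMap St S)
  haveI : IsScalarTower St S M := IsScalarTower.of_algebraMap_smul fun _ _ ↦ rfl
  haveI : IsScalarTower St S' M := IsScalarTower.of_algebraMap_smul fun c m ↦ by
    show algebraMap S S' (algebraMap St S c) • m = algebraMap St S c • m
    rw [algebraMap_smul]
  haveI : IsScalarTower R St M := IsScalarTower.of_algebraMap_smul fun r m ↦ by
    show algebraMap St S (algebraMap R St r) • m = r • m
    rw [← IsScalarTower.algebraMap_apply, algebraMap_smul]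
  haveI : Algebra.FinitePresentation R St := Algebra.FinitePresentation.quotient ⟨G, rfl⟩
  haveI : Algebra.FinitePresentation St S' :=
    Algebra.FinitePresentation.of_restrict_scalars_finitePresentation R St S'
  have hsurj : Function.Surjective (algebraMap St S) := fun s ↦ by
    obtain ⟨f, rfl⟩ := hπ s
    exact ⟨ρ f, rfl⟩
  obtain ⟨h1, h2⟩ := mem_flatLocus_of_fibFlat_point (τ := τ) π hπ π' hπ' hπ'fg hππ q G hG hGJ ρ
    Ideal.Quotient.mk_surjective Ideal.mk_ker (fun f ↦ rfl) hq hfib hnt
  refine ⟨flatLocus St S' M ∩ PrimeSpectrum.comap (algebraMap St S') ⁻¹' flatLocus R St St,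
    isOpen_flatLocus_fp.inter (isOpen_flatLocus_fp.preimage (PrimeSpectrum.continuous_comap _)),
    ⟨h1, h2⟩, fun q' ⟨h1', h2'⟩ ↦ ⟨?_, fun hnt' ↦ ?_⟩⟩
  · exact flat_localized_baseChange q'.asIdeal.primeCompl (LocalizedModule.mkLinearMap _ M)
      q'.asIdeal.primeCompl (LocalizedModule.mkLinearMap _ M) (RingHom.id S') (fun t ht ↦ ht)
      LinearMap.id (isBaseChange_id_of_surjective hsurj) (fun _ _ ↦ rfl) h1'
  · refine mem_flatLocus_of_torsion_ker hsurj _ (fun j hj ↦ ?_) ?_
    · have hjM : ∀ m : M, j • m = 0 := fun m ↦ by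
        rw [← algebraMap_smul S j m, hj, zero_smul]
      obtain ⟨t, ht, htj⟩ := exists_mul_eq_zero_of_nontrivial q' h1' hnt' j hjM
      exact ⟨t, ht, htj⟩
    · exact h2'

end FlatLib
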