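import Groth.Agent.FlatLib.FibCharts
import Mathlib

/-! Local rings of fibres in affine charts. -/

set_option autoImplicit false
universe u

open AlgebraicGeometry CategoryTheory Limits TensorProduct

namespace FlatLib

set_option maxSynthPendingDepth 6 in
theorem nonempty_fibreStalk_ringEquiv {X S : Scheme.{u}} (f : X ⟶ S) {U : S.Opens} {V : X.Opens}
    (hU : IsAffineOpen U) (hV : IsAffineOpen V) (hVU : V ≤ f ⁻¹ᵁ U) [Algebra Γ(S, U) Γ(X, V)]
    (hAB : algebraMap Γ(S, U) Γ(X, V) = (f.appLE U V hVU).hom) (x : X) (hx : x ∈ V) :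
    Nonempty ((f.fiber (f x)).presheaf.stalk (f.asFiber x) ≃+*
      Localization.AtPrime (hV.primeIdealOf ⟨x, hx⟩).asIdeal ⧸
        ((hV.primeIdealOf ⟨x, hx⟩).asIdeal.comap (algebraMap Γ(S, U) Γ(X, V))).map
          (algebraMap Γ(S, U) (Localization.AtPrime (hV.primeIdealOf ⟨x, hx⟩).asIdeal))) := by
  let A := Γ(S, U)
  let B := Γ(X, V)
  let q := hV.primeIdealOf ⟨x, hx⟩
  let p := q.asIdeal.comap (algebraMap A B)
  let s := f x
  have hsU : s ∈ U := hVU hx
  let pS := hU.primeIdealOf ⟨s, hsU⟩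
  have hcomap : PrimeSpectrum.comap (algebraMap A B) q = pS := by
    rw [hAB]
    exact IsAffineOpen.comap_primeIdealOf_appLE U hU V hV hVU hx
  have hp : p = pS.asIdeal := congrArg PrimeSpectrum.asIdeal hcomap
  -- residue fields
  letI := S.presheaf.algebra_section_stalk ⟨s, hsU⟩
  haveI : IsLocalization.AtPrime (S.presheaf.stalk s) pS.asIdeal := hU.isLocalization_stalk ⟨s, hsU⟩
  haveI : IsLocalization.AtPrime (S.presheaf.stalk s) p := by simp only [hp]; infer_instance
  let e₀ : Localization.AtPrime p ≃ₐ[A] S.presheaf.stalk s :=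
    IsLocalization.algEquiv p.primeCompl _ _
  let e : p.ResidueField ≃+* S.residueField s := IsLocalRing.ResidueField.mapEquiv e₀.toRingEquiv
  let eK : Spec (.of p.ResidueField) ≅ Spec (S.residueField s) :=
    Scheme.Spec.mapIso (e.symm.toCommRingCatIso.op)
  have hs : eK.hom ≫ S.fromSpecResidueField s =
      Spec.map (CommRingCat.ofHom (algebraMap A p.ResidueField)) ≫ hU.fromSpec := by
    have h1 : S.fromSpecResidueField s = Spec.map (S.presheaf.germ U s hsU ≫ S.residue s) ≫ hU.fromSpec := by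
      rw [Spec.map_comp, Category.assoc, Scheme.fromSpecResidueField,
        ← hU.fromSpecStalk_eq_fromSpecStalk hsU]
      rfl
    rw [h1, ← Category.assoc]
    congr 1
    show Spec.map _ ≫ Spec.map _ = _
    rw [← Spec.map_comp]
    congr 1
    ext r
    show e.symm (IsLocalRing.residue _ (algebraMap A (S.presheaf.stalk s) r)) = algebraMap A p.ResidueField r
    rw [RingEquiv.symm_apply_eq, IsScalarTower.algebraMap_apply A (Localization.AtPrime p) p.ResidueField]
    show _ = IsLocalRing.ResidueField.mapEquiv e₀.toRingEquiv (IsLocalRing.residue _ (algebraMap A _ r))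
    rw [IsLocalRing.ResidueField.mapEquiv_apply, IsLocalRing.ResidueField.map_residue]
    exact congrArg _ (e₀.commutes r).symm
  have hg : hV.fromSpec ≫ f = Spec.map (CommRingCat.ofHom (algebraMap A B)) ≫ hU.fromSpec := by
    rw [hAB]
    exact (IsAffineOpen.SpecMap_appLE_fromSpec f hU hV hVU).symm
  obtain ⟨θ, hθ, hfst, -, hrange⟩ := exists_fibre_chart (A := A) (B := B) (K := p.ResidueField) f
    hV.fromSpec hU.fromSpec hg s eK hs
  haveI := hθ
  obtain ⟨a, ha⟩ := hrange (f.asFiber x) (by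
    rw [f.fiberι_asFiber, hV.range_fromSpec]
    exact hx)
  have haq : (a.asIdeal.comap (Algebra.TensorProduct.includeRight : B →ₐ[A] p.ResidueField ⊗[A] B)) =
      q.asIdeal := by
    have h1 := congrArg (f.fiberι s) ha
    rw [← Scheme.Hom.comp_apply, hfst, f.fiberι_asFiber, Scheme.Hom.comp_apply] at h1
    have h2 := h1.trans (hV.fromSpec_primeIdealOf ⟨x, hx⟩).symm
    exact congrArg PrimeSpectrum.asIdeal (hV.fromSpec.isOpenEmbedding.injective h2)
  let e₁ : (f.fiber s).presheaf.stalk (f.asFiber x) ≃+* (Spec (.of (p.ResidueField ⊗[A] B))).presheaf.stalk a :=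
    ((f.fiber s).presheaf.stalkCongr (.of_eq ha.symm) ≪≫ asIso (θ.stalkMap a)).commRingCatIsoToRingEquiv
  let e₂ : (Spec (.of (p.ResidueField ⊗[A] B))).presheaf.stalk a ≃+* Localization.AtPrime a.asIdeal :=
    (IsLocalization.algEquiv a.asIdeal.primeCompl
      ((Spec.structureSheaf (p.ResidueField ⊗[A] B)).presheaf.stalk a) _).toRingEquiv
  let e₃ := (Ideal.Fiber.algEquivAux₂ (S := B) p a.asIdeal).toRingEquiv
  have key : ∀ (Q Q' : Ideal B) [Q.IsPrime] [Q'.IsPrime], Q = Q' →
      Nonempty ((Localization.AtPrime Q ⧸ (p.map (algebraMap A B)).map (algebraMap B (Localization.AtPrime Q))) ≃+*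
        (Localization.AtPrime Q' ⧸ p.map (algebraMap A (Localization.AtPrime Q')))) := by
    rintro Q Q' _ _ rfl
    exact ⟨Ideal.quotEquivOfEq (by rw [Ideal.map_map, ← IsScalarTower.algebraMap_eq])⟩
  obtain ⟨e₄⟩ := key _ _ haq
  exact ⟨((e₁.trans e₂).trans e₃).trans e₄⟩

end FlatLib
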