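import Groth.Agent.S2144
import Mathlib

/-! Finite type and finite presentation descend along faithfully flat finitely presented extensions. -/

set_option autoImplicit false
universe u

open TensorProduct

namespace FlatLib

set_option synthInstance.maxHeartbeats 200000 in
/-- `A` is a quotient of a finitely presented algebra over which the extension is already defined -/
theorem exists_surjective_model (R A B : Type u) [CommRing R] [CommRing A] [CommRing B] [Algebra R A]
    [Algebra A B] [Algebra R B] [IsScalarTower R A B] [Algebra.FiniteType R B]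
    [Module.FaithfullyFlat A B] [Algebra.FinitePresentation A B] :
    ∃ (A₁ B₁ : Type u) (_ : CommRing A₁) (_ : CommRing B₁) (_ : Algebra R A₁) (_ : Algebra A₁ A)
      (_ : IsScalarTower R A₁ A) (_ : Algebra A₁ B₁),
      Algebra.FinitePresentation R A₁ ∧ Algebra.FinitePresentation A₁ B₁ ∧ Module.FaithfullyFlat A₁ B₁ ∧
        Function.Surjective (algebraMap A₁ A) ∧ Nonempty (B ≃ₐ[A] A ⊗[A₁] B₁) := by
  classical
  obtain ⟨A₀, B₀, _, _, _, _, _, _, hA₀, hB₀, hff, ⟨e⟩⟩ :=
    Groth.Agent.S2144.result (R := R) (A := A) (B := B)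
  haveI := hA₀; haveI := hB₀; haveI := hff
  obtain ⟨gens, hgens⟩ := (inferInstance : Algebra.FiniteType R B).out
  have hrep : ∀ b : B, ∃ s : Finset (A × B₀), e b = ∑ p ∈ s, p.1 ⊗ₜ[A₀] p.2 := fun b ↦
    TensorProduct.exists_finset (e b)
  choose sb hsb using hrep
  let C : Finset A := gens.biUnion fun b ↦ (sb b).image Prod.fst
  let A₁ := MvPolynomial C A₀
  let θ : A₁ →ₐ[A₀] A := MvPolynomial.aeval fun c : C ↦ (c : A)
  letI : Algebra A₁ A := θ.toRingHom.toAlgebra
  haveI : IsScalarTower A₀ A₁ A := IsScalarTower.of_algebraMap_eq fun r ↦ (θ.commutes r).symm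
  haveI : IsScalarTower R A₁ A := IsScalarTower.of_algebraMap_eq fun r ↦ by
    rw [IsScalarTower.algebraMap_apply R A₀ A₁, ← IsScalarTower.algebraMap_apply A₀ A₁ A,
      ← IsScalarTower.algebraMap_apply]
  let B₁ := A₁ ⊗[A₀] B₀
  let e₁ : B ≃ₐ[A] A ⊗[A₁] B₁ := e.trans (Algebra.TensorProduct.cancelBaseChange A₀ A₁ A A B₀).symm
  haveI : Algebra.FinitePresentation R A₁ := Algebra.FinitePresentation.trans R A₀ A₁
  refine ⟨A₁, B₁, inferInstance, inferInstance, inferInstance, inferInstance, inferInstance, inferInstance,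
    inferInstance, inferInstance, inferInstance, ?_, ⟨e₁⟩⟩
  suffices hr : Function.Surjective ((Algebra.linearMap A₁ A).rTensor B₁) by
    refine (Module.FaithfullyFlat.lTensor_surjective_iff_surjective A₁ B₁ (Algebra.linearMap A₁ A)).mp fun z ↦ ?_
    obtain ⟨w, hw⟩ := hr (TensorProduct.comm A₁ B₁ A z)
    refine ⟨TensorProduct.comm A₁ A₁ B₁ w, (TensorProduct.comm A₁ B₁ A).injective (Eq.trans ?_ hw)⟩
    clear hw
    induction w using TensorProduct.induction_on with
    | zero => simp
    | add a b ha hb => simp only [map_add, ha, hb]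
    | tmul a b => simp
  intro z
  let S : Subalgebra R (A ⊗[A₁] B₁) :=
    (Algebra.TensorProduct.map (IsScalarTower.toAlgHom A₁ A₁ A) (AlgHom.id A₁ B₁)).range.restrictScalars R
  have hS : ∀ x : B, e₁ x ∈ S := by
    intro x
    have hx : x ∈ Algebra.adjoin R (gens : Set B) := hgens ▸ trivial
    induction hx using Algebra.adjoin_induction with
    | mem b hb =>
      show e₁ b ∈ S
      rw [show e₁ b = (Algebra.TensorProduct.cancelBaseChange A₀ A₁ A A B₀).symm (e b) from rfl, hsb b, map_sum]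
      refine Subalgebra.sum_mem _ fun p hp ↦ ?_
      rw [Algebra.TensorProduct.cancelBaseChange_symm_tmul]
      let c : C := ⟨p.1, Finset.mem_biUnion.mpr ⟨b, hb, Finset.mem_image_of_mem _ hp⟩⟩
      refine ⟨(MvPolynomial.X c : A₁) ⊗ₜ[A₁] ((1 : A₁) ⊗ₜ[A₀] p.2), ?_⟩
      show (Algebra.TensorProduct.map (IsScalarTower.toAlgHom A₁ A₁ A) (AlgHom.id A₁ B₁)) _ = _
      rw [Algebra.TensorProduct.map_tmul]
      show θ (MvPolynomial.X c) ⊗ₜ[A₁] _ = _
      rw [MvPolynomial.aeval_X]
      rfl
    | algebraMap r =>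
      rw [IsScalarTower.algebraMap_apply R A B, e₁.commutes, Algebra.TensorProduct.algebraMap_apply]
      refine ⟨(algebraMap R A₁ r) ⊗ₜ[A₁] (1 : B₁), ?_⟩
      show (Algebra.TensorProduct.map (IsScalarTower.toAlgHom A₁ A₁ A) (AlgHom.id A₁ B₁)) _ = _
      rw [Algebra.TensorProduct.map_tmul]
      show algebraMap A₁ A (algebraMap R A₁ r) ⊗ₜ[A₁] (1 : B₁) = algebraMap A A (algebraMap R A r) ⊗ₜ[A₁] 1
      rw [← IsScalarTower.algebraMap_apply]
      rfl
    | add a b _ _ ha hb => rw [map_add]; exact Subalgebra.add_mem _ ha hb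
    | mul a b _ _ ha hb => rw [map_mul]; exact Subalgebra.mul_mem _ ha hb
  obtain ⟨w, hw⟩ := hS (e₁.symm z)
  rw [AlgEquiv.apply_symm_apply] at hw
  refine ⟨w, ?_⟩
  rw [← hw]
  show (Algebra.linearMap A₁ A).rTensor B₁ w =
    (Algebra.TensorProduct.map (IsScalarTower.toAlgHom A₁ A₁ A) (AlgHom.id A₁ B₁)) w
  clear hw
  induction w using TensorProduct.induction_on with
  | zero => simp
  | add a b ha hb => rw [map_add, map_add, ha, hb]
  | tmul a b => simp

end FlatLib
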