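import Mathlib
import Groth.Agent.CohenLib.RegularField
import Groth.Agent.CohenLib.SmoothPoint
import Groth.Agent.HopfFFLib.Consequences
import Groth.Agent.AlgSpLib.SrcRing
import Groth.Agent.S9406
import Groth.Agent.S0112

/-! Smoothness, unramifiedness and etaleness descend along fppf covers of the source. -/

set_option autoImplicit false
universe u

open TensorProduct

noncomputable section

namespace FlatLib

/-- A regular finite type algebra over a perfect field is smooth. -/
theorem smooth_of_isRegularRing_of_perfectField (k : Type u) [Field k] [PerfectField k]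
    (A : Type u) [CommRing A] [Algebra k A] [Algebra.FiniteType k A] [IsRegularRing A] :
    Algebra.Smooth k A := by
  have hfp : Algebra.FinitePresentation k A := Algebra.FinitePresentation.of_finiteType.1 inferInstance
  refine ⟨Algebra.smoothLocus_eq_univ_iff.mp (Set.eq_univ_iff_forall.mpr fun q ↦ ?_), hfp⟩
  haveI : Algebra.IsGeometricallyReduced k q.asIdeal.ResidueField :=
    Groth.Agent.HopfFF.isGeometricallyReduced_of_perfectField _
  exact (CohenLib.isSmoothAt_iff_isRegularLocalRing k A q.asIdeal).2
    (IsRegularRing.isRegularLocalRing_localization q.asIdeal)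

section
attribute [local instance] Algebra.TensorProduct.rightAlgebra

theorem faithfullyFlat_map (R A B T : Type u) [CommRing R] [CommRing A] [CommRing B] [CommRing T]
    [Algebra R A] [Algebra A B] [Algebra R B] [IsScalarTower R A B] [Algebra R T]
    [Module.FaithfullyFlat A B] :
    (Algebra.TensorProduct.map (AlgHom.id T T) (IsScalarTower.toAlgHom R A B)).toRingHom.FaithfullyFlat := by
  let φ := (Algebra.TensorProduct.map (AlgHom.id T T) (IsScalarTower.toAlgHom R A B))
  letI : Algebra (T ⊗[R] A) (T ⊗[R] B) := φ.toRingHom.toAlgebra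
  letI : Algebra A (T ⊗[R] B) :=
    ((algebraMap (T ⊗[R] A) (T ⊗[R] B)).comp (algebraMap A (T ⊗[R] A))).toAlgebra
  haveI : IsScalarTower A (T ⊗[R] A) (T ⊗[R] B) := IsScalarTower.of_algebraMap_eq fun _ => rfl
  haveI : IsScalarTower A B (T ⊗[R] B) := IsScalarTower.of_algebraMap_eq fun a => by
    show φ ((1 : T) ⊗ₜ[R] a) = (1 : T) ⊗ₜ[R] algebraMap A B a
    simp [φ]
  haveI : IsScalarTower T (T ⊗[R] A) (T ⊗[R] B) := IsScalarTower.of_algebraMap_eq fun t =>
    (AlgHom.commutes φ t).symm
  haveI : IsScalarTower R (T ⊗[R] A) (T ⊗[R] B) := IsScalarTower.of_algebraMap_eq fun r =>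
    (AlgHom.commutes (φ.restrictScalars R) r).symm
  haveI : Algebra.IsPushout R A T (T ⊗[R] A) := inferInstance
  haveI : Algebra.IsPushout R B T (T ⊗[R] B) := inferInstance
  haveI : Algebra.IsPushout A B (T ⊗[R] A) (T ⊗[R] B) :=
    (Algebra.IsPushout.comp_iff R A T (T ⊗[R] A) (T := B) (T' := T ⊗[R] B)).1 inferInstance
  exact RingHom.FaithfullyFlat.isStableUnderBaseChange A B (T ⊗[R] A) (T ⊗[R] B)
    (RingHom.faithfullyFlat_algebraMap_iff.2 inferInstance)

end

theorem smooth_of_faithfullyFlat_comp_field (k A B : Type u) [Field k] [CommRing A] [CommRing B]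
    [Algebra k A] [Algebra A B] [Algebra k B] [IsScalarTower k A B] [Module.FaithfullyFlat A B]
    [Algebra.FiniteType k A] [Algebra.Smooth k B] : Algebra.Smooth k A := by
  let K := AlgebraicClosure k
  letI : Algebra (K ⊗[k] A) (K ⊗[k] B) :=
    (Algebra.TensorProduct.map (AlgHom.id K K) (IsScalarTower.toAlgHom k A B)).toRingHom.toAlgebra
  have hff : (algebraMap (K ⊗[k] A) (K ⊗[k] B)).FaithfullyFlat := by
    exact faithfullyFlat_map k A B K
  haveI : Module.FaithfullyFlat (K ⊗[k] A) (K ⊗[k] B) := RingHom.faithfullyFlat_algebraMap_iff.1 hff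
  haveI : IsRegularRing K := inferInstance
  haveI : IsRegularRing (K ⊗[k] B) := CohenLib.isRegularRing_of_smooth K (K ⊗[k] B)
  haveI : IsRegularRing (K ⊗[k] A) := Groth.Agent.S9406.result (K ⊗[k] A) (K ⊗[k] B)
  haveI : Algebra.Smooth K (K ⊗[k] A) := smooth_of_isRegularRing_of_perfectField K (K ⊗[k] A)
  exact Algebra.Smooth.of_smooth_tensorProduct_of_faithfullyFlat K

attribute [local instance] IsArtinianRing.fieldOfSubtypeIsMaximal in
theorem formallyUnramified_of_injective_of_perfectField (K A B : Type u) [Field K] [PerfectField K]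
    [CommRing A] [CommRing B] [Algebra K A] [Algebra K B] [Algebra.FiniteType K A]
    [Algebra.FiniteType K B] [Algebra.FormallyUnramified K B] (f : A →ₐ[K] B)
    (hf : Function.Injective f) : Algebra.FormallyUnramified K A := by
  haveI : Module.Finite K B := Algebra.FormallyUnramified.finite_of_free K B
  haveI : IsReduced B := Algebra.FormallyUnramified.isReduced_of_field K B
  haveI : IsReduced A := isReduced_of_injective f hf
  haveI : Module.Finite K A := Module.Finite.of_injective f.toLinearMap hf
  haveI : IsArtinianRing A := isArtinian_of_tower K inferInstance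
  haveI : Algebra.FormallyEtale K A := (Algebra.FormallyEtale.iff_exists_algEquiv_prod K A).2
    ⟨_, inferInstance, _, _, _, (IsArtinianRing.equivPi A).restrictScalars K, fun I => inferInstance⟩
  infer_instance

theorem formallyUnramified_of_faithfullyFlat_comp_field (k A B : Type u) [Field k] [CommRing A]
    [CommRing B] [Algebra k A] [Algebra A B] [Algebra k B] [IsScalarTower k A B]
    [Module.FaithfullyFlat A B] [Algebra.FiniteType k A] [Algebra.FiniteType k B]
    [Algebra.FormallyUnramified k B] : Algebra.FormallyUnramified k A := by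
  let K := AlgebraicClosure k
  letI : Algebra (K ⊗[k] A) (K ⊗[k] B) :=
    (Algebra.TensorProduct.map (AlgHom.id K K) (IsScalarTower.toAlgHom k A B)).toRingHom.toAlgebra
  haveI : IsScalarTower K (K ⊗[k] A) (K ⊗[k] B) := IsScalarTower.of_algebraMap_eq fun x =>
    (AlgHom.commutes (Algebra.TensorProduct.map (AlgHom.id K K) (IsScalarTower.toAlgHom k A B)) x).symm
  haveI : Module.FaithfullyFlat (K ⊗[k] A) (K ⊗[k] B) := RingHom.faithfullyFlat_algebraMap_iff.1
    (faithfullyFlat_map k A B K)
  haveI : Algebra.FormallyUnramified K (K ⊗[k] A) :=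
    formallyUnramified_of_injective_of_perfectField K (K ⊗[k] A) (K ⊗[k] B)
      (IsScalarTower.toAlgHom K (K ⊗[k] A) (K ⊗[k] B))
      (FaithfulSMul.algebraMap_injective (K ⊗[k] A) (K ⊗[k] B))
  exact Algebra.FormallyUnramified.of_formallyUnramified_tensorProduct_of_faithfullyFlat K

theorem smooth_of_fppf_comp_algebra (R A B : Type u) [CommRing R] [CommRing A] [CommRing B]
    [Algebra R A] [Algebra A B] [Algebra R B] [IsScalarTower R A B] [Module.FaithfullyFlat A B]
    [Algebra.FinitePresentation A B] [Algebra.Smooth R B] : Algebra.Smooth R A := by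
  haveI : Algebra.FinitePresentation R A := Groth.Agent.S0112.result (B := B)
  haveI : Module.Flat R A := AlgSpLib.flat_of_faithfullyFlat_comp R A B
  refine Algebra.Smooth.of_formallySmooth_fiber fun p _ => ?_
  let k := p.ResidueField
  letI : Algebra (k ⊗[R] A) (k ⊗[R] B) :=
    (Algebra.TensorProduct.map (AlgHom.id k k) (IsScalarTower.toAlgHom R A B)).toRingHom.toAlgebra
  haveI : IsScalarTower k (k ⊗[R] A) (k ⊗[R] B) := IsScalarTower.of_algebraMap_eq fun x =>
    (AlgHom.commutes (Algebra.TensorProduct.map (AlgHom.id k k) (IsScalarTower.toAlgHom R A B)) x).symm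
  haveI : Module.FaithfullyFlat (k ⊗[R] A) (k ⊗[R] B) := RingHom.faithfullyFlat_algebraMap_iff.1
    (faithfullyFlat_map R A B k)
  haveI : Algebra.Smooth k (k ⊗[R] A) := smooth_of_faithfullyFlat_comp_field k (k ⊗[R] A) (k ⊗[R] B)
  show Algebra.FormallySmooth k (k ⊗[R] A)
  infer_instance

section
attribute [local instance] Algebra.TensorProduct.rightAlgebra

theorem formallyUnramified_of_forall_fiber (R S : Type u) [CommRing R] [CommRing S] [Algebra R S]
    [Algebra.FiniteType R S]
    (hfib : ∀ (p : Ideal R) [p.IsPrime], Algebra.FormallyUnramified p.ResidueField (p.Fiber S)) :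
    Algebra.FormallyUnramified R S := by
  rw [Algebra.formallyUnramified_iff, ← Module.support_eq_empty_iff (R := S)]
  refine Set.eq_empty_iff_forall_notMem.mpr fun Q hQ => ?_
  rw [Module.mem_support_iff_nontrivial_residueField_tensorProduct] at hQ
  let p : PrimeSpectrum R := PrimeSpectrum.comap (algebraMap R S) Q
  haveI := hfib p.asIdeal
  haveI : Q.asIdeal.LiesOver p.asIdeal := ⟨rfl⟩
  let F := p.asIdeal.Fiber S
  let L := Q.asIdeal.ResidueField
  let ψ : F →ₐ[R] L := Algebra.TensorProduct.lift
    (Ideal.ResidueField.mapₐ p.asIdeal Q.asIdeal (Algebra.ofId R S) rfl) (IsScalarTower.toAlgHom R S L)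
    (fun _ _ => .all _ _)
  letI : Algebra F L := ψ.toRingHom.toAlgebra
  haveI : IsScalarTower S F L := .of_algebraMap_eq fun s => by
    show algebraMap S L s = ψ (algebraMap S F s)
    simp [ψ, F, Algebra.TensorProduct.algebraMap_apply, Algebra.TensorProduct.right_algebraMap_apply]
  haveI : Subsingleton (F ⊗[S] Ω[S⁄R]) :=
    (KaehlerDifferential.tensorKaehlerEquiv R p.asIdeal.ResidueField S F).toEquiv.subsingleton
  haveI : Subsingleton (L ⊗[S] Ω[S⁄R]) :=
    (AlgebraTensorModule.cancelBaseChange S F L L Ω[S⁄R]).symm.toEquiv.subsingleton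
  exact not_nontrivial_iff_subsingleton.mpr this hQ

end

theorem formallyUnramified_of_fppf_comp_algebra (R A B : Type u) [CommRing R] [CommRing A] [CommRing B]
    [Algebra R A] [Algebra A B] [Algebra R B] [IsScalarTower R A B] [Module.FaithfullyFlat A B]
    [Algebra.FiniteType R A] [Algebra.FiniteType R B]
    [Algebra.FormallyUnramified R B] : Algebra.FormallyUnramified R A := by
  refine formallyUnramified_of_forall_fiber R A fun p _ => ?_
  let k := p.ResidueField
  letI : Algebra (k ⊗[R] A) (k ⊗[R] B) :=
    (Algebra.TensorProduct.map (AlgHom.id k k) (IsScalarTower.toAlgHom R A B)).toRingHom.toAlgebra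
  haveI : IsScalarTower k (k ⊗[R] A) (k ⊗[R] B) := IsScalarTower.of_algebraMap_eq fun x =>
    (AlgHom.commutes (Algebra.TensorProduct.map (AlgHom.id k k) (IsScalarTower.toAlgHom R A B)) x).symm
  haveI : Module.FaithfullyFlat (k ⊗[R] A) (k ⊗[R] B) := RingHom.faithfullyFlat_algebraMap_iff.1
    (faithfullyFlat_map R A B k)
  exact formallyUnramified_of_faithfullyFlat_comp_field k (k ⊗[R] A) (k ⊗[R] B)

end FlatLib
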