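import Mathlib
import Groth.Agent.FlatLib.FppfSource
import Groth.Agent.FlatLib.SmoothSource

/-! Smooth, etale and unramified morphisms descend along fppf covers of the source. -/

set_option autoImplicit false
universe u

open CategoryTheory CategoryTheory.Limits AlgebraicGeometry

noncomputable section

namespace FlatLib

/-- Descent to the source along an fppf cover for a property given by ring maps. -/
theorem of_fppf_comp_of_finiteType {P : MorphismProperty Scheme.{u}}
    {Q : ∀ {R S : Type u} [CommRing R] [CommRing S], (R →+* S) → Prop} [HasRingHomProperty P Q]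
    (hQ : ∀ {R A B : Type u} [CommRing R] [CommRing A] [CommRing B] (φ : R →+* A) (ψ : A →+* B),
      φ.FiniteType → ψ.FinitePresentation → ψ.FaithfullyFlat → Q (ψ.comp φ) → Q φ)
    {U U' Y : Scheme.{u}} (g : U' ⟶ U) [Flat g] [LocallyOfFinitePresentation g] [Surjective g]
    (f : U ⟶ Y) [LocallyOfFiniteType f] (h : P (g ≫ f)) : P f := by
  have key : ∀ {X Y' X' : Scheme.{u}} [IsAffine X] [IsAffine Y'] (f' : X ⟶ Y') [LocallyOfFiniteType f'] (g' : X' ⟶ X)
      [Flat g'] [LocallyOfFinitePresentation g'] [Surjective g'], P (g' ≫ f') → P f' := by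
    intro X Y' X' _ _ f' _ g' _ _ _ hh
    obtain ⟨E, k, _, _, _, hk, hloc⟩ := exists_affine_fppf_surjective g'
    have hE : P (k ≫ g' ≫ f') := hloc P _ hh
    rw [← Category.assoc, HasRingHomProperty.iff_of_isAffine (P := P), Scheme.Hom.comp_appTop,
      CommRingCat.hom_comp] at hE
    rw [HasRingHomProperty.iff_of_isAffine (P := P)]
    refine hQ _ _ ((HasRingHomProperty.iff_of_isAffine (P := @LocallyOfFiniteType)).1 inferInstance) ((HasRingHomProperty.iff_of_isAffine (P := @LocallyOfFinitePresentation)).1 inferInstance) ?_ hE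
    rw [RingHom.FaithfullyFlat.iff_flat_and_comap_surjective]
    refine ⟨(HasRingHomProperty.iff_of_isAffine (P := @Flat)).1 inferInstance, ?_⟩
    have : Surjective (Spec.map (k ≫ g').appTop) := by
      have e1 := Scheme.isoSpec_hom_naturality (k ≫ g')
      have : Surjective (E.isoSpec.hom ≫ Spec.map (k ≫ g').appTop) := by
        rw [e1]; infer_instance
      exact .of_comp E.isoSpec.hom _
    exact (Spec.map (k ≫ g').appTop).surjective
  rw [IsZariskiLocalAtTarget.iff_of_openCover (P := P) Y.affineCover]
  intro i
  let c := Y.affineCover.f i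
  change P (pullback.snd f c)
  let gA := pullback.snd g (pullback.fst f c)
  have sq : IsPullback (pullback.fst g (pullback.fst f c)) (gA ≫ pullback.snd f c) (g ≫ f) c :=
    (IsPullback.of_hasPullback g (pullback.fst f c)).paste_vert (IsPullback.of_hasPullback f c)
  have hA : P (gA ≫ pullback.snd f c) := IsZariskiLocalAtTarget.of_isPullback sq h
  rw [IsZariskiLocalAtSource.iff_of_openCover (P := P) (pullback f c).affineCover]
  intro j
  refine key _ (pullback.snd gA ((pullback f c).affineCover.f j)) ?_
  rw [← pullback.condition_assoc]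
  exact IsZariskiLocalAtSource.comp hA _

theorem smooth_of_fppf_comp {X Y S : Scheme.{u}} (f : X ⟶ Y) (q : Y ⟶ S) [Surjective f] [Flat f]
    [LocallyOfFinitePresentation f] [h : Smooth (f ≫ q)] : Smooth q := by
  refine of_fppf_comp (P := @Smooth) (fun {R A B} _ _ _ φ ψ hfp hff hs => ?_) f q h
  letI := φ.toAlgebra; letI := ψ.toAlgebra; letI := (ψ.comp φ).toAlgebra
  haveI : IsScalarTower R A B := IsScalarTower.of_algebraMap_eq fun _ => rfl
  haveI : Algebra.FinitePresentation A B := hfp
  haveI : Module.FaithfullyFlat A B := RingHom.faithfullyFlat_algebraMap_iff.1 hff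
  haveI : Algebra.Smooth R B := RingHom.smooth_algebraMap.1 hs
  exact RingHom.smooth_algebraMap.2 (smooth_of_fppf_comp_algebra R A B)

theorem formallyUnramified_of_fppf_comp {X Y S : Scheme.{u}} (f : X ⟶ Y) (q : Y ⟶ S) [Surjective f]
    [Flat f] [LocallyOfFinitePresentation f] [LocallyOfFiniteType q]
    [h : FormallyUnramified (f ≫ q)] : FormallyUnramified q := by
  refine of_fppf_comp_of_finiteType (P := @FormallyUnramified)
    (fun {R A B} _ _ _ φ ψ hft hfp hff hs => ?_) f q h
  letI := φ.toAlgebra; letI := ψ.toAlgebra; letI := (ψ.comp φ).toAlgebra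
  haveI : IsScalarTower R A B := IsScalarTower.of_algebraMap_eq fun _ => rfl
  haveI : Algebra.FinitePresentation A B := hfp
  haveI : Algebra.FiniteType R A := hft
  haveI : Algebra.FiniteType R B := Algebra.FiniteType.trans (S := A) inferInstance inferInstance
  haveI : Module.FaithfullyFlat A B := RingHom.faithfullyFlat_algebraMap_iff.1 hff
  haveI : Algebra.FormallyUnramified R B := RingHom.formallyUnramified_algebraMap.1 hs
  exact RingHom.formallyUnramified_algebraMap.2 (formallyUnramified_of_fppf_comp_algebra R A B)

theorem etale_of_fppf_comp {X Y S : Scheme.{u}} (f : X ⟶ Y) (q : Y ⟶ S) [Surjective f] [Flat f]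
    [LocallyOfFinitePresentation f] [Etale (f ≫ q)] : Etale q := by
  haveI := smooth_of_fppf_comp f q
  haveI := formallyUnramified_of_fppf_comp f q
  haveI : Flat q := inferInstance
  haveI : LocallyOfFinitePresentation q := inferInstance
  exact Etale.of_formallyUnramified_of_flat q

end FlatLib
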