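import Groth.Agent.FlatLib.GenericReduced
import Mathlib

/-! Generic flatness over a reduced scheme. -/

set_option autoImplicit false
universe u

open TensorProduct AlgebraicGeometry CategoryTheory TopologicalSpace

namespace FlatLib

theorem appLE_basicOpen_good {X S : Scheme.{u}} (f : X ⟶ S) {W : S.Opens} (hW : IsAffineOpen W)
    {V : X.Opens} (hV : IsAffineOpen V) (hVW : V ≤ f ⁻¹ᵁ W) (r : Γ(S, W))
    (h : letI := (f.appLE W V hVW).hom.toAlgebra
      ∀ (L : Type u) [CommRing L] [Algebra Γ(S, W) L], IsUnit (algebraMap Γ(S, W) L r) →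
        Module.Free L (L ⊗[Γ(S, W)] Γ(X, V)) ∧ Algebra.FinitePresentation L (L ⊗[Γ(S, W)] Γ(X, V))) :
    (f.appLE (S.basicOpen r) (X.basicOpen (f.appLE W V hVW r)) (by simp [Scheme.Hom.appLE])).hom.Flat ∧
    (f.appLE (S.basicOpen r) (X.basicOpen (f.appLE W V hVW r))
      (by simp [Scheme.Hom.appLE])).hom.FinitePresentation := by
  rw [IsAffineOpen.appLE_eq_away_map f hW hV hVW r, CommRingCat.hom_ofHom]
  let A := Γ(S, W)
  let T := Γ(X, V)
  let A' := Γ(S, S.basicOpen r)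
  let B := Γ(X, X.basicOpen (f.appLE W V hVW r))
  letI : Algebra A T := (f.appLE W V hVW).hom.toAlgebra
  haveI := hW.isLocalization_basicOpen r
  haveI := hV.isLocalization_basicOpen (f.appLE W V hVW r)
  let φ : A' →+* B := IsLocalization.Away.map _ _ (f.appLE W V hVW).hom r
  show φ.Flat ∧ φ.FinitePresentation
  letI : Algebra A' B := φ.toAlgebra
  letI : Algebra A B := ((algebraMap T B).comp (algebraMap A T)).toAlgebra
  haveI : IsScalarTower A T B := IsScalarTower.of_algebraMap_eq fun _ ↦ rfl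
  haveI : IsScalarTower A A' B := IsScalarTower.of_algebraMap_eq fun a ↦ by
    show algebraMap T B (algebraMap A T a) = φ (algebraMap A A' a)
    simp only [φ, IsLocalization.Away.map]
    exact (IsLocalization.map_eq (S := A') (Q := B) (M := Submonoid.powers r) _ a).symm
  haveI : IsLocalization (Algebra.algebraMapSubmonoid T (Submonoid.powers r)) B := by
    rw [Algebra.algebraMapSubmonoid_powers]
    exact hV.isLocalization_basicOpen (f.appLE W V hVW r)
  haveI : Algebra.IsPushout A A' T B :=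
    (Algebra.isPushout_of_isLocalization (Submonoid.powers r) A' T B).symm
  let e : A' ⊗[A] T ≃ₐ[A'] B := Algebra.IsPushout.equiv A A' T B
  obtain ⟨hfree, hfp⟩ := h A' (IsLocalization.Away.algebraMap_isUnit r)
  haveI := hfree
  have h1 : Module.Free A' B := Module.Free.of_equiv e.toLinearEquiv
  exact ⟨(RingHom.flat_algebraMap_iff (R := A') (S := B)).mpr inferInstance,
    RingHom.finitePresentation_algebraMap.mpr (Algebra.FinitePresentation.equiv e)⟩

theorem appLE_congr_prop {X S : Scheme.{u}} (f : X ⟶ S)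
    (Q : ∀ {R T : Type u} [CommRing R] [CommRing T], (R →+* T) → Prop) {U U' : S.Opens} {V V' : X.Opens}
    (hU : U = U') (hV : V = V') (e : V ≤ f ⁻¹ᵁ U) (e' : V' ≤ f ⁻¹ᵁ U') (h : Q (f.appLE U V e).hom) :
    Q (f.appLE U' V' e').hom := by
  subst hU; subst hV; exact h

theorem exists_basicOpen_good {X S : Scheme.{u}} (f : X ⟶ S) [IsReduced S] [LocallyOfFiniteType f]
    [QuasiCompact f] {W : S.Opens} (hW : IsAffineOpen W) (hne : (W : Set S).Nonempty) :
    ∃ O : S.Opens, O ≤ W ∧ (O : Set S).Nonempty ∧ Flat (f ∣_ O) ∧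
      LocallyOfFinitePresentation (f ∣_ O) := by
  classical
  obtain ⟨s₀, hs₀⟩ := hne
  haveI : Nonempty W := ⟨⟨s₀, hs₀⟩⟩
  haveI : Nontrivial Γ(S, W) := inferInstance
  choose V hV hxV hVW using fun x : (f ⁻¹ᵁ W : X.Opens) =>
    X.isBasis_affineOpens.exists_subset_of_mem_open x.2 (f ⁻¹ᵁ W).2
  choose V' hV' hVV' using hV
  have hle : ∀ x, V' x ≤ f ⁻¹ᵁ W := fun x z hz ↦ hVW x ((hVV' x) ▸ hz)
  obtain ⟨t, ht⟩ := (f.isCompact_preimage hW.isCompact).elim_finite_subcover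
    (fun x : (f ⁻¹ᵁ W : X.Opens) ↦ (V' x : Set X)) (fun x ↦ (V' x).2)
    fun x hx ↦ Set.mem_iUnion.mpr ⟨⟨x, hx⟩, (hVV' ⟨x, hx⟩).symm ▸ hxV ⟨x, hx⟩⟩
  have key : ∀ t : Finset (f ⁻¹ᵁ W : X.Opens), ∃ r : Γ(S, W), r ≠ 0 ∧ ∀ x ∈ t,
      letI := (f.appLE W (V' x) (hle x)).hom.toAlgebra
      ∀ (L : Type u) [CommRing L] [Algebra Γ(S, W) L], IsUnit (algebraMap Γ(S, W) L r) →
        Module.Free L (L ⊗[Γ(S, W)] Γ(X, V' x)) ∧
        Algebra.FinitePresentation L (L ⊗[Γ(S, W)] Γ(X, V' x)) := by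
    intro t
    induction t using Finset.induction_on with
    | empty => exact ⟨1, one_ne_zero, fun x hx ↦ absurd hx (Finset.notMem_empty x)⟩
    | insert a t hat ih =>
      obtain ⟨r, hr, hrt⟩ := ih
      letI : Algebra Γ(S, W) Γ(X, V' a) := (f.appLE W (V' a) (hle a)).hom.toAlgebra
      haveI : Algebra.FiniteType Γ(S, W) Γ(X, V' a) := f.finiteType_appLE hW (hV' a) (hle a)
      obtain ⟨r', hr', hdvd, hgood⟩ := exists_free_fp_algebra (S := Γ(X, V' a)) hr
      refine ⟨r', hr', fun x hx ↦ ?_⟩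
      rcases Finset.mem_insert.mp hx with rfl | hx
      · exact hgood
      · intro L _ _ hu
        exact hrt x hx L (isUnit_of_dvd_unit (map_dvd _ hdvd) hu)
  obtain ⟨r, hr, hgood⟩ := key t
  refine ⟨S.basicOpen r, S.basicOpen_le r, ?_, ?_⟩
  · rwa [Set.nonempty_iff_ne_empty, ne_eq, ← Opens.coe_bot, SetLike.coe_set_eq, basicOpen_eq_bot_iff]
  have hO := hW.basicOpen r
  have main : ∀ z : ((f ⁻¹ᵁ S.basicOpen r : X.Opens) : Scheme.{u}),
      ∃ (U : (S.basicOpen r : Scheme.{u}).affineOpens)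
        (V : ((f ⁻¹ᵁ S.basicOpen r : X.Opens) : Scheme.{u}).affineOpens) (_ : z ∈ V.1)
        (e : V.1 ≤ (f ∣_ S.basicOpen r) ⁻¹ᵁ U.1),
        ((f ∣_ S.basicOpen r).appLE U V e).hom.Flat ∧
          ((f ∣_ S.basicOpen r).appLE U V e).hom.FinitePresentation := by
    rintro ⟨z, hz⟩
    have hzW : z ∈ (f ⁻¹ᵁ W : X.Opens) := S.basicOpen_le r hz
    obtain ⟨x, hxt, hzx⟩ := Set.mem_iUnion₂.mp (ht hzW)
    obtain ⟨hflat, hfp⟩ := appLE_basicOpen_good f hW (hV' x) (hle x) r (hgood x hxt)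
    let P := f ⁻¹ᵁ S.basicOpen r
    let Vr := X.basicOpen (f.appLE W (V' x) (hle x) r)
    have hVr : Vr = V' x ⊓ P := by simp [Vr, P, Scheme.Hom.appLE]
    have hVP : Vr ≤ P := hVr.le.trans inf_le_right
    have hVaff : IsAffineOpen (P.ι ⁻¹ᵁ Vr) :=
      ((hV' x).basicOpen _).preimage_of_isOpenImmersion P.ι (by rw [Scheme.Opens.opensRange_ι]; exact hVP)
    have hUaff : IsAffineOpen ((S.basicOpen r).ι ⁻¹ᵁ S.basicOpen r) :=
      hO.preimage_of_isOpenImmersion _ (by rw [Scheme.Opens.opensRange_ι])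
    have hU' : (S.basicOpen r).ι ''ᵁ ((S.basicOpen r).ι ⁻¹ᵁ S.basicOpen r) = S.basicOpen r := by
      rw [Scheme.Hom.image_preimage_eq_opensRange_inf, Scheme.Opens.opensRange_ι, inf_idem]
    have hV'' : P.ι ''ᵁ (P.ι ⁻¹ᵁ Vr) = Vr := by
      rw [Scheme.Hom.image_preimage_eq_opensRange_inf, Scheme.Opens.opensRange_ι, inf_eq_right]
      exact hVP
    refine ⟨⟨_, hUaff⟩, ⟨_, hVaff⟩, hVr.ge ⟨hzx, hz⟩, fun y _ ↦ ((f ∣_ S.basicOpen r) y).2, ?_⟩
    rw [morphismRestrict_appLE]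
    exact ⟨appLE_congr_prop f RingHom.Flat hU'.symm hV''.symm _ _ hflat,
      appLE_congr_prop f RingHom.FinitePresentation hU'.symm hV''.symm _ _ hfp⟩
  constructor
  · rw [HasRingHomProperty.iff_exists_appLE (P := @Flat)
      (RingHom.Flat.stableUnderComposition.stableUnderCompositionWithLocalizationAway RingHom.Flat.holdsForLocalizationAway).left]
    intro z
    obtain ⟨U, V, hz, e, h, -⟩ := main z
    exact ⟨U, V, hz, e, h⟩
  · rw [HasRingHomProperty.iff_exists_appLE (P := @LocallyOfFinitePresentation)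
      (RingHom.finitePresentation_stableUnderComposition.stableUnderCompositionWithLocalizationAway
        RingHom.finitePresentation_holdsForLocalizationAway).left]
    intro z
    obtain ⟨U, V, hz, e, -, h⟩ := main z
    exact ⟨U, V, hz, e, h⟩

theorem isLocalAtTarget_of_sSup {X S : Scheme.{u}} (f : X ⟶ S) (P : MorphismProperty Scheme.{u})
    [IsZariskiLocalAtTarget P] (good : Set S.Opens) (h : ∀ O ∈ good, P (f ∣_ O)) :
    P (f ∣_ sSup good) := by
  refine IsZariskiLocalAtTarget.of_iSup_eq_top (P := P)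
    (fun O : good ↦ (sSup good).ι ⁻¹ᵁ O.1) ?_ fun O ↦ ?_
  · refine eq_top_iff.mpr fun y _ ↦ ?_
    obtain ⟨O, hO, hy⟩ := Opens.mem_sSup.mp y.2
    exact Opens.mem_iSup.mpr ⟨⟨O, hO⟩, hy⟩
  · refine (P.arrow_mk_iso_iff (morphismRestrictRestrict f _ _ ≪≫ morphismRestrictEq f ?_)).mpr (h _ O.2)
    rw [Scheme.Hom.image_preimage_eq_opensRange_inf, Scheme.Opens.opensRange_ι, inf_eq_right]
    exact le_sSup O.2

/-- Generic flatness over a reduced scheme. -/
theorem exists_dense_flat {X S : Scheme.{u}} (f : X ⟶ S) [IsReduced S] [LocallyOfFiniteType f]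
    [QuasiCompact f] :
    ∃ U : S.Opens, Dense (U : Set S) ∧ Flat (f ∣_ U) ∧ LocallyOfFinitePresentation (f ∣_ U) := by
  let good : Set S.Opens := {O | Flat (f ∣_ O) ∧ LocallyOfFinitePresentation (f ∣_ O)}
  refine ⟨sSup good, ?_, ?_, ?_⟩
  · rw [dense_iff_inter_open]
    rintro V hV ⟨s, hs⟩
    obtain ⟨_, ⟨W, hW, rfl⟩, hsW, hWV⟩ := S.isBasis_affineOpens.exists_subset_of_mem_open hs hV
    obtain ⟨O, hOW, ⟨o, ho⟩, hflat, hfp⟩ := exists_basicOpen_good f hW ⟨s, hsW⟩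
    exact ⟨o, hWV (hOW ho), Opens.mem_sSup.mpr ⟨O, ⟨hflat, hfp⟩, ho⟩⟩
  · exact isLocalAtTarget_of_sSup f @Flat good fun O hO ↦ hO.1
  · exact isLocalAtTarget_of_sSup f @LocallyOfFinitePresentation good fun O hO ↦ hO.2

end FlatLib
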