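import Groth.Agent.FlatLib.Local
import Mathlib

/-! Tensoring with a base changed module. -/

set_option autoImplicit false
universe u

open TensorProduct LinearMap

namespace FlatLib

section kappa

variable {R R' M M' : Type u} [CommRing R] [CommRing R'] [Algebra R R'] [AddCommGroup M]
  [Module R M] [AddCommGroup M'] [Module R M'] [Module R' M'] [IsScalarTower R R' M']
  (ι : M →ₗ[R] M')
  (N : Type u) [AddCommGroup N] [Module R N] [Module R' N] [IsScalarTower R R' N]

/-- The comparison map `M ⊗[R] N → M' ⊗[R'] N`. -/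
noncomputable def kappa : M ⊗[R] N →ₗ[R] M' ⊗[R'] N :=
  TensorProduct.lift (LinearMap.mk₂ R (fun m n ↦ ι m ⊗ₜ[R'] n)
    (fun a b n ↦ by rw [map_add, add_tmul])
    (fun c a n ↦ by rw [map_smul, smul_tmul'])
    (fun a m n ↦ by rw [tmul_add])
    (fun c a n ↦ by
      rw [← algebraMap_smul R' c n, ← smul_tmul, algebraMap_smul, smul_tmul']))

@[simp]
theorem kappa_tmul (m : M) (n : N) : kappa ι N (m ⊗ₜ[R] n) = ι m ⊗ₜ[R'] n := rfl

theorem kappa_bijective (hι : IsBaseChange R' ι) : Function.Bijective (kappa (R' := R') ι N) := by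
  let e := TensorProduct.comm R M N ≪≫ₗ ((hι.tensorEquiv N).symm.restrictScalars R) ≪≫ₗ
    (TensorProduct.comm R' N M').restrictScalars R
  have : kappa ι N = e.toLinearMap := TensorProduct.ext' fun m n ↦ by
    simp [e, IsBaseChange.tensorEquiv, IsBaseChange.equiv_tmul]
  rw [this]
  exact e.bijective

theorem kappa_lTensor {P : Type u} [AddCommGroup P] [Module R P] [Module R' P]
    [IsScalarTower R R' P] (g : N →ₗ[R'] P) (y : M ⊗[R] N) :
    kappa ι P ((g.restrictScalars R).lTensor M y) = g.lTensor M' (kappa ι N y) := by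
  induction y using TensorProduct.induction_on with
  | zero => simp
  | add a b ha hb => simp only [map_add, ha, hb]
  | tmul m n => simp

variable {S S' : Type u} [CommRing S] [CommRing S'] [Module S M] [SMulCommClass R S M]
  [Module S' M'] [SMulCommClass R' S' M'] (φ : S →+* S')

theorem kappa_smul (hφ : ∀ (s : S) (m : M), ι (s • m) = φ s • ι m) (s : S) (y : M ⊗[R] N) :
    kappa ι N (s • y) = φ s • kappa (R' := R') ι N y := by
  induction y using TensorProduct.induction_on with
  | zero => simp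
  | add a b ha hb => simp only [smul_add, map_add, ha, hb]
  | tmul m n => rw [smul_tmul', kappa_tmul, kappa_tmul, hφ, smul_tmul']

end kappa

section transition

variable {R₁ R₂ M₁ M₂ N₁ N₂ : Type u} [CommRing R₁] [CommRing R₂] [AddCommGroup M₁] [Module R₁ M₁]
  [AddCommGroup M₂] [Module R₂ M₂] [AddCommGroup N₁] [Module R₁ N₁] [AddCommGroup N₂] [Module R₂ N₂]
  {θ : R₁ →+* R₂} (g : M₁ →ₛₗ[θ] M₂) (h : N₁ →ₛₗ[θ] N₂)

/-- The map of tensor products induced by semilinear maps. -/
noncomputable def tmap : M₁ ⊗[R₁] N₁ →+ M₂ ⊗[R₂] N₂ :=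
  TensorProduct.liftAddHom
    { toFun := fun m ↦
        { toFun := fun n ↦ g m ⊗ₜ[R₂] h n
          map_zero' := by rw [map_zero, tmul_zero]
          map_add' := fun a b ↦ by rw [map_add, tmul_add] }
      map_zero' := by ext n; simp
      map_add' := fun a b ↦ by ext n; simp [add_tmul] }
    (fun r m n ↦ by simp [LinearMap.map_smulₛₗ, smul_tmul])

@[simp]
theorem tmap_tmul (m : M₁) (n : N₁) : tmap g h (m ⊗ₜ[R₁] n) = g m ⊗ₜ[R₂] h n := rfl

theorem tmap_smul {S₁ S₂ : Type u} [CommRing S₁] [CommRing S₂] [Module S₁ M₁]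
    [SMulCommClass R₁ S₁ M₁] [Module S₂ M₂] [SMulCommClass R₂ S₂ M₂] (φ : S₁ →+* S₂)
    (hφ : ∀ (s : S₁) (m : M₁), g (s • m) = φ s • g m) (s : S₁) (x : M₁ ⊗[R₁] N₁) :
    tmap g h (s • x) = φ s • tmap g h x := by
  induction x using TensorProduct.induction_on with
  | zero => simp
  | add a b ha hb => simp only [smul_add, map_add, ha, hb]
  | tmul m n => rw [smul_tmul', tmap_tmul, tmap_tmul, hφ, smul_tmul']

theorem tmap_kappa {A M₀ : Type u} [CommRing A] [AddCommGroup M₀] [Module A M₀] [Algebra A R₁]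
    [Algebra A R₂] [Module A M₁] [IsScalarTower A R₁ M₁] [Module A M₂] [IsScalarTower A R₂ M₂]
    [Module A N₁] [IsScalarTower A R₁ N₁] [Module A N₂] [IsScalarTower A R₂ N₂]
    (ι₁ : M₀ →ₗ[A] M₁) (ι₂ : M₀ →ₗ[A] M₂) (hg : ∀ m, g (ι₁ m) = ι₂ m) (hA : N₁ →ₗ[A] N₂)
    (hh : ∀ n, hA n = h n) (y : M₀ ⊗[A] N₁) :
    tmap g h (kappa ι₁ N₁ y) = kappa ι₂ N₂ (hA.lTensor M₀ y) := by
  induction y using TensorProduct.induction_on with
  | zero => simp
  | add a b ha hb => simp only [map_add, ha, hb]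
  | tmul m n => simp [hg, hh]

end transition

section flat

variable {R R' S S' M M' : Type u} [CommRing R] [CommRing R'] [Algebra R R'] [CommRing S]
  [CommRing S'] [Algebra R S] [Algebra R' S'] [AddCommGroup M] [Module R M] [Module S M]
  [IsScalarTower R S M] [AddCommGroup M'] [Module R M'] [Module R' M'] [Module S' M']
  [IsScalarTower R R' M'] [IsScalarTower R' S' M'] {Mq M'q : Type u} [AddCommGroup Mq]
  [Module R Mq] [Module S Mq] [IsScalarTower R S Mq] [AddCommGroup M'q]
  [Module R' M'q] [Module S' M'q] [IsScalarTower R' S' M'q]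

/-- Base change preserves flatness of localisations. -/
theorem flat_localized_baseChange (T : Submonoid S) (ψ : M →ₗ[S] Mq) [IsLocalizedModule T ψ]
    (T' : Submonoid S') (ψ' : M' →ₗ[S'] M'q) [IsLocalizedModule T' ψ'] (φ : S →+* S')
    (hT : ∀ t ∈ T, φ t ∈ T') (ι : M →ₗ[R] M') (hι : IsBaseChange R' ι)
    (hφ : ∀ (s : S) (m : M), ι (s • m) = φ s • ι m) (h : Module.Flat R Mq) :
    Module.Flat R' M'q := by
  refine (flat_localized_iff T' ψ').mpr fun P _ _ N x hx ↦ ?_
  letI := Module.compHom P (algebraMap R R')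
  haveI : IsScalarTower R R' P := IsScalarTower.of_algebraMap_smul fun _ _ ↦ rfl
  obtain ⟨y, rfl⟩ := (kappa_bijective ι N hι).2 x
  rw [← kappa_lTensor] at hx
  have hy := (kappa_bijective ι P hι).1 (hx.trans (map_zero _).symm)
  obtain ⟨t, ht, hty⟩ := (flat_localized_iff T ψ).mp h P (N.restrictScalars R) y hy
  refine ⟨φ t, hT t ht, ?_⟩
  rw [← kappa_smul ι N φ hφ, show t • y = 0 from hty, map_zero]

end flat

end FlatLib
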