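import Groth.Agent.FlatLib.Nagata
import Mathlib

/-! Generic freeness. -/

set_option autoImplicit false
universe u

open TensorProduct

namespace FlatLib

/-- `M` becomes free after inverting a nonzero element of `R`. -/
def GFree (R : Type u) [CommRing R] (M : Type u) [AddCommGroup M] [Module R M] : Prop :=
  ∃ f : R, f ≠ 0 ∧ Module.Free (Localization.Away f) (Localization.Away f ⊗[R] M)

variable {R : Type u} [CommRing R] {M A B C : Type u} [AddCommGroup M] [Module R M]
  [AddCommGroup A] [Module R A] [AddCommGroup B] [Module R B] [AddCommGroup C] [Module R C]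

theorem free_tensor_of_isUnit {f : R} (L : Type u) [CommRing L] [Algebra R L]
    (h : IsUnit (algebraMap R L f))
    (hM : Module.Free (Localization.Away f) (Localization.Away f ⊗[R] M)) :
    Module.Free L (L ⊗[R] M) := by
  letI : Algebra (Localization.Away f) L := (IsLocalization.Away.lift f h).toAlgebra
  haveI : IsScalarTower R (Localization.Away f) L := IsScalarTower.of_algebraMap_eq fun r ↦
    (IsLocalization.Away.lift_eq f h r).symm
  exact Module.Free.of_equiv
    (AlgebraTensorModule.cancelBaseChange R (Localization.Away f) L L M)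

theorem GFree.of_equiv (h : GFree R A) (e : A ≃ₗ[R] B) : GFree R B := by
  obtain ⟨f, hf, hA⟩ := h
  exact ⟨f, hf, Module.Free.of_equiv (AlgebraTensorModule.congr (LinearEquiv.refl _ _) e)⟩

theorem GFree.of_free [Nontrivial R] [Module.Free R M] : GFree R M :=
  ⟨1, one_ne_zero, inferInstance⟩

theorem GFree.of_smul_eq_zero {r : R} (hr : r ≠ 0) (h : ∀ x : M, r • x = 0) : GFree R M := by
  refine ⟨r, hr, ?_⟩
  have : Subsingleton (Localization.Away r ⊗[R] M) := subsingleton_of_forall_eq 0 fun z ↦ by
    induction z using TensorProduct.induction_on with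
    | zero => rfl
    | add x y hx hy => rw [hx, hy, add_zero]
    | tmul x m =>
      obtain ⟨u, hu⟩ := IsLocalization.Away.algebraMap_isUnit (S := Localization.Away r) r
      rw [show x = r • (↑u⁻¹ * x) by rw [Algebra.smul_def, ← hu, Units.mul_inv_cancel_left],
        smul_tmul, h, tmul_zero]
  infer_instance

theorem GFree.extension [IsDomain R] (i : A →ₗ[R] B) (p : B →ₗ[R] C) (hi : Function.Injective i)
    (hex : Function.Exact i p) (hp : Function.Surjective p) (hA : GFree R A) (hC : GFree R C) :
    GFree R B := by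
  obtain ⟨f, hf, hA⟩ := hA
  obtain ⟨g, hg, hC⟩ := hC
  refine ⟨f * g, mul_ne_zero hf hg, ?_⟩
  let L := Localization.Away (f * g)
  have hu : IsUnit (algebraMap R L f) ∧ IsUnit (algebraMap R L g) := by
    rw [← IsUnit.mul_iff, ← map_mul]; exact IsLocalization.Away.algebraMap_isUnit _
  have hA' := free_tensor_of_isUnit L hu.1 hA
  have hC' := free_tensor_of_isUnit L hu.2 hC
  have : Module.Flat R L := IsLocalization.flat L (Submonoid.powers (f * g))
  let i' := i.baseChange L
  let p' := p.baseChange L
  have hi' : Function.Injective i' := Module.Flat.lTensor_preserves_injective_linearMap i hi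
  have hex' : Function.Exact i' p' := lTensor_exact L hex hp
  have hp' : Function.Surjective p' := LinearMap.lTensor_surjective L hp
  obtain ⟨s, hs⟩ := Module.projective_lifting_property p' LinearMap.id hp'
  refine Module.Free.of_equiv (LinearEquiv.ofBijective (i'.coprod s) ⟨?_, ?_⟩)
  · rw [← LinearMap.ker_eq_bot, eq_bot_iff]
    rintro ⟨a, c⟩ h
    rw [LinearMap.mem_ker, LinearMap.coprod_apply] at h
    have h1 := congr_arg p' h
    rw [map_add, hex'.apply_apply_eq_zero, zero_add, map_zero] at h1
    have hc : c = 0 := (LinearMap.congr_fun hs c).symm.trans h1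
    subst hc
    rw [map_zero, add_zero] at h
    rw [Submodule.mem_bot, Prod.mk_eq_zero]
    exact ⟨hi' (h.trans (map_zero i').symm), rfl⟩
  · intro b
    obtain ⟨a, ha⟩ := (hex' (b - s (p' b))).mp (by
      rw [map_sub]
      exact sub_eq_zero.mpr (LinearMap.congr_fun hs (p' b)).symm)
    exact ⟨(a, p' b), by rw [LinearMap.coprod_apply, ha, sub_add_cancel]⟩

theorem GFree.of_localization [IsDomain R] {c : R} (hc : c ≠ 0) (R' : Type u) [CommRing R']
    [Algebra R R'] [IsLocalization.Away c R'] (h : GFree R' (R' ⊗[R] M)) : GFree R M := by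
  obtain ⟨f', hf', hfree⟩ := h
  obtain ⟨k, a, ha⟩ := IsLocalization.Away.surj c f'
  have hcu : IsUnit (algebraMap R R' c) := IsLocalization.Away.algebraMap_isUnit c
  have ha0 : a ≠ 0 := fun h0 ↦ by
    rw [h0, map_zero] at ha
    exact hf' ((hcu.pow k).mul_left_eq_zero.mp ha)
  refine ⟨a * c, mul_ne_zero ha0 hc, ?_⟩
  let L := Localization.Away (a * c)
  have hu : IsUnit (algebraMap R L a) ∧ IsUnit (algebraMap R L c) := by
    rw [← IsUnit.mul_iff, ← map_mul]; exact IsLocalization.Away.algebraMap_isUnit _
  letI : Algebra R' L := (IsLocalization.Away.lift c hu.2).toAlgebra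
  haveI : IsScalarTower R R' L := IsScalarTower.of_algebraMap_eq fun r ↦
    (IsLocalization.Away.lift_eq c hu.2 r).symm
  have hf'u : IsUnit (algebraMap R' L f') := by
    have := hu.1
    rw [IsScalarTower.algebraMap_apply R R' L, ← ha, map_mul] at this
    exact (IsUnit.mul_iff.mp this).1
  have := free_tensor_of_isUnit L hf'u hfree
  exact Module.Free.of_equiv (AlgebraTensorModule.cancelBaseChange R R' L L M)

theorem gfree_of_cyclic [IsDomain R] {P : Type u} [CommRing P] [Algebra R P] (g : P)
    (hP : ∀ J : Ideal P, g ∈ J → GFree R (P ⧸ J)) (N : Type u) [AddCommGroup N] [Module P N]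
    [Module R N] [IsScalarTower R P N] [Module.Finite P N] (hN : ∀ x : N, g • x = 0) :
    GFree R N := by
  obtain ⟨k, v, hv⟩ := Module.Finite.exists_fin (R := P) (M := N)
  clear ‹Module.Finite P N›
  induction k generalizing N with
  | zero =>
    have : Subsingleton N := subsingleton_of_forall_eq 0 fun x ↦ by
      have hx : x ∈ Submodule.span P (Set.range v) := hv ▸ Submodule.mem_top
      simpa using hx
    exact GFree.of_smul_eq_zero one_ne_zero fun x ↦ Subsingleton.elim _ _
  | succ k ih =>
    let N₁ := Submodule.span P {v 0}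
    let π : P →ₗ[P] N₁ := LinearMap.toSpanSingleton P N₁ ⟨v 0, Submodule.subset_span rfl⟩
    have hπ : Function.Surjective π := fun y ↦ by
      obtain ⟨a, ha⟩ := Submodule.mem_span_singleton.mp y.2
      exact ⟨a, Subtype.ext (by simpa [π, LinearMap.toSpanSingleton_apply] using ha)⟩
    have hgK : g ∈ LinearMap.ker π := by
      rw [LinearMap.mem_ker]
      exact Subtype.ext (by simp [π, LinearMap.toSpanSingleton_apply, hN])
    have h1 : GFree R N₁ := (hP _ hgK).of_equiv
      ((π.quotKerEquivOfSurjective hπ).restrictScalars R)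
    have h2 : GFree R (N ⧸ N₁) := by
      refine ih (N ⧸ N₁) (fun x ↦ ?_) (fun i ↦ Submodule.Quotient.mk (v i.succ)) ?_
      · obtain ⟨x, rfl⟩ := Submodule.Quotient.mk_surjective _ x
        rw [← Submodule.Quotient.mk_smul, hN, Submodule.Quotient.mk_zero]
      · rw [eq_top_iff, ← Submodule.range_mkQ N₁, LinearMap.range_eq_map, ← hv, Submodule.map_span,
          Submodule.span_le]
        rintro _ ⟨_, ⟨i, rfl⟩, rfl⟩
        refine Fin.cases ?_ (fun j ↦ ?_) i
        · rw [SetLike.mem_coe, Submodule.mkQ_apply, show Submodule.Quotient.mk (v 0) = (0 : N ⧸ N₁) from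
            (Submodule.Quotient.mk_eq_zero _).mpr (Submodule.subset_span rfl)]
          exact zero_mem _
        · exact Submodule.subset_span ⟨j, rfl⟩
    exact GFree.extension (N₁.subtype.restrictScalars R) (N₁.mkQ.restrictScalars R)
      Subtype.val_injective (LinearMap.exact_subtype_mkQ N₁) (Submodule.mkQ_surjective N₁) h1 h2

open MvPolynomial in
theorem finite_tensor_quotient [IsDomain R] {n : ℕ} (J : Ideal (MvPolynomial (Fin (n + 1)) R))
    (g : MvPolynomial (Fin (n + 1)) R) (hg : g ∈ J)
    (e : MvPolynomial (Fin (n + 1)) R ≃ₐ[R] MvPolynomial (Fin (n + 1)) R) (c : R) (hc : c ≠ 0)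
    (hlead : (finSuccEquiv R n (e g)).leadingCoeff = MvPolynomial.C c) (R' : Type u) [CommRing R'] [IsDomain R']
    [Algebra R R'] [IsLocalization.Away c R'] :
    ∃ ψ : MvPolynomial (Fin n) R' →ₐ[R'] R' ⊗[R] (MvPolynomial (Fin (n + 1)) R ⧸ J),
      RingHom.Finite (A := MvPolynomial (Fin n) R')
        (B := R' ⊗[R] (MvPolynomial (Fin (n + 1)) R ⧸ J)) ψ.toRingHom := by
  let P := MvPolynomial (Fin (n + 1)) R
  let Q := MvPolynomial (Fin n) R'
  let S' := R' ⊗[R] (P ⧸ J)
  let q : P →ₐ[R] S' :=
    (Algebra.TensorProduct.includeRight).comp ((Ideal.Quotient.mkₐ R J).comp e.symm.toAlgHom)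
  let ψ : Q →ₐ[R'] S' := aeval fun i ↦ q (X i.succ)
  refine ⟨ψ, ?_⟩
  let _ : Algebra Q S' := RingHom.toAlgebra (R := Q) (S := S') ψ.toRingHom
  let μ : MvPolynomial (Fin n) R →+* Q := MvPolynomial.map (algebraMap R R')
  let x₀ : S' := q (X 0)
  let ev : P →+* S' := (Polynomial.eval₂RingHom ((algebraMap Q S').comp μ) x₀).comp
    (finSuccEquiv R n).toRingEquiv.toRingHom
  have hev : ev = q.toRingHom := by
    refine MvPolynomial.ringHom_ext (fun r ↦ ?_) (Fin.cases ?_ (fun i ↦ ?_))
    · show Polynomial.eval₂ _ x₀ (finSuccEquiv R n (MvPolynomial.C r)) = q (MvPolynomial.C r)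
      rw [show (MvPolynomial.C r : P) = algebraMap R P r from rfl, AlgEquiv.commutes, AlgHom.commutes]
      show Polynomial.eval₂ _ x₀ (Polynomial.C (MvPolynomial.C r)) = _
      rw [Polynomial.eval₂_C]
      show ψ (MvPolynomial.map _ (MvPolynomial.C r)) = _
      rw [map_C, MvPolynomial.algHom_C, ← IsScalarTower.algebraMap_apply]
    · show Polynomial.eval₂ _ x₀ (finSuccEquiv R n (X 0)) = q (X 0)
      rw [finSuccEquiv_X_zero, Polynomial.eval₂_X]
    · show Polynomial.eval₂ _ x₀ (finSuccEquiv R n (X i.succ)) = q (X i.succ)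
      rw [finSuccEquiv_X_succ, Polynomial.eval₂_C]
      show ψ (MvPolynomial.map _ (X i)) = _
      rw [map_X]
      exact aeval_X _ i
  have hint : IsIntegral Q x₀ := by
    let h := (finSuccEquiv R n (e g)).map μ
    have hz : μ (MvPolynomial.C c) ≠ 0 := by
      rw [show μ (MvPolynomial.C c) = MvPolynomial.C (algebraMap R R' c) from map_C _ c, ne_eq, C_eq_zero]
      exact (IsLocalization.Away.algebraMap_isUnit c).ne_zero
    have hu : IsUnit h.leadingCoeff := by
      rw [Polynomial.leadingCoeff_map_of_leadingCoeff_ne_zero _ (hlead ▸ hz), hlead,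
        show μ (MvPolynomial.C c) = MvPolynomial.C (algebraMap R R' c) from map_C _ c]
      exact (IsLocalization.Away.algebraMap_isUnit c).map _
    refine ⟨hu.unit⁻¹ • h, Polynomial.monic_of_isUnit_leadingCoeff_inv_smul hu, ?_⟩
    rw [Units.smul_def, Polynomial.eval₂_smul, Polynomial.eval₂_map]
    refine (congrArg _ (?_ : ev (e g) = 0)).trans (mul_zero (M₀ := S') _)
    rw [hev]
    show q (e g) = 0
    simp [q, Ideal.Quotient.eq_zero_iff_mem.mpr hg]
  have hfin := Algebra.finite_adjoin_simple_of_isIntegral hint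
  have htop : Algebra.adjoin Q {x₀} = ⊤ := by
    refine eq_top_iff.mpr fun s hs ↦ ?_
    clear hs
    induction s using TensorProduct.induction_on with
    | zero => exact zero_mem _
    | add x y hx hy => exact add_mem hx hy
    | tmul r z =>
      obtain ⟨z, rfl⟩ := Ideal.Quotient.mk_surjective z
      have h1 : (1 : R') ⊗ₜ[R] Ideal.Quotient.mk J z = ev (e z) := by
        rw [hev]; simp [q]
      have h2 : r ⊗ₜ[R] Ideal.Quotient.mk J z =
          ψ (MvPolynomial.C r) * ((1 : R') ⊗ₜ[R] Ideal.Quotient.mk J z) := by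
        rw [MvPolynomial.algHom_C, Algebra.TensorProduct.algebraMap_apply,
          Algebra.TensorProduct.tmul_mul_tmul, mul_one, one_mul, Algebra.algebraMap_self_apply]
      rw [h2]
      refine mul_mem (Subalgebra.algebraMap_mem _ _) ?_
      rw [h1]
      show Polynomial.eval₂ _ x₀ _ ∈ _
      rw [Polynomial.eval₂_eq_sum_range]
      refine Subalgebra.sum_mem _ fun k _ ↦ Subalgebra.mul_mem _ ?_ ?_
      · rw [RingHom.comp_apply]
        exact Subalgebra.algebraMap_mem _ _
      · exact Subalgebra.pow_mem _ (Algebra.subset_adjoin (Set.mem_singleton x₀)) k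
  rw [htop] at hfin
  exact Module.Finite.equiv (Subalgebra.topEquiv (R := Q) (A := S')).toLinearEquiv

/-- Generic freeness for algebras finite over polynomial rings. -/
theorem gfree_of_finite_mvPolynomial : ∀ (n : ℕ) (R : Type u) [CommRing R] [IsDomain R]
    (S : Type u) [CommRing S] [Algebra R S] (φ : MvPolynomial (Fin n) R →ₐ[R] S), φ.Finite →
    GFree R S := by
  intro n
  induction n with
  | zero =>
    intro R _ _ S _ _ φ hφ
    let _ : Algebra (MvPolynomial (Fin 0) R) S := φ.toRingHom.toAlgebra
    have : Module.Finite R S := by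
      have : Module.Finite (MvPolynomial (Fin 0) R) S := hφ
      have : IsScalarTower R (MvPolynomial (Fin 0) R) S :=
        IsScalarTower.of_algebraMap_eq fun r ↦ (φ.commutes r).symm
      have : Module.Finite R (MvPolynomial (Fin 0) R) :=
        Module.Finite.equiv (MvPolynomial.isEmptyAlgEquiv R (Fin 0)).symm.toLinearEquiv
      exact Module.Finite.trans (MvPolynomial (Fin 0) R) S
    obtain ⟨s, hs, hmax⟩ := exists_maximal_linearIndepOn R (id : S → S)
    simp only [id_eq, Set.image_id'] at hmax
    let F := Submodule.span R s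
    have hF : Module.Free R F := Module.Free.of_basis
      ((Module.Basis.span hs.linearIndependent).map (LinearEquiv.ofEq _ _ (by simp [F])))
    choose! a ha ha' using hmax
    obtain ⟨t, ht⟩ := Module.Finite.fg_top (R := R) (M := S ⧸ F)
    have hexi : ∀ x : S ⧸ F, ∃ b : R, b ≠ 0 ∧ b • x = 0 := by
      intro x
      obtain ⟨y, rfl⟩ := Submodule.Quotient.mk_surjective _ x
      by_cases hy : y ∈ s
      · exact ⟨1, one_ne_zero, by
          rw [one_smul, Submodule.Quotient.mk_eq_zero]; exact Submodule.subset_span hy⟩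
      · exact ⟨a y, ha y hy, by
          rw [← Submodule.Quotient.mk_smul, Submodule.Quotient.mk_eq_zero]; exact ha' y hy⟩
    choose b hb hb' using hexi
    refine GFree.extension F.subtype F.mkQ Subtype.val_injective (LinearMap.exact_subtype_mkQ F)
      (Submodule.mkQ_surjective F) GFree.of_free
      (GFree.of_smul_eq_zero (r := ∏ x ∈ t, b x) (Finset.prod_ne_zero_iff.mpr fun x _ ↦ hb x)
        fun x ↦ ?_)
    have hx : x ∈ Submodule.span R (t : Set (S ⧸ F)) := ht ▸ Submodule.mem_top
    induction hx using Submodule.span_induction with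
    | mem x hx =>
      obtain ⟨d, hd⟩ := Finset.dvd_prod_of_mem b hx
      rw [hd, mul_comm, mul_smul, hb', smul_zero]
    | zero => exact smul_zero _
    | add x y _ _ hx hy => rw [smul_add, hx, hy, add_zero]
    | smul c x _ hx => rw [smul_comm, hx, smul_zero]
  | succ n ih =>
    intro R _ _ S _ _ φ hφ
    let P := MvPolynomial (Fin (n + 1)) R
    let _ : Algebra P S := φ.toRingHom.toAlgebra
    have : Module.Finite P S := hφ
    have : IsScalarTower R P S := IsScalarTower.of_algebraMap_eq fun r ↦ (φ.commutes r).symm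
    obtain ⟨s, hs, hmax⟩ := exists_maximal_linearIndepOn P (id : S → S)
    simp only [id_eq, Set.image_id'] at hmax
    let F := Submodule.span P s
    have hF : Module.Free P F := Module.Free.of_basis
      ((Module.Basis.span hs.linearIndependent).map (LinearEquiv.ofEq _ _ (by simp [F])))
    have : Module.Free R F := Module.Free.trans (S := P)
    choose! a ha ha' using hmax
    obtain ⟨t, ht⟩ := Module.Finite.fg_top (R := P) (M := S ⧸ F)
    have hexi : ∀ x : S ⧸ F, ∃ b : P, b ≠ 0 ∧ b • x = 0 := by
      intro x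
      obtain ⟨y, rfl⟩ := Submodule.Quotient.mk_surjective _ x
      by_cases hy : y ∈ s
      · exact ⟨1, one_ne_zero, by
          rw [one_smul, Submodule.Quotient.mk_eq_zero]; exact Submodule.subset_span hy⟩
      · exact ⟨a y, ha y hy, by
          rw [← Submodule.Quotient.mk_smul, Submodule.Quotient.mk_eq_zero]; exact ha' y hy⟩
    choose b hb hb' using hexi
    let g := ∏ x ∈ t, b x
    have hg : g ≠ 0 := Finset.prod_ne_zero_iff.mpr fun x _ ↦ hb x
    have hgT : ∀ x : S ⧸ F, g • x = 0 := by
      intro x
      have hx : x ∈ Submodule.span P (t : Set (S ⧸ F)) := ht ▸ Submodule.mem_top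
      induction hx using Submodule.span_induction with
      | mem x hx =>
        obtain ⟨d, hd⟩ := Finset.dvd_prod_of_mem b hx
        show (∏ x ∈ t, b x) • x = 0
        rw [hd, mul_comm, mul_smul, hb', smul_zero]
      | zero => exact smul_zero _
      | add x y _ _ hx hy => rw [smul_add, hx, hy, add_zero]
      | smul c x _ hx => rw [smul_comm, hx, smul_zero]
    refine GFree.extension (F.subtype.restrictScalars R) (F.mkQ.restrictScalars R)
      Subtype.val_injective (LinearMap.exact_subtype_mkQ F) (Submodule.mkQ_surjective F)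
      GFree.of_free (gfree_of_cyclic g (fun J hJ ↦ ?_) (S ⧸ F) hgT)
    obtain ⟨e, c, hc, hlead⟩ := Nagata.exists_leadingCoeff_eq_C g hg
    let R' := Localization.Away c
    haveI : IsDomain R' := IsLocalization.isDomain_localization
      (powers_le_nonZeroDivisors_of_noZeroDivisors hc)
    obtain ⟨ψ, hψ⟩ := finite_tensor_quotient J g hJ e c hc hlead R'
    exact GFree.of_localization hc R' (ih R' _ ψ hψ)

/-- Generic freeness for finite modules over finite type algebras over a domain. -/
theorem gfree_of_finite [IsDomain R] (S N : Type u) [CommRing S] [Algebra R S]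
    [Algebra.FiniteType R S] [AddCommGroup N] [Module S N] [Module R N] [IsScalarTower R S N]
    [Module.Finite S N] : GFree R N := by
  refine gfree_of_cyclic (0 : S) (fun J _ ↦ ?_) N fun x ↦ zero_smul _ _
  obtain ⟨n, f, hf⟩ := Algebra.FiniteType.iff_quotient_mvPolynomial''.mp
    (inferInstance : Algebra.FiniteType R (S ⧸ J))
  exact gfree_of_finite_mvPolynomial n R (S ⧸ J) f (AlgHom.Finite.of_surjective f hf)

end FlatLib
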