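import Groth.Agent.FlatLib.Local
import Groth.Agent.FlatLib.GenericFree
import Groth.Agent.FlatCrit.Quotient
import Mathlib

/-! Openness of the flat locus over a Noetherian base. -/

set_option autoImplicit false
universe u

open TensorProduct LinearMap

namespace FlatLib

variable {R S M : Type u} [CommRing R] [CommRing S] [Algebra R S] [AddCommGroup M] [Module S M]
  [Module R M] [IsScalarTower R S M]

/-- The flat locus of a module. -/
def flatLocus (R S M : Type u) [CommRing R] [CommRing S] [Algebra R S] [AddCommGroup M]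
    [Module S M] [Module R M] [IsScalarTower R S M] : Set (PrimeSpectrum S) :=
  {q | Module.Flat R (LocalizedModule q.asIdeal.primeCompl M)}

theorem flatLocus_generalizing {q q' : PrimeSpectrum S} (hle : q'.asIdeal ≤ q.asIdeal)
    (hq : q ∈ flatLocus R S M) : q' ∈ flatLocus R S M :=
  flat_of_le q.asIdeal.primeCompl (LocalizedModule.mkLinearMap _ M) q'.asIdeal.primeCompl
    (LocalizedModule.mkLinearMap _ M) (fun _ h h' ↦ h (hle h')) hq

/-- The base change to `R ⧸ p` of a localisation is the localisation of the quotient. -/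
noncomputable def quotientLocalizedEquiv (p : Ideal R) (T : Submonoid S) :
    (R ⧸ p) ⊗[R] LocalizedModule T M ≃ₗ[R]
      LocalizedModule T (M ⧸ (p.map (algebraMap R S) • ⊤ : Submodule S M)) := by
  let K : Submodule S M := p.map (algebraMap R S) • ⊤
  let π : LocalizedModule T M →ₗ[S] LocalizedModule T (M ⧸ K) :=
    IsLocalizedModule.map T (LocalizedModule.mkLinearMap T M)
      (LocalizedModule.mkLinearMap T (M ⧸ K)) K.mkQ
  let πR : LocalizedModule T M →ₗ[R] LocalizedModule T (M ⧸ K) := π.restrictScalars R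
  have hsurj : Function.Surjective πR :=
    IsLocalizedModule.map_surjective T _ _ K.mkQ K.mkQ_surjective
  have hK : ∀ (k : M) (t : T), k ∈ K →
      IsLocalizedModule.mk' (LocalizedModule.mkLinearMap T M) k t ∈
        (p • ⊤ : Submodule R (LocalizedModule T M)) := by
    intro k t hk
    refine Submodule.smul_induction_on hk (fun r hr m hm ↦ ?_) (fun a b ha hb ↦ by
      rw [IsLocalizedModule.mk'_add]; exact add_mem ha hb)
    clear hm
    induction hr using Submodule.span_induction generalizing m with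
    | mem r hr =>
      obtain ⟨c, hc, rfl⟩ := hr
      rw [algebraMap_smul, IsLocalizedModule.mk'_smul]
      exact Submodule.smul_mem_smul hc Submodule.mem_top
    | zero => rw [zero_smul, IsLocalizedModule.mk'_zero]; exact zero_mem _
    | add a b _ _ ha hb =>
      rw [add_smul, IsLocalizedModule.mk'_add]; exact add_mem (ha m) (hb m)
    | smul a b _ hb => rw [smul_eq_mul, mul_comm, mul_smul]; exact hb _
  have hker : LinearMap.ker πR = p • ⊤ := by
    refine le_antisymm (fun z hz ↦ ?_) (Submodule.smul_le.mpr fun r hr z _ ↦ ?_)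
    · obtain ⟨⟨m, t⟩, rfl⟩ := IsLocalizedModule.mk'_surjective T (LocalizedModule.mkLinearMap T M) z
      rw [LinearMap.mem_ker, Function.uncurry_apply_pair] at hz
      change π _ = 0 at hz
      rw [IsLocalizedModule.map_mk', IsLocalizedModule.mk'_eq_zero, IsLocalizedModule.eq_zero_iff T] at hz
      obtain ⟨s, hs⟩ := hz
      have hs' : (s : S) • m ∈ K := by
        rw [← Submodule.Quotient.mk_eq_zero]; exact hs
      have := hK ((s : S) • m) (t * s) hs'
      rw [← Submonoid.smul_def, IsLocalizedModule.mk'_cancel_right] at this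
      exact this
    · obtain ⟨⟨m, t⟩, rfl⟩ := IsLocalizedModule.mk'_surjective T (LocalizedModule.mkLinearMap T M) z
      rw [LinearMap.mem_ker, Function.uncurry_apply_pair, map_smul]
      show r • π _ = 0
      rw [IsLocalizedModule.map_mk', ← IsLocalizedModule.mk'_smul,
        show r • K.mkQ m = 0 from ?_, IsLocalizedModule.mk'_zero]
      rw [← algebraMap_smul S r (K.mkQ m), ← map_smul, Submodule.mkQ_apply,
        Submodule.Quotient.mk_eq_zero]
      exact Submodule.smul_mem_smul (Ideal.mem_map_of_mem _ hr) Submodule.mem_top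
  exact TensorProduct.quotTensorEquivQuotSMul (LocalizedModule T M) p ≪≫ₗ
    Submodule.quotEquivOfEq _ _ hker.symm ≪≫ₗ πR.quotKerEquivOfSurjective hsurj

/-- Flatness of the reduction of a localisation from flatness after inverting `f`. -/
theorem flat_quotient_localized (I : Ideal R) (f : R) (T : Submonoid S) (hf : algebraMap R S f ∈ T)
    (h : Module.Flat (Localization.Away (Ideal.Quotient.mk I f))
      (Localization.Away (Ideal.Quotient.mk I f) ⊗[R] M)) :
    Module.Flat (R ⧸ I) ((R ⧸ I) ⊗[R] LocalizedModule T M) := by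
  let J := I.map (algebraMap R S)
  let N := M ⧸ (J • ⊤ : Submodule S M)
  have hkill : Module.IsTorsionBySet R N (I : Set R) := by
    intro x r
    obtain ⟨m, rfl⟩ := Submodule.Quotient.mk_surjective _ x
    rw [← Submodule.Quotient.mk_smul, Submodule.Quotient.mk_eq_zero, ← algebraMap_smul S (r : R) m]
    exact Submodule.smul_mem_smul (Ideal.mem_map_of_mem _ r.2) Submodule.mem_top
  letI : Module (R ⧸ I) N := hkill.module
  haveI : IsScalarTower R (R ⧸ I) N := hkill.isScalarTower
  haveI : IsScalarTower (R ⧸ I) (S ⧸ J) N := IsScalarTower.of_algebraMap_smul fun c x ↦ by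
    obtain ⟨r, rfl⟩ := Ideal.Quotient.mk_surjective c
    obtain ⟨m, rfl⟩ := Submodule.Quotient.mk_surjective _ x
    show Ideal.Quotient.mk J (algebraMap R S r) • Submodule.Quotient.mk m =
      Ideal.Quotient.mk I r • (Submodule.Quotient.mk m : N)
    rw [← Ideal.Quotient.algebraMap_eq I, algebraMap_smul, ← Ideal.Quotient.algebraMap_eq J,
      algebraMap_smul, algebraMap_smul]
  let L := Localization.Away (Ideal.Quotient.mk I f)
  let e₀ : (R ⧸ I) ⊗[R] M ≃ₗ[R] N :=
    TensorProduct.quotTensorEquivQuotSMul M I ≪≫ₗ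
      Submodule.quotEquivOfEq _ ((J • ⊤ : Submodule S M).restrictScalars R)
        (by rw [show J = I.map (algebraMap R S) from rfl, Ideal.smul_restrictScalars, Submodule.restrictScalars_top]) ≪≫ₗ (Submodule.Quotient.restrictScalarsEquiv R _)
  let eI : (R ⧸ I) ⊗[R] M ≃ₗ[R ⧸ I] N :=
    LinearEquiv.extendScalarsOfSurjective (R := R) (S := R ⧸ I) Ideal.Quotient.mk_surjective e₀
  have hN : Module.Flat L (L ⊗[R ⧸ I] N) :=
    Module.Flat.of_linearEquiv ((AlgebraTensorModule.congr (LinearEquiv.refl L L) eI.symm).trans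
      (AlgebraTensorModule.cancelBaseChange R (R ⧸ I) L L M))
  let T' : Submonoid (S ⧸ J) := Algebra.algebraMapSubmonoid (S ⧸ J) T
  let N'' := LocalizedModule T' N
  let ψ : N →ₗ[S] N'' := (LocalizedModule.mkLinearMap T' N).restrictScalars S
  haveI : IsLocalizedModule T ψ := IsLocalizedModule.restrictScalars T _
  let e₁ : (R ⧸ I) ⊗[R] LocalizedModule T M ≃ₗ[R] N'' := quotientLocalizedEquiv I T ≪≫ₗ
    ((IsLocalizedModule.linearEquiv T (LocalizedModule.mkLinearMap T N) ψ).restrictScalars R)
  have : Module.Flat (R ⧸ I) N'' := by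
    have : Module.Flat (R ⧸ I) L := IsLocalization.flat _ (Submonoid.powers (Ideal.Quotient.mk I f))
    exact flat_localized_of_away T' (LocalizedModule.mkLinearMap T' N) (Ideal.Quotient.mk I f)
      ⟨algebraMap R S f, hf, rfl⟩ (Module.Flat.trans (R ⧸ I) L _)
  exact Module.Flat.of_linearEquiv
    (LinearEquiv.extendScalarsOfSurjective (R := R) (S := R ⧸ I) Ideal.Quotient.mk_surjective e₁)

variable [IsNoetherianRing R] [Algebra.FiniteType R S] [Module.Finite S M]

omit [IsNoetherianRing R] in
/-- Generically flat fibres. -/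
theorem exists_flat_away_quotient (p : Ideal R) [p.IsPrime] :
    ∃ f ∉ p, ∀ (q : Ideal S) [q.IsPrime], algebraMap R S f ∉ q →
      Module.Flat (R ⧸ p) ((R ⧸ p) ⊗[R] LocalizedModule q.primeCompl M) := by
  let J := p.map (algebraMap R S)
  let N := M ⧸ (J • ⊤ : Submodule S M)
  have hkill : Module.IsTorsionBySet R N (p : Set R) := by
    intro x r
    obtain ⟨m, rfl⟩ := Submodule.Quotient.mk_surjective _ x
    rw [← Submodule.Quotient.mk_smul, Submodule.Quotient.mk_eq_zero, ← algebraMap_smul S (r : R) m]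
    exact Submodule.smul_mem_smul (Ideal.mem_map_of_mem _ r.2) Submodule.mem_top
  letI : Module (R ⧸ p) N := hkill.module
  haveI : IsScalarTower R (R ⧸ p) N := hkill.isScalarTower
  haveI : Algebra.FiniteType (R ⧸ p) (S ⧸ J) :=
    Algebra.FiniteType.of_restrictScalars_finiteType R (R ⧸ p) (S ⧸ J)
  haveI : IsScalarTower (R ⧸ p) (S ⧸ J) N := IsScalarTower.of_algebraMap_smul fun c x ↦ by
    obtain ⟨r, rfl⟩ := Ideal.Quotient.mk_surjective c
    obtain ⟨m, rfl⟩ := Submodule.Quotient.mk_surjective _ x
    show Ideal.Quotient.mk J (algebraMap R S r) • Submodule.Quotient.mk m =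
      Ideal.Quotient.mk p r • (Submodule.Quotient.mk m : N)
    rw [← Ideal.Quotient.algebraMap_eq p, algebraMap_smul, ← Ideal.Quotient.algebraMap_eq J,
      algebraMap_smul, algebraMap_smul]
  haveI : Module.Finite (S ⧸ J) N := Module.Finite.of_restrictScalars_finite S _ _
  obtain ⟨f, hf, hfree⟩ := gfree_of_finite (R := R ⧸ p) (S ⧸ J) N
  obtain ⟨f, rfl⟩ := Ideal.Quotient.mk_surjective f
  refine ⟨f, fun h ↦ hf (Ideal.Quotient.eq_zero_iff_mem.mpr h), fun q _ hfq ↦ ?_⟩
  let T := q.primeCompl
  let T' : Submonoid (S ⧸ J) := Algebra.algebraMapSubmonoid (S ⧸ J) T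
  let N'' := LocalizedModule T' N
  let ψ : N →ₗ[S] N'' := (LocalizedModule.mkLinearMap T' N).restrictScalars S
  haveI : IsLocalizedModule T ψ := IsLocalizedModule.restrictScalars T _
  let e₁ : (R ⧸ p) ⊗[R] LocalizedModule T M ≃ₗ[R] N'' := quotientLocalizedEquiv p T ≪≫ₗ
    ((IsLocalizedModule.linearEquiv T (LocalizedModule.mkLinearMap T N) ψ).restrictScalars R)
  have : Module.Flat (R ⧸ p) N'' := by
    have := hfree
    have : Module.Flat (R ⧸ p) (Localization.Away (Ideal.Quotient.mk p f)) :=
      IsLocalization.flat _ (Submonoid.powers (Ideal.Quotient.mk p f))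
    exact flat_localized_of_away T' (LocalizedModule.mkLinearMap T' N) (Ideal.Quotient.mk p f)
      ⟨algebraMap R S f, hfq, rfl⟩ (Module.Flat.trans (R ⧸ p) (Localization.Away (Ideal.Quotient.mk p f)) _)
  exact Module.Flat.of_linearEquiv
    (LinearEquiv.extendScalarsOfSurjective (R := R) (S := R ⧸ p) Ideal.Quotient.mk_surjective e₁)

theorem exists_kill (p : Ideal R) (q : Ideal S) [q.IsPrime]
    (h : Module.Flat R (LocalizedModule q.primeCompl M)) :
    ∃ t ∉ q, ∀ x : M ⊗[R] p, p.subtype.lTensor M x = 0 → t • x = 0 := by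
  have : IsNoetherianRing S := Algebra.FiniteType.isNoetherianRing R S
  have : Module.Finite R p := Module.Finite.iff_fg.mpr (IsNoetherian.noetherian _)
  have : Module.Finite S (M ⊗[R] p) := FlatCrit.finite_tensor_fg
  let K : Submodule S (M ⊗[R] p) := LinearMap.ker (AlgebraTensorModule.lTensor S M p.subtype)
  obtain ⟨gen, hgen⟩ : K.FG := IsNoetherian.noetherian K
  have key : ∀ x ∈ K, ∃ t ∈ q.primeCompl, t • x = 0 := fun x hx ↦
    (flat_localized_iff q.primeCompl (LocalizedModule.mkLinearMap _ M)).mp h R p x hx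
  choose! t ht htx using key
  refine ⟨∏ x ∈ gen, t x, fun hmem ↦ ?_, fun x hx ↦ ?_⟩
  · obtain ⟨y, hy, hyq⟩ := Ideal.IsPrime.prod_mem_iff.mp hmem
    exact ht y (hgen ▸ Submodule.subset_span hy) hyq
  · have hxK : x ∈ Submodule.span S (gen : Set (M ⊗[R] p)) := hgen ▸ hx
    induction hxK using Submodule.span_induction with
    | mem y hy =>
      obtain ⟨d, hd⟩ := Finset.dvd_prod_of_mem t hy
      rw [hd, mul_comm, mul_smul, htx y (hgen ▸ Submodule.subset_span hy), smul_zero]
    | zero => exact smul_zero _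
    | add a b ha hb iha ihb =>
      rw [smul_add, iha (by rw [hgen] at ha; exact ha), ihb (by rw [hgen] at hb; exact hb), add_zero]
    | smul c a ha iha => rw [smul_comm, iha (by rw [hgen] at ha; exact ha), smul_zero]

theorem exists_basicOpen (q : PrimeSpectrum S) (hq : q ∈ flatLocus R S M) :
    ∃ g ∉ q.asIdeal, ∀ q' : PrimeSpectrum S, q.asIdeal ≤ q'.asIdeal → g ∉ q'.asIdeal →
      q' ∈ flatLocus R S M := by
  have : IsNoetherianRing S := Algebra.FiniteType.isNoetherianRing R S
  let p := q.asIdeal.comap (algebraMap R S)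
  obtain ⟨f, hfp, hflat⟩ := exists_flat_away_quotient (S := S) (M := M) p
  obtain ⟨t, ht, htK⟩ := exists_kill p q.asIdeal hq
  refine ⟨algebraMap R S f * t, q.isPrime.mul_notMem hfp ht, fun q' hle hg ↦ ?_⟩
  let T := q'.asIdeal.primeCompl
  let S' := Localization.AtPrime q'.asIdeal
  have hf' : algebraMap R S f ∉ q'.asIdeal := fun h ↦ hg (Ideal.mul_mem_right _ _ h)
  have ht' : t ∉ q'.asIdeal := fun h ↦ hg (Ideal.mul_mem_left _ _ h)
  haveI : IsScalarTower R S' (LocalizedModule T M) :=
    IsScalarTower.of_algebraMap_smul fun r x ↦ by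
      rw [IsScalarTower.algebraMap_apply R S S', algebraMap_smul, algebraMap_smul]
  haveI : Module.Finite S' (LocalizedModule T M) :=
    Module.Finite.of_isLocalizedModule T (LocalizedModule.mkLinearMap T M)
  refine FlatCrit.flat_of_injective_of_flat_quotient (S := S') p ?_ ?_ (hflat q'.asIdeal hf')
  · rw [IsLocalRing.jacobson_eq_maximalIdeal _ bot_ne_top, ← Localization.AtPrime.map_eq_maximalIdeal,
      IsScalarTower.algebraMap_eq R S S', ← Ideal.map_map]
    exact Ideal.map_mono (Ideal.map_le_iff_le_comap.mpr fun r hr ↦ hle hr)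
  · exact (injective_lTensor_localized_iff T (LocalizedModule.mkLinearMap T M) p.subtype).mpr
      fun x hx ↦ ⟨t, ht', htK x hx⟩

/-- The flat locus is open. -/
theorem isOpen_flatLocus : IsOpen (flatLocus R S M) := by
  have : IsNoetherianRing S := Algebra.FiniteType.isNoetherianRing R S
  rw [← isClosed_compl_iff]
  let C := (flatLocus R S M)ᶜ
  suffices ∀ Z : TopologicalSpace.Closeds (PrimeSpectrum S), IsClosed (C ∩ (Z : Set (PrimeSpectrum S))) by
    simpa [C] using this ⊤
  intro Z
  induction Z using WellFoundedLT.induction with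
  | ind Z ih =>
    by_cases hirr : IsIrreducible (Z : Set (PrimeSpectrum S))
    · obtain ⟨η, hη⟩ := QuasiSober.sober hirr Z.isClosed
      by_cases hU : η ∈ flatLocus R S M
      · obtain ⟨g, hg, hflat⟩ := exists_basicOpen η hU
        let Z' : TopologicalSpace.Closeds (PrimeSpectrum S) :=
          Z ⊓ ⟨_, (PrimeSpectrum.basicOpen g).isOpen.isClosed_compl⟩
        have heq : C ∩ (Z : Set (PrimeSpectrum S)) = C ∩ (Z' : Set (PrimeSpectrum S)) := by
          ext q
          refine ⟨fun ⟨hqC, hqZ⟩ ↦ ⟨hqC, hqZ, fun hqg ↦ hqC (hflat q ?_ hqg)⟩,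
            fun ⟨hqC, hqZ, _⟩ ↦ ⟨hqC, hqZ⟩⟩
          exact (PrimeSpectrum.le_iff_specializes η q).mpr (hη.specializes hqZ)
        rw [heq]
        refine ih Z' (lt_of_le_of_ne inf_le_left fun h ↦ ?_)
        have : η ∈ (Z' : Set (PrimeSpectrum S)) := h ▸ hη.mem
        exact this.2 hg
      · have : C ∩ (Z : Set (PrimeSpectrum S)) = Z := Set.inter_eq_right.mpr fun q hqZ hq ↦
          hU (flatLocus_generalizing
            ((PrimeSpectrum.le_iff_specializes η q).mpr (hη.specializes hqZ)) hq)
        rw [this]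
        exact Z.isClosed
    · by_cases hne : (Z : Set (PrimeSpectrum S)).Nonempty
      · simp only [IsIrreducible, hne, true_and] at hirr
        obtain ⟨a, b, ha, hb, hZab, hZa, hZb⟩ :
            ∃ a b : Set (PrimeSpectrum S), IsClosed a ∧ IsClosed b ∧ (Z : Set _) ⊆ a ∪ b ∧
              ¬(Z : Set _) ⊆ a ∧ ¬(Z : Set _) ⊆ b := by
          rw [isPreirreducible_iff_isClosed_union_isClosed] at hirr
          push Not at hirr
          exact hirr
        have hA : Z ⊓ ⟨a, ha⟩ < Z := lt_of_le_of_ne inf_le_left fun h ↦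
          hZa fun x hx ↦ (SetLike.coe_subset_coe.mpr h.ge hx).2
        have hB : Z ⊓ ⟨b, hb⟩ < Z := lt_of_le_of_ne inf_le_left fun h ↦
          hZb fun x hx ↦ (SetLike.coe_subset_coe.mpr h.ge hx).2
        have := (ih _ hA).union (ih _ hB)
        convert this using 1
        ext x
        constructor
        · rintro ⟨hxC, hxZ⟩
          rcases hZab hxZ with h | h
          · exact Or.inl ⟨hxC, hxZ, h⟩
          · exact Or.inr ⟨hxC, hxZ, h⟩
        · rintro (⟨hxC, hxZ, -⟩ | ⟨hxC, hxZ, -⟩) <;> exact ⟨hxC, hxZ⟩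
      · rw [Set.not_nonempty_iff_eq_empty] at hne
        rw [hne, Set.inter_empty]
        exact isClosed_empty

end FlatLib
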