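import Groth.Agent.FlatLib.Descent
import Mathlib

/-! Openness of the flat locus for finitely presented algebras and modules. -/

set_option autoImplicit false
universe u

open TensorProduct LinearMap

attribute [local instance] MvPolynomial.algebraMvPolynomial

namespace FlatLib

theorem flatLocus_congr {R S M M' : Type u} [CommRing R] [CommRing S] [Algebra R S] [AddCommGroup M]
    [Module S M] [Module R M] [IsScalarTower R S M] [AddCommGroup M'] [Module S M'] [Module R M']
    [IsScalarTower R S M'] (e : M ≃ₗ[S] M') : flatLocus R S M = flatLocus R S M' := by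
  ext q
  exact ⟨fun h ↦ flat_of_le q.asIdeal.primeCompl (LocalizedModule.mkLinearMap _ M) q.asIdeal.primeCompl
      (LocalizedModule.mkLinearMap _ M' ∘ₗ e.toLinearMap) le_rfl h,
    fun h ↦ flat_of_le q.asIdeal.primeCompl (LocalizedModule.mkLinearMap _ M') q.asIdeal.primeCompl
      (LocalizedModule.mkLinearMap _ M ∘ₗ e.symm.toLinearMap) le_rfl h⟩

theorem flatLocus_comap {R P S M : Type u} [CommRing R] [CommRing P] [CommRing S] [Algebra R P]
    [Algebra R S] [Algebra P S] [IsScalarTower R P S] (hsurj : Function.Surjective (algebraMap P S))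
    [AddCommGroup M] [Module S M] [Module P M] [Module R M] [IsScalarTower R S M]
    [IsScalarTower R P M] [IsScalarTower P S M] :
    flatLocus R S M = PrimeSpectrum.comap (algebraMap P S) ⁻¹' flatLocus R P M := by
  ext q
  refine (flat_localized_iff q.asIdeal.primeCompl (LocalizedModule.mkLinearMap _ M)).trans
    (Iff.trans ?_ (flat_localized_iff (PrimeSpectrum.comap (algebraMap P S) q).asIdeal.primeCompl
      (LocalizedModule.mkLinearMap _ M)).symm)
  constructor
  · intro h N _ _ K x hx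
    obtain ⟨t, ht, htx⟩ := h N K x hx
    obtain ⟨t, rfl⟩ := hsurj t
    exact ⟨t, ht, by rw [← algebraMap_smul S t x]; exact htx⟩
  · intro h N _ _ K x hx
    obtain ⟨t, ht, htx⟩ := h N K x hx
    exact ⟨algebraMap P S t, ht, by rw [algebraMap_smul]; exact htx⟩

theorem exists_model {σ R M : Type u} [CommRing R] [AddCommGroup M] [Module (MvPolynomial σ R) M]
    [Module.FinitePresentation (MvPolynomial σ R) M] (G : Finset (MvPolynomial σ R))
    (hG : ∀ g ∈ G, ∀ m : M, g • m = 0) :
    ∃ (A : Subalgebra ℤ R) (M₀ : Type u) (_ : AddCommGroup M₀) (_ : Module A M₀)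
      (_ : Module (MvPolynomial σ A) M₀) (_ : IsScalarTower A (MvPolynomial σ A) M₀),
      A.FG ∧ Module.Finite (MvPolynomial σ A) M₀ ∧
      Nonempty (BC σ A M₀ R ≃ₗ[MvPolynomial σ R] M) ∧
      ∀ g ∈ G, ∃ g₀ : MvPolynomial σ A, MvPolynomial.map (algebraMap A R) g₀ = g ∧
        ∀ m : M₀, g₀ • m = 0 := by
  classical
  let P := MvPolynomial σ R
  obtain ⟨n, K, e, hK⟩ := Module.FinitePresentation.exists_fin P M
  obtain ⟨V₀, rfl⟩ := hK
  let V : Finset (Fin n → P) :=
    V₀ ∪ G.biUnion fun g ↦ (Finset.univ : Finset (Fin n)).image fun i ↦ Pi.single i g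
  let C : Finset R := (V.biUnion fun v ↦ (Finset.univ : Finset (Fin n)).biUnion fun i ↦
    (v i).support.image (v i).coeff) ∪ G.biUnion fun g ↦ g.support.image g.coeff
  let A := Algebra.adjoin ℤ (C : Set R)
  let S₀ := MvPolynomial σ A
  let F := Fin n → P
  let F₀ := Fin n → S₀
  let θ : F₀ →ₗ[S₀] F := LinearMap.pi fun i ↦ Algebra.linearMap S₀ P ∘ₗ LinearMap.proj i
  have hlift : ∀ v ∈ V, ∃ v₀ : F₀, θ v₀ = v := fun v hv ↦ by
    have : ∀ i, ∃ y : S₀, algebraMap S₀ P y = v i := fun i ↦ by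
      refine MvPolynomial.mem_range_map_iff_coeffs_subset.mpr fun c hc ↦ ?_
      rw [Finset.mem_coe, MvPolynomial.mem_coeffs_iff] at hc
      obtain ⟨m, hm, rfl⟩ := hc
      exact ⟨⟨_, Algebra.subset_adjoin (Finset.mem_coe.mpr (Finset.mem_union_left _
        (Finset.mem_biUnion.mpr ⟨v, hv,
          Finset.mem_biUnion.mpr ⟨i, Finset.mem_univ i, Finset.mem_image_of_mem _ hm⟩⟩)))⟩, rfl⟩
    choose v₀ hv₀ using this
    exact ⟨v₀, funext hv₀⟩
  choose! v₀ hv₀ using hlift
  let K₀ : Submodule S₀ F₀ := Submodule.span S₀ (v₀ '' V)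
  let K : Submodule P F := Submodule.span P (V : Set F)
  have hKK : Submodule.span P (V₀ : Set F) = K := by
    refine le_antisymm (Submodule.span_mono (Finset.coe_subset.mpr Finset.subset_union_left)) ?_
    rw [Submodule.span_le]
    intro v hv
    rcases Finset.mem_union.mp (Finset.mem_coe.mp hv) with hv | hv
    · exact Submodule.subset_span hv
    · obtain ⟨g, hg, hv⟩ := Finset.mem_biUnion.mp hv
      obtain ⟨i, -, rfl⟩ := Finset.mem_image.mp hv
      rw [SetLike.mem_coe, ← Submodule.Quotient.mk_eq_zero,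
        show (Pi.single i g : F) = g • Pi.single i 1 by
          rw [← Pi.single_smul, smul_eq_mul, mul_one],
        Submodule.Quotient.mk_smul]
      apply e.symm.injective
      rw [map_smul, map_zero]
      exact hG g hg _
  let M₀ := F₀ ⧸ K₀
  have hθK : K₀ ≤ LinearMap.ker ((K.mkQ.restrictScalars S₀) ∘ₗ θ) := by
    rw [Submodule.span_le]
    rintro _ ⟨v, hv, rfl⟩
    show Submodule.Quotient.mk (θ (v₀ v)) = (0 : F ⧸ K)
    rw [hv₀ v hv, Submodule.Quotient.mk_eq_zero]
    exact Submodule.subset_span hv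
  let fwd : P ⊗[S₀] M₀ →ₗ[P] F ⧸ K :=
    LinearMap.liftBaseChange P (K₀.liftQ ((K.mkQ.restrictScalars S₀) ∘ₗ θ) hθK)
  let ψ : F →ₗ[P] P ⊗[S₀] M₀ :=
    (Pi.basisFun P (Fin n)).constr P fun i ↦ (1 : P) ⊗ₜ[S₀] K₀.mkQ (Pi.single i 1)
  have hθsingle : ∀ i, θ (Pi.single i 1) = Pi.single i 1 := fun i ↦ by
    refine funext fun j ↦ ?_
    by_cases hj : j = i
    · subst hj
      show algebraMap S₀ P ((Pi.single j 1 : F₀) j) = _
      rw [Pi.single_eq_same, Pi.single_eq_same, map_one]
    · show algebraMap S₀ P ((Pi.single i 1 : F₀) j) = _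
      rw [Pi.single_eq_of_ne hj, Pi.single_eq_of_ne hj, map_zero]
  have hψsingle : ∀ i, ψ (Pi.single i 1) = (1 : P) ⊗ₜ[S₀] K₀.mkQ (Pi.single i 1) := fun i ↦ by
    rw [← Pi.basisFun_apply]
    exact (Pi.basisFun P (Fin n)).constr_basis P _ i
  have hψθ : (ψ.restrictScalars S₀) ∘ₗ θ = TensorProduct.mk S₀ P M₀ 1 ∘ₗ K₀.mkQ :=
    (Pi.basisFun S₀ (Fin n)).ext fun i ↦ by
      simp only [Pi.basisFun_apply, LinearMap.comp_apply, hθsingle]
      exact hψsingle i
  have hψK : K ≤ LinearMap.ker ψ := by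
    rw [Submodule.span_le]
    intro v hv
    show ψ v = 0
    rw [← hv₀ v hv]
    refine (LinearMap.congr_fun hψθ (v₀ v)).trans ?_
    show (1 : P) ⊗ₜ[S₀] K₀.mkQ (v₀ v) = 0
    rw [show K₀.mkQ (v₀ v) = 0 from (Submodule.Quotient.mk_eq_zero _).mpr
      (Submodule.subset_span ⟨v, hv, rfl⟩), tmul_zero]
  let bwd : F ⧸ K →ₗ[P] P ⊗[S₀] M₀ := K.liftQ ψ hψK
  have h₁ : fwd ∘ₗ bwd = LinearMap.id := by
    refine Submodule.linearMap_qext _ ((Pi.basisFun P (Fin n)).ext fun i ↦ ?_)
    simp only [Pi.basisFun_apply, LinearMap.comp_apply, LinearMap.id_apply, bwd,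
      Submodule.mkQ_apply, Submodule.liftQ_apply, hψsingle, fwd, LinearMap.liftBaseChange_tmul,
      one_smul]
    exact congr_arg K.mkQ (hθsingle i)
  have h₂ : bwd ∘ₗ fwd = LinearMap.id := by
    refine LinearMap.ext fun z ↦ ?_
    induction z using TensorProduct.induction_on with
    | zero => simp
    | add a b ha hb => rw [map_add, ha, hb, map_add]
    | tmul s m =>
      obtain ⟨x, rfl⟩ := Submodule.Quotient.mk_surjective _ m
      simp only [LinearMap.comp_apply, LinearMap.id_apply, fwd, LinearMap.liftBaseChange_tmul,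
        Submodule.liftQ_apply, bwd, map_smul]
      show s • ψ (θ x) = _
      rw [show ψ (θ x) = (1 : P) ⊗ₜ[S₀] (Submodule.Quotient.mk x : M₀) from LinearMap.congr_fun hψθ x,
        smul_tmul', smul_eq_mul, mul_one]
  let eqv : P ⊗[S₀] M₀ ≃ₗ[P] F ⧸ K := LinearEquiv.ofLinearMap fwd bwd h₁ h₂
  refine ⟨A, M₀, inferInstance, inferInstance, inferInstance, inferInstance, ⟨C, rfl⟩,
    inferInstance, ⟨(eqv.trans (Submodule.quotEquivOfEq _ _ hKK.symm)).trans e.symm⟩, fun g hg ↦ ?_⟩
  · have hmem : ∀ i, (Pi.single i g : F) ∈ V := fun i ↦ Finset.mem_union_right _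
      (Finset.mem_biUnion.mpr ⟨g, hg, Finset.mem_image_of_mem _ (Finset.mem_univ i)⟩)
    have hθinj : Function.Injective (algebraMap S₀ P) :=
      MvPolynomial.map_injective _ Subtype.val_injective
    obtain ⟨g₀, hg₀⟩ : ∃ y : S₀, algebraMap S₀ P y = g := by
      refine MvPolynomial.mem_range_map_iff_coeffs_subset.mpr fun c hc ↦ ?_
      rw [Finset.mem_coe, MvPolynomial.mem_coeffs_iff] at hc
      obtain ⟨m, hm, rfl⟩ := hc
      exact ⟨⟨_, Algebra.subset_adjoin (Finset.mem_coe.mpr (Finset.mem_union_right _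
        (Finset.mem_biUnion.mpr ⟨g, hg, Finset.mem_image_of_mem _ hm⟩)))⟩, rfl⟩
    refine ⟨g₀, hg₀, fun m ↦ ?_⟩
    obtain ⟨x, rfl⟩ := Submodule.Quotient.mk_surjective _ m
    rw [← Submodule.Quotient.mk_smul, Submodule.Quotient.mk_eq_zero, pi_eq_sum_univ' x,
      Finset.smul_sum]
    refine Submodule.sum_mem _ fun i _ ↦ ?_
    have hvi : v₀ (Pi.single i g) = Pi.single i g₀ := funext fun j ↦ hθinj (by
      have := congrFun (hv₀ _ (hmem i)) j
      refine this.trans ?_
      by_cases hj : j = i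
      · subst hj; rw [Pi.single_eq_same, Pi.single_eq_same, hg₀]
      · rw [Pi.single_eq_of_ne hj, Pi.single_eq_of_ne hj, map_zero])
    rw [smul_comm, show g₀ • (Pi.single i 1 : F₀) = Pi.single i g₀ by
      rw [← Pi.single_smul, smul_eq_mul, mul_one], ← hvi]
    exact Submodule.smul_mem _ _ (Submodule.subset_span ⟨_, hmem i, rfl⟩)

theorem isOpen_flatLocus_fp {R S M : Type u} [CommRing R] [CommRing S] [Algebra R S]
    [Algebra.FinitePresentation R S] [AddCommGroup M] [Module S M] [Module R M] [IsScalarTower R S M]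
    [Module.FinitePresentation S M] : IsOpen (flatLocus R S M) := by
  obtain ⟨σ, hσ, π, hπ, hker⟩ := Algebra.FinitePresentation.iff_quotient_mvPolynomial'.{_, _, u}.mp
    (inferInstance : Algebra.FinitePresentation R S)
  let P := MvPolynomial σ R
  letI : Algebra P S := π.toRingHom.toAlgebra
  haveI : IsScalarTower R P S := IsScalarTower.of_algebraMap_eq fun r ↦ (π.commutes r).symm
  letI : Module P M := Module.compHom M π.toRingHom
  haveI : IsScalarTower P S M := IsScalarTower.of_algebraMap_smul fun _ _ ↦ rfl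
  haveI : IsScalarTower R P M := IsScalarTower.of_algebraMap_smul fun r m ↦ by
    show π (algebraMap R P r) • m = r • m
    rw [π.commutes, algebraMap_smul]
  haveI : Module.FinitePresentation P S :=
    Module.finitePresentation_of_surjective (Algebra.linearMap P S) hπ hker
  haveI : Module.FinitePresentation P M := Module.FinitePresentation.trans P M S
  rw [flatLocus_comap (P := P) hπ]
  refine IsOpen.preimage (PrimeSpectrum.continuous_comap _) ?_
  obtain ⟨A, M₀, _, _, _, _, hA, _, ⟨e⟩, -⟩ := exists_model (σ := σ) (R := R) (M := M) ∅ (by simp)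
  haveI : IsNoetherianRing A := isNoetherianRing_of_fg hA
  rw [← flatLocus_congr e]
  exact isOpen_flatLocus_bc σ M₀

end FlatLib
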