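import Groth.Agent.QCohLib.Coherent
import Groth.Agent.FlatLib.SchemeFlat
import Groth.Prelude.Def_FlatMod2
import Mathlib

/-! Stalks and sections of quasi-coherent modules on affine opens. -/

set_option autoImplicit false
universe u

open CategoryTheory CategoryTheory.Limits TopologicalSpace Opposite AlgebraicGeometry

namespace FlatLib

variable {X : Scheme.{u}}

theorem germ_smul_mod (M : X.Modules) {U : X.Opens} {x : X} (hx : x ∈ U) (r : Γ(X, U)) (m : Γ(M, U)) :
    M.presheaf.germ U x hx (r • m) = X.presheaf.germ U x hx r • M.presheaf.germ U x hx m :=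
  PresheafOfModules.germ_smul (R := X.presheaf) M.val x U hx r m

theorem germ_res_basicOpen {U : X.Opens} {f : Γ(X, U)} {x : X} (hxf : x ∈ X.basicOpen f) :
    X.presheaf.germ (X.basicOpen f) x hxf (X.presheaf.map (homOfLE (X.basicOpen_le f)).op f) =
      X.presheaf.germ U x (X.basicOpen_le f hxf) f :=
  TopCat.Presheaf.germ_res_apply X.presheaf _ _ _ _

/-- The germ map of a module, over the ring of sections. -/
noncomputable def germLin (M : X.Modules) {U : X.Opens} {x : X} (hx : x ∈ U) :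
    letI := Module.compHom (M.presheaf.stalk x) (X.presheaf.germ U x hx).hom
    Γ(M, U) →ₗ[Γ(X, U)] M.presheaf.stalk x :=
  letI := Module.compHom (M.presheaf.stalk x) (X.presheaf.germ U x hx).hom
  { toFun := fun m ↦ M.presheaf.germ U x hx m
    map_add' := fun _ _ ↦ map_add _ _ _
    map_smul' := fun r m ↦ germ_smul_mod M hx r m }

theorem isLocalizedModule_germLin (M : X.Modules) [Coh.IsQCoh M] {U : X.Opens} (hU : IsAffineOpen U)
    {x : X} (hx : x ∈ U) :
    letI := Module.compHom (M.presheaf.stalk x) (X.presheaf.germ U x hx).hom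
    IsLocalizedModule (hU.primeIdealOf ⟨x, hx⟩).asIdeal.primeCompl (germLin M hx) := by
  letI := Module.compHom (M.presheaf.stalk x) (X.presheaf.germ U x hx).hom
  letI : Algebra Γ(X, U) (X.presheaf.stalk x) := (X.presheaf.germ U x hx).hom.toAlgebra
  haveI : IsScalarTower Γ(X, U) (X.presheaf.stalk x) (M.presheaf.stalk x) :=
    IsScalarTower.of_algebraMap_smul fun _ _ ↦ rfl
  have hloc : IsLocalization.AtPrime (X.presheaf.stalk x) (hU.primeIdealOf ⟨x, hx⟩).asIdeal :=
    hU.isLocalization_stalk ⟨x, hx⟩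
  have hmem : ∀ f : Γ(X, U), f ∉ (hU.primeIdealOf ⟨x, hx⟩).asIdeal ↔ x ∈ X.basicOpen f := fun f ↦
    (IsLocalization.AtPrime.isUnit_to_map_iff (X.presheaf.stalk x) _ f).symm.trans
      (X.mem_basicOpen f x hx).symm
  refine ⟨fun s ↦ ?_, fun σ ↦ ?_, fun {m n} hmn ↦ ?_⟩
  · have hu := IsLocalization.map_units (X.presheaf.stalk x) s
    rw [Module.End.isUnit_iff]
    obtain ⟨v, hv⟩ := hu
    refine ⟨fun a b h ↦ ?_, fun a ↦ ⟨(↑v⁻¹ : X.presheaf.stalk x) • a, ?_⟩⟩
    · replace h : algebraMap Γ(X, U) (X.presheaf.stalk x) s • a =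
          algebraMap Γ(X, U) (X.presheaf.stalk x) s • b := h
      rw [← hv] at h
      exact (v.isUnit.smul_left_cancel).mp h
    · show algebraMap Γ(X, U) (X.presheaf.stalk x) s • (↑v⁻¹ : X.presheaf.stalk x) • a = a
      rw [← hv, ← mul_smul, Units.mul_inv, one_smul]
  · obtain ⟨V, hxV, t, rfl⟩ := TopCat.Presheaf.exists_germ_eq M.presheaf (x := x) σ
    obtain ⟨f, hfV, hxf⟩ := QCohLib.exists_basicOpen_nhd hU hxV hx
    obtain ⟨n, m, hm⟩ := (QCohLib.localizingAt_of_isQCoh hU M f).exists_extend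
      (M.presheaf.map (homOfLE hfV).op t)
    refine ⟨(m, ⟨f ^ n, Submonoid.pow_mem _ ((hmem f).mpr hxf) n⟩), ?_⟩
    show X.presheaf.germ U x hx (f ^ n) • M.presheaf.germ V x hxV t = M.presheaf.germ U x hx m
    have h1 := congr_arg (M.presheaf.germ (X.basicOpen f) x hxf) hm
    rw [TopCat.Presheaf.germ_res_apply, germ_smul_mod, TopCat.Presheaf.germ_res_apply, map_pow,
      germ_res_basicOpen] at h1
    rw [map_pow]
    exact h1.symm
  · replace hmn : M.presheaf.germ U x hx m = M.presheaf.germ U x hx n := hmn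
    obtain ⟨W, hxW, iU, iV, hW⟩ := M.presheaf.germ_eq x hx hx m n hmn
    obtain ⟨f, hfW, hxf⟩ := QCohLib.exists_basicOpen_nhd hU hxW hx
    obtain rfl : iU = iV := Subsingleton.elim _ _
    have h0 : M.presheaf.map (homOfLE (X.basicOpen_le f)).op (m - n) = 0 := by
      have := congr_arg (M.presheaf.map (homOfLE hfW).op) hW
      rw [QCohLib.map_map', QCohLib.map_map'] at this
      rw [map_sub, sub_eq_zero]
      exact this
    obtain ⟨k, hk⟩ := (QCohLib.localizingAt_of_isQCoh hU M f).eq_zero _ h0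
    simp only [homOfLE_refl, op_id, CategoryTheory.Functor.map_id] at hk
    change f ^ k • (m - n) = 0 at hk
    rw [smul_sub, sub_eq_zero] at hk
    exact ⟨⟨f ^ k, Submonoid.pow_mem _ ((hmem f).mpr hxf) k⟩, hk⟩

/-- Flatness of the stalk over the base, read on sections. -/
theorem isFlatOverAt_iff {Y : Scheme.{u}} (f : X ⟶ Y) (M : X.Modules) [Coh.IsQCoh M] {x : X}
    (U : Y.Opens) (hU : IsAffineOpen U) (V : X.Opens) (hV : IsAffineOpen V) (hVU : V ≤ f ⁻¹ᵁ U)
    (hx : x ∈ V) [Algebra Γ(Y, U) Γ(X, V)]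
    (halg : algebraMap Γ(Y, U) Γ(X, V) = (f.appLE U V hVU).hom)
    [Module Γ(Y, U) Γ(M, V)] [IsScalarTower Γ(Y, U) Γ(X, V) Γ(M, V)] :
    FlatMod.IsFlatOverAt f M x ↔ hV.primeIdealOf ⟨x, hx⟩ ∈ flatLocus Γ(Y, U) Γ(X, V) Γ(M, V) := by
  letI := Module.compHom (M.presheaf.stalk x) (X.presheaf.germ V x hx).hom
  haveI := isLocalizedModule_germLin M hV hx
  letI : Algebra Γ(Y, U) (Y.presheaf.stalk (f x)) := (Y.presheaf.germ U (f x) (hVU hx)).hom.toAlgebra
  have hloc : IsLocalization.AtPrime (Y.presheaf.stalk (f x))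
      (hU.primeIdealOf ⟨f x, hVU hx⟩).asIdeal := hU.isLocalization_stalk ⟨f x, hVU hx⟩
  letI := FlatMod.moduleStalkOver f M x
  letI : Module Γ(Y, U) (M.presheaf.stalk x) :=
    Module.compHom (M.presheaf.stalk x) (algebraMap Γ(Y, U) (Y.presheaf.stalk (f x)))
  haveI : IsScalarTower Γ(Y, U) (Y.presheaf.stalk (f x)) (M.presheaf.stalk x) :=
    IsScalarTower.of_algebraMap_smul fun _ _ ↦ rfl
  have hsq : ∀ r : Γ(Y, U), X.presheaf.germ V x hx ((f.appLE U V hVU).hom r) =
      f.stalkMap x (Y.presheaf.germ U (f x) (hVU hx) r) := fun r ↦ by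
    rw [Scheme.Hom.germ_stalkMap_apply]
    exact TopCat.Presheaf.germ_res_apply X.presheaf _ _ _ _
  haveI : IsScalarTower Γ(Y, U) Γ(X, V) (M.presheaf.stalk x) :=
    IsScalarTower.of_algebraMap_smul fun r σ ↦ by
      show X.presheaf.germ V x hx (algebraMap Γ(Y, U) Γ(X, V) r) • σ =
        f.stalkMap x (Y.presheaf.germ U (f x) (hVU hx) r) • σ
      rw [halg, hsq]
  show Module.Flat _ _ ↔ _
  rw [Module.flat_iff_of_isLocalization (Y.presheaf.stalk (f x))
    (hU.primeIdealOf ⟨f x, hVU hx⟩).asIdeal.primeCompl]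
  exact ⟨fun h ↦ flat_of_le _ (germLin M hx) (hV.primeIdealOf ⟨x, hx⟩).asIdeal.primeCompl
      (LocalizedModule.mkLinearMap _ Γ(M, V)) le_rfl h,
    fun h ↦ flat_of_le (hV.primeIdealOf ⟨x, hx⟩).asIdeal.primeCompl
      (LocalizedModule.mkLinearMap _ Γ(M, V)) _ (germLin M hx) le_rfl h⟩

end FlatLib
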