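import Groth.Agent.QCohLib.Coherent
import Groth.Agent.FlatLib.FibMaster
import Mathlib

/-! Sections of finitely presented modules on affine opens. -/

set_option autoImplicit false
universe u

open CategoryTheory CategoryTheory.Limits TopologicalSpace Opposite AlgebraicGeometry

namespace FlatLib

variable {X : Scheme.{u}}

/-- Generators span the sections on an affine open. -/
theorem span_eq_top_of_genOn {M : X.Modules} [Coh.IsQCoh M] {U : X.Opens} (hU : IsAffineOpen U)
    {I : Type u} [Fintype I] {s : I → Γ(M, U)} (hs : QCohLib.GenOn M U s) :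
    Submodule.span Γ(X, U) (Set.range s) = ⊤ := by
  classical
  refine eq_top_iff.mpr fun x _ ↦ ?_
  let N := Submodule.span Γ(X, U) (Set.range s)
  let J : Ideal Γ(X, U) := N.colon {x}
  have key : ∀ q ∈ U, ∃ a ∈ J, q ∈ X.basicOpen a := by
    intro q hq
    obtain ⟨W, hW, hWU, hqW, c, hc⟩ := hs U le_rfl x q hq
    obtain ⟨g, hgW, hqg⟩ := QCohLib.exists_basicOpen_nhd hU hqW hq
    have hext : ∀ i, ∃ (e : ℕ) (b : Γ(X, U)),
        X.presheaf.map (homOfLE (X.basicOpen_le g)).op b =
          (X.presheaf.map (homOfLE (X.basicOpen_le g)).op g) ^ e *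
            X.presheaf.map (homOfLE hgW).op (c i) := fun i ↦
      (@QCohLib.localizingAt_of_isQCoh _ _ hU (Coh.structureModule X) QCohLib.isQCoh_unit g).exists_extend _
    choose e b hb using hext
    let E := Finset.univ.sup e
    have heq : M.presheaf.map (homOfLE (X.basicOpen_le g)).op
        (g ^ E • x - ∑ i, (g ^ (E - e i) * b i) • s i) = 0 := by
      have hc' := congr_arg (M.presheaf.map (homOfLE hgW).op) hc
      rw [QCohLib.map_map', map_sum] at hc'
      rw [map_sub, sub_eq_zero, QCohLib.map_smul', map_sum]
      refine (congr_arg _ hc').trans ?_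
      rw [Finset.smul_sum]
      refine Finset.sum_congr rfl fun i _ ↦ ?_
      rw [QCohLib.map_smul', QCohLib.map_smul', map_mul, map_pow, hb, QCohLib.map_map', ← mul_smul]
      refine congr_arg₂ (· • ·) ?_ rfl
      rw [map_pow, ← mul_assoc, ← pow_add, Nat.sub_add_cancel (Finset.le_sup (Finset.mem_univ i))]
    obtain ⟨k, hk⟩ := (QCohLib.localizingAt_of_isQCoh hU M g).eq_zero _ heq
    simp only [homOfLE_refl, op_id, CategoryTheory.Functor.map_id] at hk
    change g ^ k • (g ^ E • x - ∑ i, (g ^ (E - e i) * b i) • s i) = 0 at hk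
    rw [smul_sub, sub_eq_zero, ← mul_smul, ← pow_add] at hk
    refine ⟨g ^ (k + E + 1), Submodule.mem_colon_singleton.mpr ?_, ?_⟩
    · rw [pow_succ', mul_smul, hk]
      exact N.smul_mem _ (N.smul_mem _ (Submodule.sum_mem _ fun i _ ↦
        N.smul_mem _ (Submodule.subset_span (Set.mem_range_self i))))
    · rwa [X.basicOpen_pow g (Nat.succ_pos _)]
  by_contra hx
  have hJ : J ≠ ⊤ := fun h ↦ hx (by
    have := Submodule.mem_colon_singleton.mp ((Ideal.eq_top_iff_one J).mp h)
    rwa [one_smul] at this)
  obtain ⟨P, hP, hJP⟩ := J.exists_le_maximal hJ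
  have := hP.isPrime
  obtain ⟨a, ha, hqa⟩ := key (hU.fromSpec ⟨P, this⟩) (hU.range_fromSpec.le ⟨_, rfl⟩)
  have h' : (⟨P, this⟩ : PrimeSpectrum Γ(X, U)) ∈ hU.fromSpec ⁻¹ᵁ X.basicOpen a := hqa
  rw [hU.fromSpec_preimage_basicOpen] at h'
  exact h' (hJP ha)

/-- The free module, as a module on the scheme. -/
noncomputable abbrev freeO (X : Scheme.{u}) (I : Type u) : X.Modules :=
  SheafOfModules.free (R := X.ringCatSheaf) I

/-- The tautological sections of a free module on an open. -/
noncomputable def freeBasisSection (I : Type u) (W : X.Opens) (i : I) :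
    Γ(freeO X I, W) :=
  (SheafOfModules.freeSection (R := X.ringCatSheaf) i).val (op W)

set_option backward.isDefEq.respectTransparency.types false in
theorem freeBasisSection_linearIndependent (I : Type u) [Fintype I] (W : X.Opens) (c : I → Γ(X, W))
    (hc : ∑ i, c i • freeBasisSection I W i = 0) : c = 0 := by
  classical
  funext k
  let one : (Coh.structureModule X).val.sections :=
    QCohLib.toSections (Coh.structureModule X) (1 : Γ(X, ⊤))
  let zer : (Coh.structureModule X).val.sections :=
    QCohLib.toSections (Coh.structureModule X) (0 : Γ(X, ⊤))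
  let q : freeO X I ⟶ (Coh.structureModule X : X.Modules) :=
    (Coh.structureModule X).freeHomEquiv.symm fun j ↦ if j = k then one else zer
  have hq : ∀ j, Scheme.Modules.Hom.app q W (freeBasisSection I W j) = (if j = k then (1 : Γ(X, W)) else 0) := fun j ↦ by
    have h := SheafOfModules.sectionsMap_freeHomEquiv_symm_freeSection
      (M := Coh.structureModule X) (fun j ↦ if j = k then one else zer) j
    have h2 := congr_fun (congr_arg Subtype.val h) (op W)
    refine Eq.trans h2 ?_
    split_ifs with hjk
    · exact map_one (X.presheaf.map (homOfLE le_top).op).hom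
    · exact map_zero (X.presheaf.map (homOfLE le_top).op).hom
  have := congr_arg (Scheme.Modules.Hom.app q W) hc
  rw [map_sum, map_zero] at this
  rw [Finset.sum_eq_single k (fun j _ hjk ↦ by
      rw [QCohLib.app_smul, hq, if_neg hjk]; exact mul_zero (c j))
    (fun h ↦ absurd (Finset.mem_univ k) h), QCohLib.app_smul, hq, if_pos rfl] at this
  exact (mul_one (c k)).symm.trans this

theorem genOn_freeBasisSection (I : Type u) [Fintype I] (W : X.Opens) :
    QCohLib.GenOn (freeO X I) W (freeBasisSection I W) := by
  have hepi : Epi ((SheafOfModules.free (R := X.ringCatSheaf) I).freeHomEquiv.symm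
      (fun i => SheafOfModules.freeSection i)) := by
    rw [show (fun i => SheafOfModules.freeSection (R := X.ringCatSheaf) i) =
      (SheafOfModules.free (R := X.ringCatSheaf) I).freeHomEquiv (𝟙 _) from rfl,
      Equiv.symm_apply_apply]
    infer_instance
  have h := (QCohLib.genTop_of_epi (M := (SheafOfModules.free (R := X.ringCatSheaf) I : X.Modules))
    (fun i => SheafOfModules.freeSection i)).genOn.mono (le_top : W ≤ ⊤)
  intro V hV t p hp
  obtain ⟨O, hO, hOW, hpO, c, hc⟩ := h V hV t p hp
  refine ⟨O, hO, hOW, hpO, c, hc.trans (Finset.sum_congr rfl fun i _ ↦ ?_)⟩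
  exact congr_arg (fun y ↦ c i • (freeO X I).presheaf.map
    (homOfLE hOW).op y) (QCohLib.sections_val _ (SheafOfModules.freeSection i) W).symm

/-- Sections of a module with a finite presentation, on an affine open. -/
theorem finitePresentation_of_presentation {M : X.Modules} [hMq : Coh.IsQCoh M]
    (P : M.Presentation) [P.IsFinite] {W : X.Opens} (hW : IsAffineOpen W) :
    Module.FinitePresentation Γ(X, W) Γ(M, W) := by
  classical
  let I := P.generators.I
  let J := P.relations.I
  haveI : Finite I := (inferInstance : P.generators.IsFiniteType).finite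
  haveI : Finite J := (inferInstance : P.relations.IsFiniteType).finite
  letI : Fintype I := Fintype.ofFinite I
  letI : Fintype J := Fintype.ofFinite J
  let F : X.Modules := freeO X I
  let π : F ⟶ M := P.generators.π
  haveI hFq : Coh.IsQCoh F :=
    QCohLib.isQCoh_sigma (fun _ : I => Coh.structureModule X) (fun _ => QCohLib.isQCoh_unit)
  haveI : Epi π := P.generators.epi
  have hFspan := span_eq_top_of_genOn hW (genOn_freeBasisSection I W)
  let e := freeBasisSection (X := X) I W
  let Φ : (I → Γ(X, W)) →ₗ[Γ(X, W)] Γ(F, W) := Fintype.linearCombination Γ(X, W) e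
  have hΦ : Function.Bijective Φ := by
    refine ⟨(injective_iff_map_eq_zero Φ).mpr fun c hc ↦
      freeBasisSection_linearIndependent I W c hc, LinearMap.range_eq_top.mp ?_⟩
    rw [Fintype.range_linearCombination]
    exact hFspan
  haveI : Module.FinitePresentation Γ(X, W) Γ(F, W) :=
    Module.FinitePresentation.of_equiv (LinearEquiv.ofBijective Φ hΦ)
  let πW : Γ(F, W) →ₗ[Γ(X, W)] Γ(M, W) :=
    { toFun := fun y ↦ π.app W y
      map_add' := fun a b ↦ map_add _ a b
      map_smul' := fun r y ↦ QCohLib.app_smul π W r y }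
  have hsurj : Function.Surjective πW := by
    refine LinearMap.range_eq_top.mp (eq_top_iff.mpr ?_)
    rw [← span_eq_top_of_genOn hW ((genOn_freeBasisSection I W).image π), Submodule.span_le]
    rintro _ ⟨i, rfl⟩
    exact ⟨e i, rfl⟩
  refine Module.finitePresentation_of_surjective πW hsurj ?_
  haveI hKq : Coh.IsQCoh (kernel π) := QCohLib.isQCoh_kernel π
  haveI : Epi ((kernel π).freeHomEquiv.symm P.relations.s) := P.relations.epi
  have hgen := (QCohLib.genTop_of_epi (M := kernel π) P.relations.s).genOn.mono (le_top : W ≤ ⊤)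
  have hKspan := span_eq_top_of_genOn hW hgen
  let ιW : Γ(kernel π, W) →ₗ[Γ(X, W)] Γ(F, W) :=
    { toFun := fun y ↦ (kernel.ι π).app W y
      map_add' := fun a b ↦ map_add _ a b
      map_smul' := fun r y ↦ QCohLib.app_smul (kernel.ι π) W r y }
  have hker : LinearMap.ker πW = LinearMap.range ιW := by
    refine le_antisymm (fun y hy ↦ ?_) ?_
    · have hex : (ShortComplex.mk (kernel.ι π) π (kernel.condition π)).Exact :=
        ShortComplex.exact_of_f_is_kernel _ (kernelIsKernel π)
      exact QCohLib.exists_of_app_eq_zero hex (inferInstanceAs (Mono (kernel.ι π))) y hy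
    · rintro _ ⟨y, rfl⟩
      show π.app W ((kernel.ι π).app W y) = 0
      exact congr($(congr_arg (fun φ : kernel π ⟶ M ↦ φ.app W) (kernel.condition π)) y)
  rw [hker, LinearMap.range_eq_map, ← hKspan, Submodule.map_span]
  exact Submodule.fg_span (Set.Finite.image _ (Set.finite_range _))

/-- Finite presentation moves along compatible isomorphisms of the ring and of the module. -/
theorem finitePresentation_semilinear {A B M N : Type u} [CommRing A] [CommRing B] [AddCommGroup M]
    [AddCommGroup N] [Module A M] [Module B N] (e : A →+* B) (he : Function.Surjective e)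
    (φ : M ≃+ N) (h : ∀ a m, φ (a • m) = e a • φ m) [Module.FinitePresentation A M] :
    Module.FinitePresentation B N := by
  letI : Algebra A B := e.toAlgebra
  letI : Module A N := Module.compHom N e
  haveI : IsScalarTower A B N := IsScalarTower.of_algebraMap_smul fun _ _ ↦ rfl
  haveI : Module.FinitePresentation A N :=
    Module.FinitePresentation.of_equiv
      ({ φ with map_smul' := fun a m ↦ h a m } : M ≃ₗ[A] N)
  exact FinitePresentation.of_isBaseChange (A := B) LinearMap.id
    (isBaseChange_id_of_surjective he)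

theorem presentation_restrict_finite {Z : Scheme.{u}} (f : Z ⟶ X) [IsOpenImmersion f] {M : X.Modules}
    (P : M.Presentation) (h : P.IsFinite) : (Scheme.Modules.presentationRestrict f P).IsFinite := by
  have := h.isFiniteType_generators
  have := h.isFiniteType_relations
  exact { isFiniteType_generators := ⟨(inferInstance : Finite P.generators.I)⟩
          isFiniteType_relations := ⟨(inferInstance : Finite P.relations.I)⟩ }

set_option backward.isDefEq.respectTransparency.types false in
theorem exists_presentation_nhd {M : X.Modules} (h : CohB1.IsFP M) (x : X) :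
    ∃ (O : X.Opens) (P : (M.restrict O.ι).Presentation), x ∈ O ∧ P.IsFinite := by
  obtain ⟨σ, hσ⟩ := h.exists_quasicoherentData
  obtain ⟨i, hi⟩ : ∃ i, x ∈ σ.X i :=
    Opens.mem_iSup.mp ((((Opens.coversTop_iff (X : Type u) σ.X).mp σ.coversTop)).ge (Opens.mem_top x))
  let O : X.Opens := σ.X i
  have hf := hσ.isFinite_presentation i
  have := hf.isFiniteType_generators
  have := hf.isFiniteType_relations
  let P₁ := (σ.presentation i).map (Scheme.Modules.overEquiv O).functor
    (((Scheme.Modules.overFunctorEquiv O).app (SheafOfModules.unit X.ringCatSheaf) ≪≫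
      Scheme.Modules.restrictUnitIso O.ι).symm)
  refine ⟨O, P₁.ofIsIso ((Scheme.Modules.overFunctorEquiv O).app M).hom, hi, ?_⟩
  exact { isFiniteType_generators := ⟨(inferInstance : Finite (σ.presentation i).generators.I)⟩
          isFiniteType_relations := ⟨(inferInstance : Finite (σ.presentation i).relations.I)⟩ }

/-- A finitely presented module has finitely presented sections on small affine opens. -/
theorem exists_finitePresentation_nhd {M : X.Modules} [Coh.IsQCoh M] (h : CohB1.IsFP M) {x : X}
    {U : X.Opens} (hx : x ∈ U) :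
    ∃ W : X.Opens, IsAffineOpen W ∧ W ≤ U ∧ x ∈ W ∧ Module.FinitePresentation Γ(X, W) Γ(M, W) := by
  obtain ⟨O, P, hxO, hP⟩ := exists_presentation_nhd h x
  obtain ⟨_, ⟨W₀, hW₀, rfl⟩, hxW, hWU⟩ := (O : Scheme.{u}).isBasis_affineOpens.exists_subset_of_mem_open
    (show (⟨x, hxO⟩ : (O : Scheme.{u})) ∈ (O.ι ⁻¹ᵁ U : (O : Scheme.{u}).Opens) from hx) (O.ι ⁻¹ᵁ U).2
  haveI := hP
  haveI := finitePresentation_of_presentation P hW₀
  refine ⟨O.ι ''ᵁ W₀, hW₀.image_of_isOpenImmersion O.ι,
    (O.ι.image_mono hWU).trans (O.ι.image_preimage_le U), ⟨⟨x, hxO⟩, hxW, rfl⟩, ?_⟩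
  exact finitePresentation_semilinear (A := Γ((O : Scheme.{u}), W₀)) (M := Γ(M.restrict O.ι, W₀))
    (O.ι.appIso W₀).inv.hom
    (O.ι.appIso W₀).commRingCatIsoToRingEquiv.symm.surjective
    (M.restrictAppIso O.ι W₀).addCommGroupIsoToAddEquiv
    fun r m ↦ Scheme.Modules.smul_restrictAppIso_hom_apply O.ι M W₀ r m

end FlatLib
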