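import Groth.Agent.FlatLib.Slicing
import Mathlib

/-! Consequences of the slicing criterion. -/

set_option autoImplicit false
universe u

open TensorProduct

namespace FlatLib

theorem exists_smul_mem_of_tmul_eq_zero {R M : Type u} [CommRing R] [AddCommGroup M] [Module R M]
    (p : Ideal R) [p.IsPrime] {m : M} (h : (1 : p.ResidueField) ⊗ₜ[R] m = 0) :
    ∃ r ∉ p, r • m ∈ p • (⊤ : Submodule R M) := by
  let A := R ⧸ p
  let g : A →ₗ[A] p.ResidueField := Algebra.linearMap A p.ResidueField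
  haveI : IsLocalizedModule (nonZeroDivisors A) g := (isLocalizedModule_iff_isLocalization (S := nonZeroDivisors A)).mpr inferInstance
  have h1 : AlgebraTensorModule.rTensor R M g ((1 : A) ⊗ₜ[R] m) = 0 := by
    show g 1 ⊗ₜ[R] m = 0
    rw [show g 1 = (1 : p.ResidueField) from map_one (algebraMap A p.ResidueField)]
    exact h
  obtain ⟨⟨s, hs⟩, hsm⟩ :=
    (IsLocalizedModule.eq_zero_iff (nonZeroDivisors A) (AlgebraTensorModule.rTensor R M g)).mp h1
  obtain ⟨r, rfl⟩ := Ideal.Quotient.mk_surjective s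
  refine ⟨r, fun hr ↦ nonZeroDivisors.ne_zero hs (Ideal.Quotient.eq_zero_iff_mem.mpr hr), ?_⟩
  have h2 : (1 : A) ⊗ₜ[R] (r • m) = 0 := by
    rw [tmul_smul, smul_tmul', Algebra.smul_def, mul_one]
    have : (Ideal.Quotient.mk p r) • ((1 : A) ⊗ₜ[R] m) = 0 := hsm
    rw [smul_tmul', smul_eq_mul, mul_one] at this
    exact this
  have h3 := congrArg (TensorProduct.quotTensorEquivQuotSMul M p) h2
  rw [TensorProduct.quotTensorEquivQuotSMul_mk_one_tmul _ _, map_zero, Submodule.Quotient.mk_eq_zero] at h3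
  exact h3

variable {A B M : Type u} [CommRing A] [CommRing B] [Algebra A B] [AddCommGroup M] [Module B M]
  [Module A M] [IsScalarTower A B M] [Algebra.FinitePresentation A B] [Module.FinitePresentation B M]

/-- Slicing when the element is regular on all fibres. -/
theorem slice_of_fibres [Module.Flat A M] (a : B)
    (ha : ∀ (p : Ideal A) [p.IsPrime],
      IsSMulRegular ((B ⊗[A] p.ResidueField) ⊗[B] M) (a ⊗ₜ[A] (1 : p.ResidueField)))
    (q : PrimeSpectrum B) (haP : a ∈ q.asIdeal) :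
    (∀ m : M, a • m = 0 → ∃ t ∉ q.asIdeal, t • m = 0) ∧
      q ∈ flatLocus A B (M ⧸ (Ideal.span {a} • (⊤ : Submodule B M))) := by
  have hflat : q ∈ flatLocus A B M :=
    (flat_localized_iff q.asIdeal.primeCompl (LocalizedModule.mkLinearMap _ _)).mpr fun X _ _ N x hx ↦
      ⟨1, one_mem _, by
        rw [one_smul]
        exact Module.Flat.lTensor_preserves_injective_linearMap _ Subtype.val_injective
          (hx.trans (map_zero _).symm)⟩
  let p := q.asIdeal.comap (algebraMap A B)
  let k := p.ResidueField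
  let e₀ : (B ⊗[A] k) ⊗[B] M ≃ₗ[B] M ⊗[A] k :=
    (TensorProduct.comm B (B ⊗[A] k) M).trans (AlgebraTensorModule.cancelBaseChange A B B M k)
  have hz0 : ∀ y : M, y ∈ (p.map (algebraMap A B)) • (⊤ : Submodule B M) →
      (1 : B ⊗[A] k) ⊗ₜ[B] y = 0 := fun y hy ↦ by
    refine Submodule.smul_induction_on hy (fun r hr w _ ↦ ?_) (fun x y hx hy ↦ by rw [tmul_add, hx, hy, add_zero])
    rw [← smul_tmul]
    have : r • (1 : B ⊗[A] k) = 0 := by
      have hle : p.map (algebraMap A B) ≤ RingHom.ker (algebraMap B (B ⊗[A] k)) :=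
        Ideal.map_le_iff_le_comap.mpr fun c hc ↦ by
          show algebraMap B (B ⊗[A] k) (algebraMap A B c) = 0
          rw [Algebra.TensorProduct.algebraMap_apply, Algebra.algebraMap_self, RingHom.id_apply,
            Algebra.algebraMap_eq_smul_one, smul_tmul, ← Algebra.algebraMap_eq_smul_one,
            Ideal.algebraMap_residueField_eq_zero.mpr hc, tmul_zero]
      rw [Algebra.smul_def, hle hr, zero_mul]
    rw [this, zero_tmul]
  obtain ⟨U, -, hqU, hU⟩ := slice_point q a haP hflat (by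
    rintro y ⟨t, ht, hty⟩
    have h1 := hz0 _ hty
    have h2 : (a ⊗ₜ[A] (1 : k)) • ((1 : B ⊗[A] k) ⊗ₜ[B] (t • y)) =
        (a ⊗ₜ[A] (1 : k)) • (0 : (B ⊗[A] k) ⊗[B] M) := by
      rw [smul_zero, ← h1, smul_tmul', smul_eq_mul, mul_one, smul_comm t a y, ← smul_tmul a 1 (t • y)]
      congr 1
      rw [Algebra.smul_def, mul_one, Algebra.TensorProduct.algebraMap_apply, Algebra.algebraMap_self,
        RingHom.id_apply]
    have h3 : (1 : B ⊗[A] k) ⊗ₜ[B] (t • y) = 0 := ha p h2
    have h4 : (1 : k) ⊗ₜ[A] (t • y) = 0 := by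
      have h5 := congrArg e₀ h3
      have h6 : e₀ ((1 : B ⊗[A] k) ⊗ₜ[B] (t • y)) = (t • y) ⊗ₜ[A] (1 : k) := by
        simp [e₀, Algebra.TensorProduct.one_def, smul_tmul']
      rw [h6, map_zero] at h5
      have h7 := congrArg (TensorProduct.comm A M k) h5
      rwa [TensorProduct.comm_tmul, map_zero] at h7
    obtain ⟨r, hr, hry⟩ := exists_smul_mem_of_tmul_eq_zero p h4
    refine ⟨algebraMap A B r * t, fun h ↦ (q.isPrime.mem_or_mem h).elim hr ht, ?_⟩
    rw [mul_smul, algebraMap_smul]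
    rw [← Submodule.restrictScalars_mem A, Ideal.smul_restrictScalars, Submodule.restrictScalars_top]
    exact hry)
  exact hU q hqU

/-- An element regular on every fibre of a flat module is regular. -/
theorem isSMulRegular_of_fibres [Module.Flat A M] (a : B)
    (ha : ∀ (p : Ideal A) [p.IsPrime],
      IsSMulRegular ((B ⊗[A] p.ResidueField) ⊗[B] M) (a ⊗ₜ[A] (1 : p.ResidueField))) :
    IsSMulRegular M a := by
  refine isSMulRegular_iff_right_eq_zero_of_smul.mpr fun m hm ↦ ?_
  refine Module.eq_of_localization_maximal (R := B) (fun P [P.IsMaximal] ↦ LocalizedModule P.primeCompl M)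
    (fun P [P.IsMaximal] ↦ LocalizedModule.mkLinearMap P.primeCompl M) m 0 fun P hP ↦ ?_
  rw [map_zero, IsLocalizedModule.eq_zero_iff P.primeCompl]
  by_cases haP : a ∈ P
  swap
  · exact ⟨⟨a, haP⟩, hm⟩
  obtain ⟨t, ht, htm⟩ := (slice_of_fibres (A := A) a ha ⟨P, hP.isPrime⟩ haP).1 m hm
  exact ⟨⟨t, ht⟩, htm⟩

/-- The quotient of a flat module by an element regular on every fibre is flat. -/
theorem flat_quotient_of_fibres [Module.Flat A M] (a : B)
    (ha : ∀ (p : Ideal A) [p.IsPrime],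
      IsSMulRegular ((B ⊗[A] p.ResidueField) ⊗[B] M) (a ⊗ₜ[A] (1 : p.ResidueField))) :
    Module.Flat A (M ⧸ (Ideal.span {a} • (⊤ : Submodule B M))) := by
  refine Module.flat_of_isLocalized_maximal B _ (fun P _ ↦ LocalizedModule P.primeCompl _)
    (fun P _ ↦ LocalizedModule.mkLinearMap _ _) fun P hP ↦ ?_
  by_cases haP : a ∈ P
  · exact (slice_of_fibres a ha ⟨P, hP.isPrime⟩ haP).2
  · haveI : Subsingleton (LocalizedModule P.primeCompl (M ⧸ (Ideal.span {a} • (⊤ : Submodule B M)))) :=
      LocalizedModule.subsingleton_iff.mpr fun y ↦ by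
        obtain ⟨m, rfl⟩ := Submodule.Quotient.mk_surjective _ y
        exact ⟨a, haP, (Submodule.Quotient.mk_smul _ _ _).symm.trans (mk_span_singleton_smul_top_eq_zero m)⟩
    infer_instance

end FlatLib
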