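import Groth.Agent.FlatLib.FibMaster
import Groth.Prelude.Def_CAlgX
import Mathlib

/-! The fibrewise criterion for algebras essentially of finite presentation. -/

set_option autoImplicit false
universe u

open TensorProduct

namespace FlatLib

theorem exists_model_of_isLocalization {C L M : Type u} [CommRing C] [CommRing L] [Algebra C L]
    (T : Submonoid C) [IsLocalization T L] [AddCommGroup M] [Module L M] [Module C M]
    [IsScalarTower C L M] [Module.FinitePresentation L M] :
    ∃ (M₀ : Type u) (_ : AddCommGroup M₀) (_ : Module C M₀) (g : M₀ →ₗ[C] M),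
      Module.FinitePresentation C M₀ ∧ IsLocalizedModule T g := by
  classical
  obtain ⟨n, K, e, hK⟩ := Module.FinitePresentation.exists_fin L M
  obtain ⟨V, rfl⟩ := hK
  obtain ⟨b, hb⟩ := IsLocalization.exist_integer_multiples_of_finset T
    (V.biUnion fun v ↦ (Finset.univ : Finset (Fin n)).image v)
  have hlift : ∀ v ∈ V, ∃ w : Fin n → C, ∀ i, algebraMap C L (w i) = (b : C) • v i := fun v hv ↦ by
    have : ∀ i, ∃ c : C, algebraMap C L c = (b : C) • v i := fun i ↦
      hb (v i) (Finset.mem_biUnion.mpr ⟨v, hv, Finset.mem_image_of_mem _ (Finset.mem_univ i)⟩)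
    choose w hw using this
    exact ⟨w, hw⟩
  choose! w hw using hlift
  let j : (Fin n → C) →ₗ[C] (Fin n → L) := LinearMap.pi fun i ↦ Algebra.linearMap C L ∘ₗ LinearMap.proj i
  have hjw : ∀ v ∈ V, j (w v) = (b : C) • v := fun v hv ↦ funext fun i ↦ hw v hv i
  let K₀ : Submodule C (Fin n → C) := Submodule.span C (w '' V)
  let K : Submodule L (Fin n → L) := Submodule.span L (V : Set (Fin n → L))
  let g₀ : (Fin n → C) →ₗ[C] M :=
    ((e.symm.toLinearMap.restrictScalars C) ∘ₗ (K.mkQ.restrictScalars C)) ∘ₗ j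
  have hK₀ : K₀ ≤ LinearMap.ker g₀ := by
    rw [Submodule.span_le]
    rintro _ ⟨v, hv, rfl⟩
    show e.symm (Submodule.Quotient.mk (j (w v))) = 0
    rw [hjw v hv, show (Submodule.Quotient.mk ((b : C) • v) : (Fin n → L) ⧸ K) = 0 from
      (Submodule.Quotient.mk_eq_zero _).mpr
        (Submodule.smul_of_tower_mem K (b : C) (Submodule.subset_span hv)), map_zero]
  let g : ((Fin n → C) ⧸ K₀) →ₗ[C] M := K₀.liftQ g₀ hK₀
  have hclear : ∀ z : Fin n → L, ∃ (t : T) (x : Fin n → C), j x = (t : C) • z := fun z ↦ by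
    obtain ⟨t, ht⟩ := IsLocalization.exist_integer_multiples_of_finset T
      ((Finset.univ : Finset (Fin n)).image z)
    have : ∀ i, ∃ c : C, algebraMap C L c = (t : C) • z i := fun i ↦
      ht (z i) (Finset.mem_image_of_mem _ (Finset.mem_univ i))
    choose x hx using this
    exact ⟨t, x, funext hx⟩
  have hspan : ∀ z ∈ K, ∃ (t : T), ∃ c ∈ K₀, j c = (t : C) • z := by
    intro z hz
    induction hz using Submodule.span_induction with
    | mem v hv => exact ⟨b, w v, Submodule.subset_span ⟨v, hv, rfl⟩, hjw v hv⟩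
    | zero => exact ⟨1, 0, zero_mem _, by simp⟩
    | add x y _ _ hx hy =>
      obtain ⟨t, c, hc, hcx⟩ := hx
      obtain ⟨t', c', hc', hcy⟩ := hy
      refine ⟨t * t', (t' : C) • c + (t : C) • c', add_mem (Submodule.smul_mem _ _ hc)
        (Submodule.smul_mem _ _ hc'), ?_⟩
      rw [map_add, map_smul, map_smul, hcx, hcy, Submonoid.coe_mul, smul_add, mul_smul, mul_smul,
        smul_comm (t' : C) (t : C) x]
    | smul l x _ hx =>
      obtain ⟨t, c, hc, hcx⟩ := hx
      obtain ⟨⟨a, s⟩, has⟩ := IsLocalization.surj T l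
      refine ⟨s * t, a • c, Submodule.smul_mem _ _ hc, ?_⟩
      have has' : (s : C) • l = algebraMap C L a := by
        rw [Algebra.smul_def, mul_comm]
        exact has
      rw [map_smul, hcx, Submonoid.coe_mul, mul_smul, smul_comm (t : C) l x, ← smul_assoc (s : C) l, has',
        algebraMap_smul]
  haveI : IsLocalizedModule T g := by
    constructor
    · exact fun x ↦ IsLocalizedModule.map_units (LocalizedModule.mkLinearMap T C) x |> fun _ ↦ by
        rw [Module.End.isUnit_iff]
        have hu : IsUnit (algebraMap C L x) := IsLocalization.map_units L x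
        refine ⟨fun a c hac ↦ ?_, fun a ↦ ⟨(↑hu.unit⁻¹ : L) • a, ?_⟩⟩
        · have : algebraMap C L x • a = algebraMap C L x • c := by
            rw [algebraMap_smul, algebraMap_smul]; exact hac
          exact hu.smul_left_cancel.mp this
        · show (x : C) • ((↑hu.unit⁻¹ : L) • a) = a
          rw [← algebraMap_smul L (x : C), smul_smul, IsUnit.mul_val_inv, one_smul]
    · intro m
      obtain ⟨z, hz⟩ := Submodule.Quotient.mk_surjective _ (e m)
      obtain ⟨t, x, hx⟩ := hclear z
      refine ⟨⟨Submodule.Quotient.mk x, t⟩, ?_⟩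
      show (t : C) • m = e.symm (Submodule.Quotient.mk (j x))
      rw [hx, Submodule.Quotient.mk_smul, hz]
      show _ = (e.symm.toLinearMap.restrictScalars C) ((t : C) • e m)
      rw [map_smul]
      show _ = (t : C) • e.symm (e m)
      rw [e.symm_apply_apply]
    · intro x y hxy
      obtain ⟨x, rfl⟩ := Submodule.Quotient.mk_surjective _ x
      obtain ⟨y, rfl⟩ := Submodule.Quotient.mk_surjective _ y
      have hmem : j (x - y) ∈ K := by
        rw [← Submodule.Quotient.mk_eq_zero, map_sub, Submodule.Quotient.mk_sub, sub_eq_zero]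
        exact e.symm.injective hxy
      obtain ⟨t, c, hc, hcz⟩ := hspan _ hmem
      have h0 : ∀ i, ∃ s : T, (s : C) * (((t : C) • (x - y)) i - c i) = 0 := fun i ↦ by
        refine (IsLocalization.map_eq_zero_iff T L _).mp ?_
        have := congrFun hcz i
        show algebraMap C L ((t : C) * (x - y) i - c i) = 0
        rw [map_sub, map_mul, sub_eq_zero, ← Algebra.smul_def]
        exact this.symm
      choose s hs using h0
      refine ⟨(∏ i, s i) * t, ?_⟩
      rw [Submonoid.smul_def, Submonoid.smul_def, ← sub_eq_zero, ← smul_sub,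
        ← Submodule.Quotient.mk_sub, ← Submodule.Quotient.mk_smul, Submodule.Quotient.mk_eq_zero,
        Submonoid.coe_mul, mul_smul]
      have : ((∏ i, s i : T) : C) • ((t : C) • (x - y)) = ((∏ i, s i : T) : C) • c := by
        refine funext fun i ↦ ?_
        obtain ⟨d, hd⟩ := Finset.dvd_prod_of_mem s (Finset.mem_univ i)
        show ((∏ i, s i : T) : C) * ((t : C) • (x - y)) i = ((∏ i, s i : T) : C) * c i
        rw [← sub_eq_zero, ← mul_sub, hd, Submonoid.coe_mul, mul_comm (s i : C), mul_assoc, hs,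
          mul_zero]
      rw [this]
      exact Submodule.smul_mem _ _ hc
  exact ⟨_, inferInstance, inferInstance, g, Module.finitePresentation_of_surjective K₀.mkQ
    K₀.mkQ_surjective (by rw [Submodule.ker_mkQ]; exact Submodule.fg_span (V.finite_toSet.image w)),
    ‹_›⟩

theorem finitePresentation_of_essFP_pair {R S₀ S'₀ S' : Type u} [CommRing R] [CommRing S₀]
    [CommRing S'₀] [CommRing S'] [IsLocalRing S'] [Algebra R S₀] [Algebra R S'₀] [Algebra R S']
    [Algebra S'₀ S'] [IsScalarTower R S'₀ S'] [Algebra.FiniteType R S₀] (T : Submonoid S'₀)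
    [IsLocalization T S'] (α : S₀ →ₐ[R] S') [Algebra (S₀ ⊗[R] S'₀) S']
    (hα : ∀ a b, algebraMap (S₀ ⊗[R] S'₀) S' (a ⊗ₜ b) = α a * algebraMap S'₀ S' b)
    (q : Ideal (S₀ ⊗[R] S'₀)) [q.IsPrime]
    (hq : q = (IsLocalRing.maximalIdeal S').comap (algebraMap (S₀ ⊗[R] S'₀) S'))
    [Algebra (Localization.AtPrime q) S']
    [IsScalarTower (S₀ ⊗[R] S'₀) (Localization.AtPrime q) S'] :
    Module.FinitePresentation (Localization.AtPrime q) S' := by
  classical
  let C := S₀ ⊗[R] S'₀
  let Cq := Localization.AtPrime q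
  obtain ⟨G, hG⟩ := (inferInstance : Algebra.FiniteType R S₀).out
  have hunit : ∀ c : C, IsUnit (algebraMap C S' c) → IsUnit (algebraMap C Cq c) := fun c hc ↦
    IsLocalization.map_units Cq (⟨c, fun hcq ↦
      (IsLocalRing.mem_maximalIdeal _).mp (Ideal.mem_comap.mp (hq.le hcq)) hc⟩ : q.primeCompl)
  have hright : ∀ b, algebraMap C S' (1 ⊗ₜ b) = algebraMap S'₀ S' b := fun b ↦ by
    rw [hα, map_one, one_mul]
  have hleft : ∀ a, algebraMap C S' (a ⊗ₜ 1) = α a := fun a ↦ by rw [hα, map_one, mul_one]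
  have hsurj : Function.Surjective (algebraMap Cq S') := fun z ↦ by
    obtain ⟨⟨b, t⟩, hbt⟩ := IsLocalization.surj T z
    have hu : IsUnit (algebraMap C Cq (1 ⊗ₜ (t : S'₀))) :=
      hunit _ (by rw [hright]; exact IsLocalization.map_units S' t)
    refine ⟨algebraMap C Cq (1 ⊗ₜ b) * ↑hu.unit⁻¹, ?_⟩
    apply (IsLocalization.map_units S' t).mul_right_cancel
    rw [hbt, map_mul, ← IsScalarTower.algebraMap_apply, hright, mul_assoc, ← hright (t : S'₀),
      IsScalarTower.algebraMap_apply C Cq S' (1 ⊗ₜ (t : S'₀)), ← map_mul, IsUnit.val_inv_mul,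
      map_one, mul_one]
  have hfrac : ∀ x : S₀, ∃ nd : S'₀ × T, α x * algebraMap S'₀ S' nd.2 = algebraMap S'₀ S' nd.1 :=
    fun x ↦ IsLocalization.surj T (α x)
  choose nd hnd using hfrac
  let rel : S₀ → Cq := fun x ↦ algebraMap C Cq (x ⊗ₜ ((nd x).2 : S'₀) - 1 ⊗ₜ (nd x).1)
  let K' : Ideal Cq := Ideal.span (rel '' G)
  have hK' : ∀ z ∈ K', algebraMap Cq S' z = 0 := fun z hz ↦
    (Ideal.span_le.mpr (by
      rintro _ ⟨x, -, rfl⟩
      show algebraMap Cq S' (algebraMap C Cq _) = 0
      rw [← IsScalarTower.algebraMap_apply, map_sub, hα, hright, hnd, sub_self]) :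
      K' ≤ RingHom.ker (algebraMap Cq S')) hz
  let mk := Ideal.Quotient.mk K'
  let β : S'₀ →+* Cq ⧸ K' := mk.comp ((algebraMap C Cq).comp
    (Algebra.TensorProduct.includeRight : S'₀ →ₐ[R] C).toRingHom)
  have hβ : ∀ t : T, IsUnit (β t) := fun t ↦
    (hunit (1 ⊗ₜ (t : S'₀)) (by rw [hright]; exact IsLocalization.map_units S' t)).map mk
  let ρ : S' →+* Cq ⧸ K' := IsLocalization.lift (P := Cq ⧸ K') hβ
  have hρ : ∀ b, ρ (algebraMap S'₀ S' b) = mk (algebraMap C Cq (1 ⊗ₜ b)) :=
    fun b ↦ IsLocalization.lift_eq hβ b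
  have hρR : ∀ r : R, ρ (algebraMap R S' r) = algebraMap R (Cq ⧸ K') r := fun r ↦ by
    rw [IsScalarTower.algebraMap_apply R S'₀ S', hρ, IsScalarTower.algebraMap_apply R C (Cq ⧸ K')]
    show mk (algebraMap C Cq ((1 : S₀) ⊗ₜ algebraMap R S'₀ r)) =
      mk (algebraMap C Cq (algebraMap R S₀ r ⊗ₜ (1 : S'₀)))
    rw [show (1 : S₀) ⊗ₜ[R] algebraMap R S'₀ r = algebraMap R S₀ r ⊗ₜ[R] (1 : S'₀) from
      (Algebra.TensorProduct.algebraMap_apply' r).symm]
  let ρR : S' →ₐ[R] Cq ⧸ K' := { ρ with commutes' := hρR }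
  let γ : S₀ →ₐ[R] Cq ⧸ K' := ((Ideal.Quotient.mkₐ R K').comp (IsScalarTower.toAlgHom R C Cq)).comp
    Algebra.TensorProduct.includeLeft
  have hγ : γ = ρR.comp α := by
    refine AlgHom.ext_of_adjoin_eq_top hG fun x hx ↦ ?_
    show mk (algebraMap C Cq (x ⊗ₜ 1)) = ρ (α x)
    have hu : IsUnit (mk (algebraMap C Cq (1 ⊗ₜ ((nd x).2 : S'₀)))) :=
      (hunit _ (by rw [hright]; exact IsLocalization.map_units S' (nd x).2)).map mk
    apply hu.mul_right_cancel
    rw [← hρ, ← map_mul ρ, hnd, hρ, hρ, ← map_mul, ← map_mul, Algebra.TensorProduct.tmul_mul_tmul,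
      mul_one, one_mul, Ideal.Quotient.eq, ← map_sub]
    exact Ideal.subset_span ⟨x, hx, rfl⟩
  have hcomp : ρ.comp (algebraMap Cq S') = mk := by
    refine IsLocalization.ringHom_ext q.primeCompl (RingHom.ext fun c ↦ ?_)
    simp only [RingHom.comp_apply, ← IsScalarTower.algebraMap_apply]
    induction c using TensorProduct.induction_on with
    | zero => simp
    | add a b ha hb => simp only [map_add, ha, hb]
    | tmul a b =>
      rw [hα, map_mul, hρ, show ρ (α a) = γ a from (DFunLike.congr_fun hγ a).symm]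
      show mk (algebraMap C Cq (a ⊗ₜ 1)) * _ = _
      rw [← map_mul, ← map_mul, Algebra.TensorProduct.tmul_mul_tmul, mul_one, one_mul]
  have hker : LinearMap.ker (Algebra.linearMap Cq S') = K' := by
    refine le_antisymm (fun z hz ↦ ?_) fun z hz ↦ hK' z hz
    rw [← Ideal.Quotient.eq_zero_iff_mem, ← RingHom.congr_fun hcomp z]
    show ρ (algebraMap Cq S' z) = 0
    rw [show algebraMap Cq S' z = 0 from hz, map_zero]
  exact Module.finitePresentation_of_surjective (Algebra.linearMap Cq S') hsurj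
    (hker ▸ Submodule.fg_span (G.finite_toSet.image rel))

set_option maxSynthPendingDepth 6 in
theorem fibre_criterion_essFP {R S S' M : Type u} [CommRing R] [CommRing S] [CommRing S']
    [IsLocalRing R] [IsLocalRing S] [IsLocalRing S'] [Algebra R S] [Algebra S S'] [Algebra R S']
    [IsScalarTower R S S'] [IsLocalHom (algebraMap R S)] [IsLocalHom (algebraMap S S')]
    (hS : CAlgX.IsEssFinitePresentation R S) (hS' : CAlgX.IsEssFinitePresentation R S')
    [AddCommGroup M] [Module S' M] [Module S M] [Module R M] [IsScalarTower S S' M]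
    [IsScalarTower R S' M] [IsScalarTower R S M] [Module.FinitePresentation S' M] [Nontrivial M]
    [Module.Flat R M]
    (hfib : Module.Flat (S ⧸ (IsLocalRing.maximalIdeal R).map (algebraMap R S))
      (M ⧸ (IsLocalRing.maximalIdeal R).map (algebraMap R S) • (⊤ : Submodule S M))) :
    Module.Flat R S ∧ Module.Flat S M := by
  obtain ⟨S₀, _, _, _, _, T₀, hS₀, hT₀⟩ := hS
  obtain ⟨S'₀, _, _, _, _, T₁, hS'₀, hT₁⟩ := hS'
  let α : S₀ →ₐ[R] S' := (IsScalarTower.toAlgHom R S S').comp (IsScalarTower.toAlgHom R S₀ S)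
  let πC : S₀ ⊗[R] S'₀ →ₐ[R] S' :=
    Algebra.TensorProduct.lift α (IsScalarTower.toAlgHom R S'₀ S') fun _ _ ↦ Commute.all _ _
  letI : Algebra (S₀ ⊗[R] S'₀) S' := πC.toRingHom.toAlgebra
  have hα : ∀ a b, algebraMap (S₀ ⊗[R] S'₀) S' (a ⊗ₜ b) = α a * algebraMap S'₀ S' b := fun a b ↦
    Algebra.TensorProduct.lift_tmul _ _ _ a b
  haveI : IsScalarTower R (S₀ ⊗[R] S'₀) S' :=
    IsScalarTower.of_algebraMap_eq fun r ↦ (πC.commutes r).symm
  let q : Ideal (S₀ ⊗[R] S'₀) :=
    (IsLocalRing.maximalIdeal S').comap (algebraMap (S₀ ⊗[R] S'₀) S')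
  haveI : q.IsPrime := Ideal.IsPrime.comap _
  have hu : ∀ c : q.primeCompl, IsUnit (algebraMap (S₀ ⊗[R] S'₀) S' c) := fun c ↦ by
    by_contra h
    exact c.2 (show algebraMap (S₀ ⊗[R] S'₀) S' c ∈ IsLocalRing.maximalIdeal S' from
      (IsLocalRing.mem_maximalIdeal _).mpr h)
  letI : Algebra (Localization.AtPrime q) S' := (IsLocalization.lift hu).toAlgebra
  haveI : IsScalarTower (S₀ ⊗[R] S'₀) (Localization.AtPrime q) S' :=
    IsScalarTower.of_algebraMap_eq fun c ↦ (IsLocalization.lift_eq hu c).symm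
  haveI := finitePresentation_of_essFP_pair T₁ α hα q rfl
  letI : Module (Localization.AtPrime q) M :=
    Module.compHom M (algebraMap (Localization.AtPrime q) S')
  haveI : IsScalarTower (Localization.AtPrime q) S' M :=
    IsScalarTower.of_algebraMap_smul fun _ _ ↦ rfl
  haveI : Module.FinitePresentation (Localization.AtPrime q) M :=
    Module.FinitePresentation.trans (Localization.AtPrime q) M S'
  letI : Module (S₀ ⊗[R] S'₀) M := Module.compHom M (algebraMap (S₀ ⊗[R] S'₀) S')
  haveI : IsScalarTower (S₀ ⊗[R] S'₀) S' M := IsScalarTower.of_algebraMap_smul fun _ _ ↦ rfl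
  haveI : IsScalarTower (S₀ ⊗[R] S'₀) (Localization.AtPrime q) M :=
    IsScalarTower.of_algebraMap_smul fun c m ↦ by
      show algebraMap (Localization.AtPrime q) S' (algebraMap _ _ c) • m = c • m
      rw [← IsScalarTower.algebraMap_apply, algebraMap_smul]
  obtain ⟨M₀, _, _, g, hM₀, hg⟩ := exists_model_of_isLocalization
    (C := S₀ ⊗[R] S'₀) (L := Localization.AtPrime q) (M := M) q.primeCompl
  letI : Module S₀ M₀ := Module.compHom M₀
    (Algebra.TensorProduct.includeLeftRingHom : S₀ →+* S₀ ⊗[R] S'₀)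
  haveI : IsScalarTower S₀ (S₀ ⊗[R] S'₀) M₀ := IsScalarTower.of_algebraMap_smul fun _ _ ↦ rfl
  letI : Module R M₀ := Module.compHom M₀ (algebraMap R (S₀ ⊗[R] S'₀))
  haveI : IsScalarTower R (S₀ ⊗[R] S'₀) M₀ := IsScalarTower.of_algebraMap_smul fun _ _ ↦ rfl
  haveI : IsScalarTower R S₀ M₀ := IsScalarTower.of_algebraMap_smul fun r m ↦ by
    rw [← algebraMap_smul (S₀ ⊗[R] S'₀) (algebraMap R S₀ r) m, ← IsScalarTower.algebraMap_apply,
      algebraMap_smul]
  letI : Module S₀ M := Module.compHom M (algebraMap S₀ S)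
  haveI : IsScalarTower S₀ S M := IsScalarTower.of_algebraMap_smul fun _ _ ↦ rfl
  haveI : IsScalarTower S₀ (S₀ ⊗[R] S'₀) M := IsScalarTower.of_algebraMap_smul fun c m ↦ by
    show algebraMap (S₀ ⊗[R] S'₀) S' (c ⊗ₜ 1) • m = algebraMap S₀ S c • m
    rw [hα, map_one, mul_one]
    show algebraMap S S' (algebraMap S₀ S c) • m = _
    rw [algebraMap_smul]
  haveI : IsScalarTower R (S₀ ⊗[R] S'₀) M := IsScalarTower.of_algebraMap_smul fun r m ↦ by
    show algebraMap (S₀ ⊗[R] S'₀) S' (algebraMap R _ r) • m = r • m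
    rw [← IsScalarTower.algebraMap_apply, algebraMap_smul]
  haveI : IsScalarTower R S₀ M := IsScalarTower.of_algebraMap_smul fun r m ↦ by
    show algebraMap S₀ S (algebraMap R S₀ r) • m = r • m
    rw [← IsScalarTower.algebraMap_apply, algebraMap_smul]
  let qs : PrimeSpectrum (S₀ ⊗[R] S'₀) := ⟨q, inferInstance⟩
  have hflat : qs ∈ flatLocus R (S₀ ⊗[R] S'₀) M₀ :=
    flat_of_le q.primeCompl g q.primeCompl (LocalizedModule.mkLinearMap _ M₀) le_rfl inferInstance
  have hnt : Nontrivial (LocalizedModule q.primeCompl M₀) :=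
    (IsLocalizedModule.iso q.primeCompl g).toEquiv.nontrivial
  have hp : q.comap (algebraMap R (S₀ ⊗[R] S'₀)) = IsLocalRing.maximalIdeal R := by
    show ((IsLocalRing.maximalIdeal S').comap (algebraMap (S₀ ⊗[R] S'₀) S')).comap
      (algebraMap R (S₀ ⊗[R] S'₀)) = _
    rw [Ideal.comap_comap, ← IsScalarTower.algebraMap_eq R (S₀ ⊗[R] S'₀) S',
      IsScalarTower.algebraMap_eq R S S', ← Ideal.comap_comap,
      (show (IsLocalRing.maximalIdeal S').comap (algebraMap S S') = IsLocalRing.maximalIdeal S from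
        ((IsLocalRing.local_hom_TFAE (algebraMap S S')).out 0 4).mp ‹_›)]
    exact ((IsLocalRing.local_hom_TFAE (algebraMap R S)).out 0 4).mp ‹_›
  have hfibS : FibFlat S₀ (S₀ ⊗[R] S'₀) M₀
      ((q.comap (algebraMap R (S₀ ⊗[R] S'₀))).map (algebraMap R S₀)) q := fun P _ _ hP N x hx ↦ by
    refine (injective_lTensor_localized_iff q.primeCompl g N.subtype).mp ?_ x hx
    let J := (IsLocalRing.maximalIdeal R).map (algebraMap R S)
    let hN' : S ⊗[S₀] N →ₗ[S] S ⊗[S₀] P := AlgebraTensorModule.lTensor S S N.subtype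
    haveI : Module.Flat S₀ S := IsLocalization.flat S T₀
    have hinj' : Function.Injective hN' :=
      Module.Flat.lTensor_preserves_injective_linearMap N.subtype Subtype.val_injective
    have hPJ : Module.IsTorsionBySet S (S ⊗[S₀] P) (J : Set S) := fun y c ↦ by
      have hle : J ≤ Module.annihilator S (S ⊗[S₀] P) := by
        rw [Ideal.map_le_iff_le_comap]
        intro r hr
        rw [Ideal.mem_comap, Module.mem_annihilator]
        intro z
        induction z using TensorProduct.induction_on with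
        | zero => rw [smul_zero]
        | add a b ha hb => rw [smul_add, ha, hb, add_zero]
        | tmul s p =>
          rw [IsScalarTower.algebraMap_apply R S₀ S, algebraMap_smul, ← tmul_smul,
            show algebraMap R S₀ r • p = 0 from
              hP (x := p) (a := ⟨_, Ideal.mem_map_of_mem _ (by rw [hp]; exact hr)⟩), tmul_zero]
      exact Module.mem_annihilator.mp (hle c.2) y
    have hNJ : Module.IsTorsionBySet S (S ⊗[S₀] N) (J : Set S) := fun y c ↦ hinj' (by
      rw [map_smul, map_zero]; exact hPJ (x := hN' y) (a := c))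
    letI := hNJ.module
    haveI : IsScalarTower S (S ⧸ J) (S ⊗[S₀] N) := hNJ.isScalarTower
    letI := hPJ.module
    haveI : IsScalarTower S (S ⧸ J) (S ⊗[S₀] P) := hPJ.isScalarTower
    let hq' : S ⊗[S₀] N →ₗ[S ⧸ J] S ⊗[S₀] P :=
      hN'.extendScalarsOfSurjective Ideal.Quotient.mk_surjective
    haveI : Module.Flat (S ⧸ J) ((S ⧸ J) ⊗[S] M) :=
      Module.Flat.of_linearEquiv (LinearEquiv.extendScalarsOfSurjective (R := S) (S := S ⧸ J)
        Ideal.Quotient.mk_surjective (TensorProduct.quotTensorEquivQuotSMul M J))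
    have h1 : Function.Injective (hN'.lTensor M) :=
      (injective_lTensor_quotient_iff hq').mp
        (Module.Flat.lTensor_preserves_injective_linearMap hq' hinj')
    let e₁ := AlgebraTensorModule.cancelBaseChange S₀ S S M N
    let e₂ := AlgebraTensorModule.cancelBaseChange S₀ S S M P
    have hcomm : ∀ z, e₂ (hN'.lTensor M z) = N.subtype.lTensor M (e₁ z) := fun z ↦ by
      induction z using TensorProduct.induction_on with
      | zero => simp
      | add a b ha hb => simp only [map_add, ha, hb]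
      | tmul m w =>
        induction w using TensorProduct.induction_on with
        | zero => simp
        | add a b ha hb => simp only [tmul_add, map_add, ha, hb]
        | tmul s c => simp [e₁, e₂, hN']
    intro a b hab
    obtain ⟨a, rfl⟩ := e₁.surjective a
    obtain ⟨b, rfl⟩ := e₁.surjective b
    rw [← hcomm, ← hcomm] at hab
    exact congr_arg e₁ (h1 (e₂.injective hab))
  haveI : Algebra.FinitePresentation R (S₀ ⊗[R] S'₀) :=
    Algebra.FinitePresentation.trans R S₀ (S₀ ⊗[R] S'₀)
  obtain ⟨U, -, hqU, hU⟩ := exists_open_of_fibFlat (R := R) (S := S₀) qs hflat hfibS hnt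
  obtain ⟨hflatS, hflatR⟩ := hU qs hqU
  constructor
  · let y := PrimeSpectrum.comap (algebraMap S₀ (S₀ ⊗[R] S'₀)) qs
    have hy : ∀ c : S₀, c ∈ y.asIdeal ↔ ¬ IsUnit (algebraMap S₀ S c) := fun c ↦ by
      show algebraMap (S₀ ⊗[R] S'₀) S' (c ⊗ₜ 1) ∈ IsLocalRing.maximalIdeal S' ↔ _
      rw [hα, map_one, mul_one, IsLocalRing.mem_maximalIdeal, mem_nonunits_iff]
      exact not_congr (isUnit_map_iff (algebraMap S S') _)
    haveI : IsLocalization y.asIdeal.primeCompl S := IsLocalization.of_le T₀ _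
      (fun t ht hmem ↦ (hy t).mp hmem (IsLocalization.map_units S ⟨t, ht⟩))
      (fun c hc ↦ not_not.mp fun h ↦ hc ((hy c).mpr h))
    exact flat_of_le y.asIdeal.primeCompl (LocalizedModule.mkLinearMap _ S₀) y.asIdeal.primeCompl
      (Algebra.linearMap S₀ S) le_rfl (hflatR hnt)
  · haveI : Module.Flat S₀ M := flat_of_le q.primeCompl (LocalizedModule.mkLinearMap _ M₀)
      q.primeCompl g le_rfl hflatS
    exact (Module.flat_iff_of_isLocalization S T₀ M).mpr inferInstance

end FlatLib
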