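import Mathlib

/-! Flatness of localisations through kernels. -/

set_option autoImplicit false
universe u

open TensorProduct LinearMap

namespace FlatLib

variable {R S M M' : Type u} [CommRing R] [CommRing S] [Algebra R S] [AddCommGroup M] [Module S M]
  [Module R M] [IsScalarTower R S M] [AddCommGroup M'] [Module S M'] [Module R M']
  [IsScalarTower R S M'] (T : Submonoid S) (φ : M →ₗ[S] M') [IsLocalizedModule T φ]

include T φ in
/-- A localisation of `M` makes `M ⊗ f` injective iff kernel elements are killed by the monoid. -/
theorem injective_lTensor_localized_iff {N P : Type u} [AddCommGroup N] [Module R N]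
    [AddCommGroup P] [Module R P] (f : N →ₗ[R] P) :
    Function.Injective (f.lTensor M') ↔
      ∀ x : M ⊗[R] N, f.lTensor M x = 0 → ∃ t ∈ T, t • x = 0 := by
  let g := AlgebraTensorModule.lTensor S M f
  let gN := AlgebraTensorModule.rTensor R N φ
  let gP := AlgebraTensorModule.rTensor R P φ
  have hmap := IsLocalizedModule.map_lTensor (R := R) (A := S) T f φ
  constructor
  · intro h x hx
    have : gN x = 0 := by
      refine h ?_
      rw [map_zero]
      show f.lTensor M' (AlgebraTensorModule.rTensor R N φ x) = 0
      have := LinearMap.congr_fun (IsLocalizedModule.map_comp T gN gP g) x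
      rw [hmap] at this
      exact this.trans ((congr_arg gP hx).trans (map_zero _))
    obtain ⟨t, ht⟩ := (IsLocalizedModule.eq_zero_iff T gN).mp this
    exact ⟨t, t.2, ht⟩
  · intro h
    show Function.Injective (AlgebraTensorModule.lTensor S M' f)
    rw [← hmap, ← LinearMap.ker_eq_bot, eq_bot_iff]
    intro z hz
    obtain ⟨⟨x, t⟩, rfl⟩ := IsLocalizedModule.mk'_surjective T gN z
    rw [LinearMap.mem_ker, Function.uncurry_apply_pair, IsLocalizedModule.map_mk',
      IsLocalizedModule.mk'_eq_zero, IsLocalizedModule.eq_zero_iff T gP] at hz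
    obtain ⟨s, hs⟩ := hz
    obtain ⟨s', hs', hss⟩ := h ((s : S) • x) (by
      show g ((s : S) • x) = 0
      rw [map_smul]; exact hs)
    rw [Submodule.mem_bot, Function.uncurry_apply_pair, IsLocalizedModule.mk'_eq_zero,
      IsLocalizedModule.eq_zero_iff T gN]
    exact ⟨⟨s', hs'⟩ * s, by rw [Submonoid.smul_def, Submonoid.coe_mul, mul_smul]; exact hss⟩

include T φ in
theorem flat_localized_iff :
    Module.Flat R M' ↔ ∀ (P : Type u) [AddCommGroup P] [Module R P] (N : Submodule R P)
      (x : M ⊗[R] N), N.subtype.lTensor M x = 0 → ∃ t ∈ T, t • x = 0 := by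
  constructor
  · intro h P _ _ N x hx
    exact (injective_lTensor_localized_iff T φ N.subtype).mp
      (Module.Flat.lTensor_preserves_injective_linearMap _ Subtype.val_injective) x hx
  · intro h
    refine Module.Flat.iff_lTensor_injectiveₛ.mpr fun P _ _ N ↦ ?_
    letI : AddCommGroup P := Module.addCommMonoidToAddCommGroup R
    exact (injective_lTensor_localized_iff T φ N.subtype).mpr fun x hx ↦ h P N x hx

include T φ in
theorem flat_localized [Module.Flat R M] : Module.Flat R M' :=
  (flat_localized_iff T φ).mpr fun P _ _ N x hx ↦ ⟨1, T.one_mem, by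
    rw [one_smul]
    exact Module.Flat.lTensor_preserves_injective_linearMap (M := M) N.subtype
      Subtype.val_injective (hx.trans (map_zero _).symm)⟩

include T φ in
/-- Flatness passes to further localisations. -/
theorem flat_of_le {M'' : Type u} [AddCommGroup M''] [Module S M''] [Module R M'']
    [IsScalarTower R S M''] (T' : Submonoid S) (ψ : M →ₗ[S] M'') [IsLocalizedModule T' ψ]
    (hle : T ≤ T') (h : Module.Flat R M') : Module.Flat R M'' :=
  (flat_localized_iff T' ψ).mpr fun P _ _ N x hx ↦ by
    obtain ⟨t, ht, htx⟩ := (flat_localized_iff T φ).mp h P N x hx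
    exact ⟨t, hle ht, htx⟩

include T φ in
/-- If `M` is flat over `R` after base change to a flat algebra in which `f` is inverted, then a
localisation of `M` inverting `f` is flat. -/
theorem flat_localized_of_away (f : R) (hf : algebraMap R S f ∈ T)
    (h : Module.Flat R (Localization.Away f ⊗[R] M)) : Module.Flat R M' := by
  refine (flat_localized_iff T φ).mpr fun P _ _ N x hx ↦ ?_
  let L := Localization.Away f
  let e₁ := TensorProduct.assoc R L M N
  let e₂ := TensorProduct.assoc R L M P
  have hcomm : ∀ z, e₂ (N.subtype.lTensor (L ⊗[R] M) z) = (N.subtype.lTensor M).lTensor L (e₁ z) := by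
    intro z
    induction z using TensorProduct.induction_on with
    | zero => simp
    | add a b ha hb => simp only [map_add, ha, hb]
    | tmul a n =>
      induction a using TensorProduct.induction_on with
      | zero => simp
      | add a b ha hb => simp only [add_tmul, map_add, ha, hb]
      | tmul l m => simp [e₁, e₂]
  have h0 : (1 : L) ⊗ₜ[R] x = 0 := by
    apply e₁.symm.injective
    rw [map_zero]
    refine Module.Flat.lTensor_preserves_injective_linearMap (M := L ⊗[R] M) N.subtype
      Subtype.val_injective ?_
    rw [map_zero]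
    apply e₂.injective
    rw [hcomm, LinearEquiv.apply_symm_apply, LinearMap.lTensor_tmul, hx, tmul_zero, map_zero]
  obtain ⟨t, ht⟩ := (IsLocalizedModule.eq_zero_iff (Submonoid.powers f)
    (TensorProduct.mk R L (M ⊗[R] N) 1)).mp h0
  obtain ⟨n, hn⟩ := t.2
  refine ⟨algebraMap R S (f ^ n), by rw [map_pow]; exact pow_mem hf n, ?_⟩
  rw [algebraMap_smul, show f ^ n = (t : R) from hn]
  exact ht

end FlatLib
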