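import Groth.Agent.FlatLib.Descent
import Groth.Agent.FlatLib.OpenFP
import Mathlib

/-! A flat finitely presented module over a finitely presented algebra comes from a flat one at a
finitely generated stage (EGA IV 11.2.6). -/

set_option autoImplicit false
universe u

open TensorProduct LinearMap

attribute [local instance] MvPolynomial.algebraMvPolynomial

namespace FlatLib

variable {σ A M₀ R : Type u} [CommRing A] [AddCommGroup M₀] [Module A M₀]
  [Module (MvPolynomial σ A) M₀] [IsScalarTower A (MvPolynomial σ A) M₀] [CommRing R] [Algebra A R]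

variable (σ M₀) in
/-- The transition map between stages is a base change. -/
theorem exists_isBaseChange_stage {R₁ R₂ : Type u} [CommRing R₁] [Algebra A R₁] [CommRing R₂] [Algebra A R₂]
    [Algebra R₁ R₂] [IsScalarTower A R₁ R₂] :
    ∃ ι : BC σ A M₀ R₁ →ₗ[R₁] BC σ A M₀ R₂, IsBaseChange R₂ ι ∧
      ∀ (t : MvPolynomial σ R₁) (x : BC σ A M₀ R₁),
        ι (t • x) = (polyMap σ (IsScalarTower.toAlgHom A R₁ R₂)).toRingHom t • ι x := by
  let φ := IsScalarTower.toAlgHom A R₁ R₂
  let ι : BC σ A M₀ R₁ →ₗ[R₁] BC σ A M₀ R₂ :=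
    { toFun := bcMap σ M₀ φ
      map_add' := map_add _
      map_smul' := fun r x ↦ by
        rw [LinearMap.map_smulₛₗ, RingHom.id_apply, ← algebraMap_smul R₂ r]
        rfl }
  have hcomp : ι.restrictScalars A ∘ₗ inc σ A M₀ R₁ = inc σ A M₀ R₂ :=
    LinearMap.ext fun m ↦ bcMap_inc σ M₀ φ m
  exact ⟨ι, IsBaseChange.of_comp (isBaseChange_inc σ A M₀ R₁) (hcomp ▸ isBaseChange_inc σ A M₀ R₂),
    bcMap_smul σ M₀ φ⟩

/-- the flat locus of a stage pulls back into the flat locus of a bigger stage -/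
theorem flatLocus_stage_le {R₁ R₂ : Type u} [CommRing R₁] [Algebra A R₁] [CommRing R₂] [Algebra A R₂]
    (φ : R₁ →ₐ[A] R₂) (q : PrimeSpectrum (MvPolynomial σ R₂))
    (h : PrimeSpectrum.comap (polyMap σ φ).toRingHom q ∈ flatLocus R₁ (MvPolynomial σ R₁) (BC σ A M₀ R₁)) :
    q ∈ flatLocus R₂ (MvPolynomial σ R₂) (BC σ A M₀ R₂) := by
  letI : Algebra R₁ R₂ := φ.toRingHom.toAlgebra
  haveI : IsScalarTower A R₁ R₂ := IsScalarTower.of_algebraMap_eq fun a ↦ (φ.commutes a).symm
  obtain ⟨ι, hι, hsmul⟩ := exists_isBaseChange_stage σ M₀ (A := A) (R₁ := R₁) (R₂ := R₂)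
  exact flat_localized_baseChange (PrimeSpectrum.comap (polyMap σ φ).toRingHom q).asIdeal.primeCompl
    (LocalizedModule.mkLinearMap _ _) q.asIdeal.primeCompl (LocalizedModule.mkLinearMap _ _)
    (polyMap σ φ).toRingHom (fun t ht ↦ ht) ι hι hsmul h

/-- the stage given by a finite set -/
noncomputable abbrev stg (A : Type u) [CommRing A] {R : Type u} [CommRing R] [Algebra A R] (F : Finset R) :
    Subalgebra A R :=
  Algebra.adjoin A (F : Set R)

theorem stg_mono {F G : Finset R} (h : F ⊆ G) : stg A F ≤ stg A G :=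
  Algebra.adjoin_mono (Finset.coe_subset.mpr h)

theorem exists_mem_map_stage {F₀ : Finset R} (I : Ideal (MvPolynomial σ (stg A F₀))) {x : MvPolynomial σ R}
    (hx : x ∈ I.map (polyMap σ (stg A F₀).val).toRingHom) :
    ∃ F : Finset R, ∀ (G : Finset R) (h : F₀ ⊆ G), F ⊆ G →
      ∃ y ∈ I.map (polyMap σ (Subalgebra.inclusion (stg_mono (A := A) h))).toRingHom,
        MvPolynomial.map (stg A G).val.toRingHom y = x := by
  classical
  induction hx using Submodule.span_induction with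
  | mem x hx =>
    obtain ⟨a, ha, rfl⟩ := hx
    refine ⟨∅, fun G h _ ↦ ⟨_, Ideal.mem_map_of_mem _ ha, ?_⟩⟩
    show MvPolynomial.map _ (MvPolynomial.map _ a) = MvPolynomial.map _ a
    rw [MvPolynomial.map_map]
    rfl
  | zero => exact ⟨∅, fun G h _ ↦ ⟨0, zero_mem _, map_zero _⟩⟩
  | add a b _ _ ha hb =>
    obtain ⟨Fa, ha⟩ := ha
    obtain ⟨Fb, hb⟩ := hb
    refine ⟨Fa ∪ Fb, fun G h hG ↦ ?_⟩
    obtain ⟨ya, hya, ea⟩ := ha G h (Finset.union_subset_left hG)
    obtain ⟨yb, hyb, eb⟩ := hb G h (Finset.union_subset_right hG)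
    exact ⟨ya + yb, add_mem hya hyb, by rw [map_add, ea, eb]⟩
  | smul r a _ ha =>
    obtain ⟨Fa, ha⟩ := ha
    refine ⟨r.support.image r.coeff ∪ Fa, fun G h hG ↦ ?_⟩
    obtain ⟨ya, hya, ea⟩ := ha G h (Finset.union_subset_right hG)
    obtain ⟨r', hr'⟩ : ∃ r' : MvPolynomial σ (stg A G), MvPolynomial.map (stg A G).val.toRingHom r' = r := by
      refine MvPolynomial.mem_range_map_iff_coeffs_subset.mpr fun c hc ↦ ?_
      rw [Finset.mem_coe, MvPolynomial.mem_coeffs_iff] at hc
      obtain ⟨n, hn, rfl⟩ := hc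
      exact ⟨⟨_, Algebra.subset_adjoin (Finset.mem_coe.mpr
        (Finset.union_subset_left hG (Finset.mem_image_of_mem _ hn)))⟩, rfl⟩
    exact ⟨r' * ya, Ideal.mul_mem_left _ _ hya, by rw [map_mul, hr', ea, smul_eq_mul]⟩

variable [Finite σ] [IsNoetherianRing A] [Module.Finite (MvPolynomial σ A) M₀]

omit [Finite σ] [IsNoetherianRing A] [Module.Finite (MvPolynomial σ A) M₀] in
theorem comap_stage {F G : Finset R} (h : F ⊆ G) (q : PrimeSpectrum (MvPolynomial σ R)) :
    PrimeSpectrum.comap (polyMap σ (Subalgebra.inclusion (stg_mono (A := A) h))).toRingHom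
        (PrimeSpectrum.comap (polyMap σ (stg A G).val).toRingHom q) =
      PrimeSpectrum.comap (polyMap σ (stg A F).val).toRingHom q := by
  refine PrimeSpectrum.ext (Ideal.ext fun x ↦ ?_)
  show MvPolynomial.map _ (MvPolynomial.map _ x) ∈ q.asIdeal ↔ MvPolynomial.map _ x ∈ q.asIdeal
  rw [MvPolynomial.map_map]
  rfl

variable (σ A M₀) in
/-- flat locus of a stage -/
def stgLocus (F : Finset R) : Set (PrimeSpectrum (MvPolynomial σ (stg A F))) :=
  flatLocus (stg A F) (MvPolynomial σ (stg A F)) (BC σ A M₀ (stg A F))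

set_option synthInstance.maxHeartbeats 100000 in
theorem isOpen_stgLocus (F : Finset R) : IsOpen (stgLocus σ A M₀ F) := by
  haveI : IsNoetherianRing (stg A F) := isNoetherianRing_of_fg ⟨F, rfl⟩
  exact isOpen_flatLocus

/-- a stage over which every point of the base change lies in the flat locus -/
theorem exists_cover_stage [Module.Flat R (BC σ A M₀ R)] :
    ∃ F₀ : Finset R, ∀ q : PrimeSpectrum (MvPolynomial σ R),
      PrimeSpectrum.comap (polyMap σ (stg A F₀).val).toRingHom q ∈ stgLocus σ A M₀ F₀ := by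
  classical
  have hall : ∀ q : PrimeSpectrum (MvPolynomial σ R), q ∈ flatLocus R (MvPolynomial σ R) (BC σ A M₀ R) :=
    fun q ↦ (flat_localized_iff q.asIdeal.primeCompl (LocalizedModule.mkLinearMap _ _)).mpr
      fun P _ _ N x hx ↦ ⟨1, one_mem _, by
        rw [one_smul]
        exact Module.Flat.lTensor_preserves_injective_linearMap _ Subtype.val_injective
          (hx.trans (map_zero _).symm)⟩
  choose F hF using fun q ↦ exists_stage_mem_flatLocus σ M₀ q (hall q)
  obtain ⟨T, hT⟩ := isCompact_univ.elim_finite_subcover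
    (fun q ↦ PrimeSpectrum.comap (polyMap σ (stg A (F q)).val).toRingHom ⁻¹' stgLocus σ A M₀ (F q))
    (fun q ↦ (isOpen_stgLocus (F q)).preimage (PrimeSpectrum.continuous_comap _))
    fun q _ ↦ Set.mem_iUnion.mpr ⟨q, hF q⟩
  refine ⟨T.biUnion F, fun q ↦ ?_⟩
  obtain ⟨q₁, hq₁, hq⟩ := Set.mem_iUnion₂.mp (hT (Set.mem_univ q))
  refine flatLocus_stage_le (Subalgebra.inclusion (stg_mono (A := A) (Finset.subset_biUnion_of_mem F hq₁))) _ ?_
  rw [comap_stage (Finset.subset_biUnion_of_mem F hq₁)]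
  exact hq

set_option synthInstance.maxHeartbeats 100000 in
set_option maxHeartbeats 1000000 in
/-- EGA IV 11.2.6 for polynomial algebras: flatness is attained at a finite stage. -/
theorem exists_flat_stage [Module.Flat R (BC σ A M₀ R)] :
    ∃ F : Finset R, Module.Flat (stg A F) (BC σ A M₀ (stg A F)) := by
  classical
  obtain ⟨F₀, hF₀⟩ := exists_cover_stage (σ := σ) (A := A) (M₀ := M₀) (R := R)
  obtain ⟨I, hI⟩ := (PrimeSpectrum.isClosed_iff_zeroLocus_ideal _).mp
    (isOpen_stgLocus (σ := σ) (A := A) (M₀ := M₀) F₀).isClosed_compl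
  have htop : (1 : MvPolynomial σ R) ∈ I.map (polyMap σ (stg A F₀).val).toRingHom := by
    rw [← Ideal.eq_top_iff_one]
    by_contra hne
    obtain ⟨m, hm, hle⟩ := Ideal.exists_le_maximal _ hne
    have h2 : PrimeSpectrum.comap (polyMap σ (stg A F₀).val).toRingHom ⟨m, hm.isPrime⟩ ∈
        PrimeSpectrum.zeroLocus (I : Set _) := fun x hx ↦ hle (Ideal.mem_map_of_mem _ hx)
    rw [← hI] at h2
    exact h2 (hF₀ ⟨m, hm.isPrime⟩)
  obtain ⟨F₁, hF₁⟩ := exists_mem_map_stage I htop
  obtain ⟨y, hy, hy1⟩ := hF₁ (F₀ ∪ F₁) Finset.subset_union_left Finset.subset_union_right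
  have hy' : y = 1 := MvPolynomial.map_injective _ Subtype.val_injective (hy1.trans (map_one _).symm)
  subst hy'
  refine ⟨F₀ ∪ F₁, Module.flat_of_isLocalized_maximal (MvPolynomial σ (stg A (F₀ ∪ F₁))) _
    (fun P _ ↦ LocalizedModule P.primeCompl _) (fun P _ ↦ LocalizedModule.mkLinearMap _ _) fun P hP ↦ ?_⟩
  let φ := Subalgebra.inclusion (stg_mono (A := A) (Finset.subset_union_left : F₀ ⊆ F₀ ∪ F₁))
  refine flatLocus_stage_le φ (⟨P, hP.isPrime⟩ : PrimeSpectrum _) ?_
  by_contra hn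
  have hn' : PrimeSpectrum.comap (polyMap σ φ).toRingHom ⟨P, hP.isPrime⟩ ∈ PrimeSpectrum.zeroLocus (I : Set _) :=
    hI ▸ hn
  exact hP.ne_top ((Ideal.eq_top_iff_one _).mpr (Ideal.map_le_iff_le_comap.mpr hn' hy))


variable {σ : Type u}

set_option synthInstance.maxHeartbeats 200000 in
set_option maxHeartbeats 2000000 in
/-- a module over a finitely presented algebra as a base change from a stage -/
theorem exists_quotient_model {A R₁ R S M₀ M : Type u} [CommRing A] [CommRing R₁] [CommRing R] [CommRing S]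
    [Algebra A R₁] [Algebra A R] [Algebra R₁ R] [IsScalarTower A R₁ R] [AddCommGroup M₀] [Module A M₀]
    [Module (MvPolynomial σ A) M₀] [IsScalarTower A (MvPolynomial σ A) M₀] [Finite σ]
    [Module.Finite (MvPolynomial σ A) M₀] [Algebra R S] [Algebra R₁ S] [IsScalarTower R₁ R S]
    [AddCommGroup M] [Module S M] [Module R M] [IsScalarTower R S M]
    (π : MvPolynomial σ R →ₐ[R] S) (hπ : Function.Surjective π)
    (G : Finset (MvPolynomial σ R)) (hG : Ideal.span (G : Set (MvPolynomial σ R)) = RingHom.ker π.toRingHom)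
    (e : BC σ A M₀ R ≃+ M) (he : ∀ (t : MvPolynomial σ R) x, e (t • x) = π t • e x)
    (g₀ : ∀ g, g ∈ G → MvPolynomial σ A)
    (hg₀map : ∀ g hg, MvPolynomial.map (algebraMap A R) (g₀ g hg) = g)
    (hg₀kill : ∀ g hg, ∀ m : M₀, g₀ g hg • m = 0) :
    ∃ (S₁ : Type u) (_ : CommRing S₁) (_ : Algebra R₁ S₁) (_ : Algebra S₁ S) (_ : IsScalarTower R₁ S₁ S)
      (_ : Module S₁ (BC σ A M₀ R₁)) (_ : IsScalarTower R₁ S₁ (BC σ A M₀ R₁))
      (_ : Module S₁ M) (_ : IsScalarTower S₁ S M) (f : BC σ A M₀ R₁ →ₗ[S₁] M),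
      Algebra.FiniteType R₁ S₁ ∧ Module.Finite S₁ (BC σ A M₀ R₁) ∧ Algebra.IsPushout R₁ R S₁ S ∧
        IsBaseChange S f := by
  classical
  let P := MvPolynomial σ R
  have hGker : ∀ g ∈ G, π g = 0 := fun g hg ↦ RingHom.mem_ker.mp (hG ▸ Ideal.subset_span hg :)
  let P₁ := MvPolynomial σ R₁
  let M₁ := FlatLib.BC σ A M₀ R₁
  let G₁ : Finset P₁ := G.attach.image fun g ↦ MvPolynomial.map (algebraMap A R₁) (g₀ g.1 g.2)
  let I₁ : Ideal P₁ := Ideal.span (G₁ : Set P₁)
  have hkill : Module.IsTorsionBySet P₁ M₁ (I₁ : Set P₁) := by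
    refine (Module.isTorsionBySet_iff_is_torsion_by_span _).mp fun x a ↦ ?_
    obtain ⟨_, ha⟩ := a
    obtain ⟨g, -, rfl⟩ := Finset.mem_image.mp (Finset.mem_coe.mp ha)
    show MvPolynomial.map (algebraMap A R₁) (g₀ g.1 g.2) • x = 0
    induction x using TensorProduct.induction_on with
    | zero => exact smul_zero _
    | add a b ha hb => rw [smul_add, ha, hb, add_zero]
    | tmul t m =>
      rw [TensorProduct.smul_tmul',
        show MvPolynomial.map (algebraMap A R₁) (g₀ g.1 g.2) • t = g₀ g.1 g.2 • t from (Algebra.smul_def _ _).symm,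
        TensorProduct.smul_tmul, hg₀kill g.1 g.2 m, TensorProduct.tmul_zero]
  let S₁ := P₁ ⧸ I₁
  letI : Module S₁ M₁ := hkill.module
  haveI : IsScalarTower R₁ S₁ M₁ := hkill.isScalarTower
  haveI : IsScalarTower P₁ S₁ M₁ := hkill.isScalarTower
  haveI : Module.Finite P₁ M₁ := inferInstance
  haveI : Module.Finite S₁ M₁ := Module.Finite.of_restrictScalars_finite P₁ S₁ M₁
  let ρ : P₁ →+* S := π.toRingHom.comp (MvPolynomial.map (algebraMap R₁ R))
  have hρ : I₁ ≤ RingHom.ker ρ := by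
    rw [Ideal.span_le]
    intro a ha
    obtain ⟨g, -, rfl⟩ := Finset.mem_image.mp (Finset.mem_coe.mp ha)
    show π (MvPolynomial.map _ (MvPolynomial.map (algebraMap A R₁) (g₀ g.1 g.2))) = 0
    rw [MvPolynomial.map_map, ← IsScalarTower.algebraMap_eq]
    refine Eq.trans ?_ (hGker g.1 g.2)
    exact congrArg π (hg₀map g.1 g.2)
  let θ : S₁ →+* S := Ideal.Quotient.lift I₁ ρ fun a ha ↦ hρ ha
  letI : Algebra S₁ S := θ.toAlgebra
  have hθC : ∀ r : R₁, θ (algebraMap R₁ S₁ r) = algebraMap R S (algebraMap R₁ R r) := fun r ↦ by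
    show θ (Ideal.Quotient.mk I₁ (MvPolynomial.C r)) = _
    rw [Ideal.Quotient.lift_mk]
    show π (MvPolynomial.map _ (MvPolynomial.C r)) = _
    rw [MvPolynomial.map_C]
    exact π.commutes (algebraMap R₁ R r)
  haveI : IsScalarTower R₁ S₁ S := ⟨fun r s x ↦ by
    obtain ⟨t, rfl⟩ := Ideal.Quotient.mk_surjective s
    show θ (Ideal.Quotient.mk I₁ (r • t)) * x = r • (θ (Ideal.Quotient.mk I₁ t) * x)
    rw [Algebra.smul_def r t, map_mul, map_mul, MvPolynomial.algebraMap_eq,
      show θ (Ideal.Quotient.mk I₁ (MvPolynomial.C r)) = algebraMap R S (algebraMap R₁ R r) from hθC r,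
      ← IsScalarTower.algebraMap_apply, mul_assoc, ← Algebra.smul_def]⟩
  haveI hpush : Algebra.IsPushout R₁ R S₁ S := by
    let Φ : TensorProduct R₁ R S₁ →ₐ[R] S :=
      Algebra.TensorProduct.lift (Algebra.ofId R S) (IsScalarTower.toAlgHom R₁ S₁ S) fun a b ↦ Commute.all _ _
    let Ψ₀ : P →ₐ[R] TensorProduct R₁ R S₁ :=
      MvPolynomial.aeval fun i ↦ (1 : R) ⊗ₜ[R₁] (Ideal.Quotient.mk I₁ (MvPolynomial.X i))
    have hΨ : ∀ t : P₁, Ψ₀ (MvPolynomial.map (algebraMap R₁ R) t) = (1 : R) ⊗ₜ[R₁] Ideal.Quotient.mk I₁ t := by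
      intro t
      induction t using MvPolynomial.induction_on with
      | C a =>
        rw [MvPolynomial.map_C, MvPolynomial.aeval_C, Algebra.TensorProduct.algebraMap_apply]
        have hC : Ideal.Quotient.mk I₁ (MvPolynomial.C a) = a • (1 : S₁) := by
          show _ = Ideal.Quotient.mk I₁ (a • (1 : P₁))
          rw [MvPolynomial.smul_eq_C_mul, mul_one]
        rw [hC, TensorProduct.tmul_smul, TensorProduct.smul_tmul']
        show (algebraMap R₁ R a) ⊗ₜ[R₁] (1 : S₁) = (a • (1 : R)) ⊗ₜ[R₁] (1 : S₁)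
        rw [Algebra.smul_def, mul_one]
      | add a b ha hb => rw [map_add, map_add, ha, hb, ← TensorProduct.tmul_add, ← map_add]
      | mul_X a i ha =>
        rw [map_mul, map_mul, ha, MvPolynomial.map_X, MvPolynomial.aeval_X,
          Algebra.TensorProduct.tmul_mul_tmul, one_mul, ← map_mul]
    have hle : RingHom.ker π ≤ RingHom.ker Ψ₀ := by
      rw [show RingHom.ker π = RingHom.ker π.toRingHom from rfl, ← hG, Ideal.span_le]
      intro g hg
      rw [SetLike.mem_coe, RingHom.mem_ker]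
      have : MvPolynomial.map (algebraMap R₁ R) (MvPolynomial.map (algebraMap A R₁) (g₀ g hg)) = g := by
        rw [MvPolynomial.map_map, ← IsScalarTower.algebraMap_eq]; exact hg₀map g hg
      rw [← this, hΨ, Ideal.Quotient.eq_zero_iff_mem.mpr (Ideal.subset_span (Finset.mem_image.mpr
        ⟨⟨g, hg⟩, Finset.mem_attach _ _, rfl⟩)), TensorProduct.tmul_zero]
    let Ψ : S →ₐ[R] TensorProduct R₁ R S₁ :=
      (Ideal.Quotient.liftₐ (RingHom.ker π) Ψ₀ fun a ha ↦ hle ha).comp
        (Ideal.quotientKerAlgEquivOfSurjective hπ).symm.toAlgHom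
    have hΨπ : ∀ t : P, Ψ (π t) = Ψ₀ t := fun t ↦ by
      simp [Ψ, Ideal.quotientKerAlgEquivOfSurjective_symm_apply]
    have h1 : Φ.comp Ψ = AlgHom.id R S := by
      refine (AlgHom.cancel_right hπ).mp (MvPolynomial.algHom_ext fun i ↦ ?_)
      show Φ (Ψ (π (MvPolynomial.X i))) = π (MvPolynomial.X i)
      rw [hΨπ, MvPolynomial.aeval_X, Algebra.TensorProduct.lift_tmul, map_one, one_mul]
      show π (MvPolynomial.map (algebraMap R₁ R) (MvPolynomial.X i)) = _
      rw [MvPolynomial.map_X]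
    have h2 : Ψ.comp Φ = AlgHom.id R _ := by
      refine Algebra.TensorProduct.ext (Subsingleton.elim _ _) (AlgHom.ext fun s ↦ ?_)
      obtain ⟨t, rfl⟩ := Ideal.Quotient.mk_surjective s
      show Ψ (Φ ((1 : R) ⊗ₜ[R₁] Ideal.Quotient.mk I₁ t)) = (1 : R) ⊗ₜ[R₁] Ideal.Quotient.mk I₁ t
      rw [Algebra.TensorProduct.lift_tmul, map_one, one_mul, ← hΨ]
      exact hΨπ _
    exact ⟨IsBaseChange.of_equiv (AlgEquiv.ofAlgHom Φ Ψ h1 h2).toLinearEquiv fun s ↦ by
      show Φ ((1 : R) ⊗ₜ[R₁] s) = _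
      rw [Algebra.TensorProduct.lift_tmul, map_one, one_mul]
      rfl⟩
  letI : Module S₁ M := Module.compHom M θ
  haveI : IsScalarTower S₁ S M := IsScalarTower.of_algebraMap_smul fun _ _ ↦ rfl
  obtain ⟨ι, hι, hι'⟩ := FlatLib.exists_isBaseChange_stage σ M₀ (A := A) (R₁ := R₁) (R₂ := R)
  let f : M₁ →ₗ[S₁] M :=
    { toFun := fun m ↦ e (ι m)
      map_add' := fun a b ↦ by rw [map_add, map_add]
      map_smul' := fun s m ↦ by
        obtain ⟨t, rfl⟩ := Ideal.Quotient.mk_surjective s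
        rw [Module.IsTorsionBySet.mk_smul hkill, hι', he, RingHom.id_apply]
        rfl }
  have hf : IsBaseChange S f := by
    let E : TensorProduct S₁ S M₁ →ₗ[S] M := LinearMap.liftBaseChange S f
    have key : ∀ z, E ((Algebra.IsPushout.cancelBaseChange R₁ R S₁ S M₁).symm z) =
        e (hι.equiv z) := by
      intro z
      induction z using TensorProduct.induction_on with
      | zero => simp
      | add a b ha hb => rw [map_add, map_add, ha, hb, map_add, map_add]
      | tmul r m =>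
        rw [Algebra.IsPushout.cancelBaseChange_symm_tmul, IsBaseChange.equiv_tmul, LinearMap.liftBaseChange_tmul,
          algebraMap_smul]
        rw [← algebraMap_smul (MvPolynomial σ R) r (ι m), he]
        show _ = π (algebraMap R _ r) • e (ι m)
        rw [π.commutes, algebraMap_smul]
        rfl
    refine IsBaseChange.of_equiv (LinearEquiv.ofBijective E ?_) fun m ↦ (LinearMap.liftBaseChange_tmul _ _ _ _).trans (one_smul _ _)
    have hc : (E : _ → M) = (fun z ↦ e (hι.equiv z)) ∘ Algebra.IsPushout.cancelBaseChange R₁ R S₁ S M₁ :=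
      funext fun z ↦ by
        rw [Function.comp_apply, ← key, LinearEquiv.symm_apply_apply]
    rw [hc]
    exact (e.bijective.comp hι.equiv.bijective).comp (LinearEquiv.bijective _)
  exact ⟨S₁, inferInstance, inferInstance, inferInstance, inferInstance, inferInstance, inferInstance,
    inferInstance, inferInstance, f,
    Algebra.FiniteType.of_surjective (Ideal.Quotient.mkₐ R₁ I₁) Ideal.Quotient.mk_surjective,
    inferInstance, hpush, hf⟩

end FlatLib
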