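import Groth.Agent.FlatLib.FibScheme
import Mathlib

/-! The fibrewise criterion in affine charts. -/

set_option autoImplicit false
universe u

open AlgebraicGeometry CategoryTheory Limits TensorProduct

namespace FlatLib

theorem exists_affine_charts {X Y S : Scheme.{u}} (f : X ⟶ Y) (g : Y ⟶ S) (x : X) :
    ∃ (W : S.Opens) (V : Y.Opens) (U : X.Opens), IsAffineOpen W ∧ IsAffineOpen V ∧ IsAffineOpen U ∧
      V ≤ g ⁻¹ᵁ W ∧ U ≤ f ⁻¹ᵁ V ∧ x ∈ U := by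
  obtain ⟨_, ⟨W, hW, rfl⟩, hxW, -⟩ :=
    S.isBasis_affineOpens.exists_subset_of_mem_open (Set.mem_univ (g (f x))) isOpen_univ
  obtain ⟨_, ⟨V, hV, rfl⟩, hxV, hVW⟩ :=
    Y.isBasis_affineOpens.exists_subset_of_mem_open hxW (W.2.preimage g.continuous)
  obtain ⟨_, ⟨U, hU, rfl⟩, hxU, hUV⟩ :=
    X.isBasis_affineOpens.exists_subset_of_mem_open hxV (V.2.preimage f.continuous)
  exact ⟨W, V, U, hW, hV, hU, hVW, hUV, hxU⟩

theorem exists_residue_chart {S : Scheme.{u}} {W : S.Opens} (hW : IsAffineOpen W) (s : S) (hs : s ∈ W) :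
    ∃ ψ : Γ(S, W) ⟶ S.residueField s, S.fromSpecResidueField s = Spec.map ψ ≫ hW.fromSpec :=
  ⟨S.presheaf.germ W s hs ≫ S.residue s, by
    rw [Spec.map_comp, Category.assoc, Scheme.fromSpecResidueField,
      ← hW.fromSpecStalk_eq_fromSpecStalk hs]
    rfl⟩

set_option maxSynthPendingDepth 6 in
theorem flat_fiberMap_asFiber_iff {X Y S : Scheme.{u}} (f : X ⟶ Y) (g : Y ⟶ S) {W : S.Opens}
    {V : Y.Opens} {U : X.Opens} (hW : IsAffineOpen W) (hV : IsAffineOpen V) (hU : IsAffineOpen U)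
    (hVW : V ≤ g ⁻¹ᵁ W) (hUV : U ≤ f ⁻¹ᵁ V) [Algebra Γ(S, W) Γ(Y, V)] [Algebra Γ(Y, V) Γ(X, U)]
    [Algebra Γ(S, W) Γ(X, U)] [IsScalarTower Γ(S, W) Γ(Y, V) Γ(X, U)]
    (hBC : algebraMap Γ(Y, V) Γ(X, U) = (f.appLE V U hUV).hom)
    (hAB : algebraMap Γ(S, W) Γ(Y, V) = (g.appLE W V hVW).hom) (x : X) (hx : x ∈ U) :
    ((MoreMor.fiberMap f g (g (f x))).stalkMap ((f ≫ g).asFiber x)).hom.Flat ↔
      FibFlat Γ(Y, V) Γ(X, U) Γ(X, U)
        (((hU.primeIdealOf ⟨x, hx⟩).asIdeal.comap (algebraMap Γ(S, W) Γ(X, U))).map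
          (algebraMap Γ(S, W) Γ(Y, V)))
        (hU.primeIdealOf ⟨x, hx⟩).asIdeal := by
  let s := g (f x)
  have hsW : s ∈ W := hVW (hUV hx)
  obtain ⟨ψ, hψ⟩ := exists_residue_chart hW s hsW
  letI : Algebra Γ(S, W) (S.residueField s) := ψ.hom.toAlgebra
  refine flat_fiberMap_stalkMap_iff (A := Γ(S, W)) (B := Γ(Y, V)) (C := Γ(X, U))
    (K := S.residueField s) f g hU.fromSpec hV.fromSpec hW.fromSpec ?_ ?_ s (Iso.refl _) ?_
    (hU.primeIdealOf ⟨x, hx⟩) _ ?_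
  · rw [hBC]
    exact (IsAffineOpen.SpecMap_appLE_fromSpec f hV hU hUV).symm
  · rw [hAB]
    exact (IsAffineOpen.SpecMap_appLE_fromSpec g hW hV hVW).symm
  · rw [Iso.refl_hom, Category.id_comp]
    exact hψ
  · exact (Scheme.Hom.fiberι_asFiber (f ≫ g) x).trans (hU.fromSpec_primeIdealOf ⟨x, hx⟩).symm

theorem nontrivial_localized_self {C : Type u} [CommRing C] (q : PrimeSpectrum C) :
    Nontrivial (LocalizedModule q.asIdeal.primeCompl C) := by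
  by_contra h
  rw [not_nontrivial_iff_subsingleton, LocalizedModule.subsingleton_iff] at h
  obtain ⟨t, ht, ht1⟩ := h 1
  rw [smul_eq_mul, mul_one] at ht1
  exact ht (ht1 ▸ zero_mem _)

set_option maxSynthPendingDepth 6 in
/-- The fibrewise criterion for the structure sheaf, near a point. -/
theorem fibre_criterion_near {X Y S : Scheme.{u}} (f : X ⟶ Y) (g : Y ⟶ S)
    [LocallyOfFinitePresentation (f ≫ g)] [LocallyOfFiniteType g] (x : X) :
    (((f ≫ g).stalkMap x).hom.Flat ∧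
      ((MoreMor.fiberMap f g (g (f x))).stalkMap ((f ≫ g).asFiber x)).hom.Flat ↔
      (g.stalkMap (f x)).hom.Flat ∧ (f.stalkMap x).hom.Flat) ∧
    ((g.stalkMap (f x)).hom.Flat ∧ (f.stalkMap x).hom.Flat →
      ∃ O : Set X, IsOpen O ∧ x ∈ O ∧
        ∀ x' ∈ O, (g.stalkMap (f x')).hom.Flat ∧ (f.stalkMap x').hom.Flat) := by
  obtain ⟨W, V, U, hW, hV, hU, hVW, hUV, hxU⟩ := exists_affine_charts f g x
  have hUW : U ≤ (f ≫ g) ⁻¹ᵁ W := fun z hz ↦ hVW (hUV hz)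
  have hftB := g.finiteType_appLE hW hV hVW
  have hfpC := (f ≫ g).finitePresentation_appLE hW hU hUW
  have hcomp : g.appLE W V hVW ≫ f.appLE V U hUV = (f ≫ g).appLE W U hUW :=
    Scheme.Hom.appLE_comp_appLE _ _ _ _ _ _ _
  let A := Γ(S, W)
  let B := Γ(Y, V)
  let C := Γ(X, U)
  letI : Algebra Γ(S, W) Γ(Y, V) := (g.appLE W V hVW).hom.toAlgebra
  letI : Algebra Γ(Y, V) Γ(X, U) := (f.appLE V U hUV).hom.toAlgebra
  letI : Algebra Γ(S, W) Γ(X, U) := ((f ≫ g).appLE W U hUW).hom.toAlgebra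
  haveI : IsScalarTower Γ(S, W) Γ(Y, V) Γ(X, U) := IsScalarTower.of_algebraMap_eq fun r ↦ by
    show ((f ≫ g).appLE W U hUW).hom r = _
    rw [← hcomp]
    rfl
  haveI : Algebra.FiniteType Γ(S, W) Γ(Y, V) := hftB
  haveI : Algebra.FinitePresentation Γ(S, W) Γ(X, U) := hfpC
  have hF : ∀ x' (h : x' ∈ U), ((g.stalkMap (f x')).hom.Flat ∧ (f.stalkMap x').hom.Flat ↔
      PrimeSpectrum.comap (algebraMap Γ(Y, V) Γ(X, U)) (hU.primeIdealOf ⟨x', h⟩) ∈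
        flatLocus Γ(S, W) Γ(Y, V) Γ(Y, V) ∧
      hU.primeIdealOf ⟨x', h⟩ ∈ flatLocus Γ(Y, V) Γ(X, U) Γ(X, U)) := fun x' h ↦ by
    rw [flat_stalkMap_iff (f := g) W hW V hV hVW (hUV h),
      flat_stalkMap_iff (f := f) V hV U hU hUV h]
    rw [show hV.primeIdealOf ⟨f x', hUV h⟩ =
      PrimeSpectrum.comap (algebraMap Γ(Y, V) Γ(X, U)) (hU.primeIdealOf ⟨x', h⟩) from
      (IsAffineOpen.comap_primeIdealOf_appLE V hV U hU hUV h).symm]
  let q := hU.primeIdealOf ⟨x, hxU⟩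
  have h1 : ((f ≫ g).stalkMap x).hom.Flat ↔ q ∈ flatLocus Γ(S, W) Γ(X, U) Γ(X, U) :=
    flat_stalkMap_iff (f := f ≫ g) W hW U hU hUW hxU
  have h2 := flat_fiberMap_asFiber_iff f g hW hV hU hVW hUV rfl rfl x hxU
  constructor
  · rw [h1, h2, hF x hxU]
    constructor
    · rintro ⟨ha, hb⟩
      obtain ⟨O, -, hqO, hO⟩ := exists_open_of_fibFlat q ha hb (nontrivial_localized_self q)
      exact ⟨(hO q hqO).2 (nontrivial_localized_self q), (hO q hqO).1⟩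
    · rintro ⟨hy, hq⟩
      exact ⟨mem_flatLocus_trans q hq hy, fibFlat_of_flat q hq⟩
  · intro h
    rw [hF x hxU] at h
    obtain ⟨O, hO, hqO, hOmem⟩ := exists_open_of_fibFlat q (mem_flatLocus_trans q h.2 h.1)
      (fibFlat_of_flat q h.2) (nontrivial_localized_self q)
    refine ⟨Subtype.val '' ((fun z : U ↦ hU.primeIdealOf z) ⁻¹' O),
      U.2.isOpenMap_subtype_val _ (hO.preimage hU.isoSpec.hom.continuous),
      ⟨⟨x, hxU⟩, hqO, rfl⟩, ?_⟩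
    rintro _ ⟨⟨x', hx'⟩, hmem, rfl⟩
    rw [hF x' hx']
    exact ⟨(hOmem _ hmem).2 (nontrivial_localized_self _), (hOmem _ hmem).1⟩

end FlatLib
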