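import Groth.Agent.FlatLib.Slicing
import Mathlib

/-! Quasi-finite faithfully flat covers refining a faithfully flat finitely presented algebra
(EGA IV 17.16.2). -/

set_option autoImplicit false
universe u

open TensorProduct

namespace FlatLib

variable {R B : Type u} [CommRing R] [CommRing B] [Algebra R B]

attribute [local instance] Algebra.TensorProduct.rightAlgebra in
theorem exists_mul_mem_map_of_fiber_eq_zero (p : Ideal R) [p.IsPrime] {c : B}
    (h : (Algebra.TensorProduct.includeRight : B →ₐ[R] p.Fiber B) c = 0) (q : Ideal B) [q.IsPrime]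
    (hqp : q.comap (algebraMap R B) = p) : ∃ t ∉ q, t * c ∈ p.map (algebraMap R B) := by
  let Sp := Localization (Algebra.algebraMapSubmonoid B p.primeCompl)
  let pS := p.map (algebraMap R B)
  have h1 : algebraMap B (Sp ⧸ pS.map (algebraMap B Sp)) c = 0 := by
    rw [← (Ideal.Fiber.algEquivAux₁ p (S := B)).commutes c]
    exact (congrArg _ h).trans (map_zero _)
  rw [IsScalarTower.algebraMap_apply B Sp (Sp ⧸ pS.map (algebraMap B Sp)), Ideal.Quotient.algebraMap_eq,
    Ideal.Quotient.eq_zero_iff_mem,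
    IsLocalization.algebraMap_mem_map_algebraMap_iff (Algebra.algebraMapSubmonoid B p.primeCompl)] at h1
  obtain ⟨m, ⟨r, hr, rfl⟩, hm⟩ := h1
  exact ⟨algebraMap R B r, fun h ↦ hr (hqp ▸ h), hm⟩

theorem mem_map_fiber_imp (p : Ideal R) [p.IsPrime] (J : Ideal B) {b : B}
    (h : (1 : p.ResidueField) ⊗ₜ[R] b ∈
      J.map (Algebra.TensorProduct.includeRight : B →ₐ[R] p.Fiber B).toRingHom) :
    ∀ (q : Ideal B) [q.IsPrime], q.comap (algebraMap R B) = p →
      ∃ t ∉ q, t * b ∈ J ⊔ p.map (algebraMap R B) := by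
  intro q _ hqp
  let φ : B →ₐ[R] p.Fiber B := Algebra.TensorProduct.includeRight
  -- clear denominators in the span
  have hgen : ∀ z ∈ J.map φ.toRingHom, ∃ r ∉ p, ∃ j ∈ J, r • z = φ j := by
    intro z hz
    induction hz using Submodule.span_induction with
    | mem z hz =>
      obtain ⟨j, hj, rfl⟩ := hz
      exact ⟨1, fun h ↦ (inferInstance : p.IsPrime).ne_top ((Ideal.eq_top_iff_one p).mpr h), j, hj,
        one_smul R _⟩
    | zero => exact ⟨1, fun h ↦ (inferInstance : p.IsPrime).ne_top ((Ideal.eq_top_iff_one p).mpr h), 0,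
        zero_mem _, by rw [smul_zero, map_zero]⟩
    | add x y _ _ hx hy =>
      obtain ⟨r, hr, j, hj, ex⟩ := hx
      obtain ⟨r', hr', j', hj', ey⟩ := hy
      refine ⟨r * r', fun h ↦ ((inferInstance : p.IsPrime).mem_or_mem h).elim hr hr',
        algebraMap R B r' * j + algebraMap R B r * j',
        add_mem (Ideal.mul_mem_left _ _ hj) (Ideal.mul_mem_left _ _ hj'), ?_⟩
      rw [← Algebra.smul_def, ← Algebra.smul_def, map_add, map_smul, map_smul, ← ex, ← ey, smul_add,
        smul_smul, smul_smul, mul_comm r r']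
    | smul s x _ hx =>
      obtain ⟨r, hr, j, hj, ex⟩ := hx
      obtain ⟨r', hr', c, ec⟩ := Ideal.Fiber.exists_smul_eq_one_tmul p s
      refine ⟨r' * r, fun h ↦ ((inferInstance : p.IsPrime).mem_or_mem h).elim hr' hr, c * j,
        Ideal.mul_mem_left _ _ hj, ?_⟩
      rw [map_mul, ← ex, mul_smul, smul_eq_mul, ← mul_smul_comm, ← smul_mul_assoc, ec]
      rfl
  obtain ⟨r, hr, j, hj, e⟩ := hgen _ h
  have hz : φ (algebraMap R B r * b - j) = 0 := by
    rw [map_sub, ← Algebra.smul_def, map_smul, show φ b = (1 : p.ResidueField) ⊗ₜ[R] b from rfl, e,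
      sub_self]
  obtain ⟨t, ht, htb⟩ := exists_mul_mem_map_of_fiber_eq_zero p hz q hqp
  refine ⟨t * algebraMap R B r, fun hmem ↦ ?_, ?_⟩
  · rcases (inferInstance : q.IsPrime).mem_or_mem hmem with h1 | h1
    · exact ht h1
    · exact hr (hqp ▸ h1)
  · have : t * algebraMap R B r * b = t * (algebraMap R B r * b - j) + t * j := by ring
    rw [this, sup_comm]
    exact Submodule.add_mem_sup htb (Ideal.mul_mem_left _ _ hj)

/-- One quasi-finite flat point. -/
theorem exists_qf_point [Module.Flat R B] [Algebra.FinitePresentation R B] (p : PrimeSpectrum R)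
    (hp : p ∈ Set.range (PrimeSpectrum.comap (algebraMap R B))) :
    ∃ J : Ideal B, J.FG ∧ ∃ (q : PrimeSpectrum (B ⧸ J)),
      PrimeSpectrum.comap (algebraMap R (B ⧸ J)) q = p ∧ q ∈ flatLocus R (B ⧸ J) (B ⧸ J) ∧
        Algebra.QuasiFiniteAt R q.asIdeal := by
  classical
  let φ : B →ₐ[R] p.asIdeal.Fiber B := Algebra.TensorProduct.includeRight
  let F := p.asIdeal.Fiber B
  haveI : IsNoetherianRing F := Algebra.FiniteType.isNoetherianRing p.asIdeal.ResidueField F
  haveI : IsJacobsonRing F := isJacobsonRing_of_finiteType (A := p.asIdeal.ResidueField)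
  let E := PrimeSpectrum.preimageHomeomorphFiber R B p
  have hEsymm : ∀ Q : PrimeSpectrum F, (E.symm Q).1 = PrimeSpectrum.comap φ.toRingHom Q := fun _ ↦ rfl
  let 𝒥 : Set (Ideal F) := {K | ∃ J : Ideal B, J.FG ∧ K = J.map φ.toRingHom ∧
    ∃ q : PrimeSpectrum B, PrimeSpectrum.comap (algebraMap R B) q = p ∧ J ≤ q.asIdeal ∧
      q ∈ flatLocus R B (B ⧸ J)}
  obtain ⟨q₀, hq₀⟩ := hp
  have hne : 𝒥.Nonempty := ⟨_, ⊥, Submodule.fg_bot, rfl, q₀, hq₀, bot_le, by
    haveI : Module.Flat R (B ⧸ (⊥ : Ideal B)) :=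
      Module.Flat.of_linearEquiv ((AlgEquiv.quotientBot R B).toLinearEquiv)
    exact (flat_localized_iff q₀.asIdeal.primeCompl (LocalizedModule.mkLinearMap _ _)).mpr
      fun P _ _ N x hx ↦ ⟨1, one_mem _, by
        rw [one_smul]
        exact Module.Flat.lTensor_preserves_injective_linearMap _ Subtype.val_injective
          (hx.trans (map_zero _).symm)⟩⟩
  obtain ⟨K, ⟨J, hJ, hK, q, hqp, hJq, hqflat⟩, hmax⟩ :=
    (wellFounded_gt (α := Ideal F)).has_min 𝒥 hne
  haveI : Module.FinitePresentation B (B ⧸ J) :=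
    Module.finitePresentation_of_surjective J.mkQ J.mkQ_surjective (by rwa [Submodule.ker_mkQ])
  let U : Set (PrimeSpectrum B) := flatLocus R B (B ⧸ J)
  have hU : IsOpen U := isOpen_flatLocus_fp
  let W : Set (PrimeSpectrum F) := PrimeSpectrum.comap φ.toRingHom ⁻¹' U ∩ PrimeSpectrum.zeroLocus (K : Set F)
  have hW : IsLocallyClosed W :=
    (hU.preimage (PrimeSpectrum.continuous_comap _)).isLocallyClosed.inter
      (PrimeSpectrum.isClosed_zeroLocus _).isLocallyClosed
  have hKQ : ∀ Q : PrimeSpectrum F, J ≤ (PrimeSpectrum.comap φ.toRingHom Q).asIdeal →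
      Q ∈ PrimeSpectrum.zeroLocus (K : Set F) := fun Q hQ ↦ by
    rw [PrimeSpectrum.mem_zeroLocus, SetLike.coe_subset_coe, hK]
    exact Ideal.map_le_iff_le_comap.mpr hQ
  have hWq : E ⟨q, hqp⟩ ∈ W := by
    have h1 : PrimeSpectrum.comap φ.toRingHom (E ⟨q, hqp⟩) = q := by
      rw [← hEsymm, E.symm_apply_apply]
    exact ⟨show PrimeSpectrum.comap φ.toRingHom (E ⟨q, hqp⟩) ∈ U from h1.symm ▸ hqflat,
      hKQ _ (h1.symm ▸ hJq)⟩
  -- every closed point of `W` is associated
  have hass : ∀ Q ∈ W ∩ closedPoints (PrimeSpectrum F), Q.asIdeal ∈ associatedPrimes F (F ⧸ K) := by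
    rintro Q ⟨⟨hQU, hQK⟩, hQcl⟩
    by_contra hQ
    haveI : Q.asIdeal.IsMaximal := (PrimeSpectrum.isClosed_singleton_iff_isMaximal Q).mp hQcl
    obtain ⟨x, hxQ, hx⟩ : ∃ x ∈ Q.asIdeal, IsSMulRegular (F ⧸ K) x := by
      by_contra! hcon
      have hsub : (Q.asIdeal : Set F) ⊆ ⋃ P ∈ associatedPrimes F (F ⧸ K), (P : Set F) := by
        rw [biUnion_associatedPrimes_eq_compl_regular]
        exact fun y hy ↦ hcon y hy
      obtain ⟨P, hP, hle⟩ := (Ideal.subset_union_prime_finite (associatedPrimes.finite F (F ⧸ K))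
        (f := id) 0 0 fun _ h _ _ ↦ h.isPrime).mp hsub
      exact hQ ((‹Q.asIdeal.IsMaximal›.eq_of_le hP.isPrime.ne_top hle) ▸ hP)
    obtain ⟨r, hr, b, hb⟩ := Ideal.Fiber.exists_smul_eq_one_tmul p.asIdeal x
    let q' := PrimeSpectrum.comap φ.toRingHom Q
    have hq'p : PrimeSpectrum.comap (algebraMap R B) q' = p := (E.symm Q).2
    have hbq' : b ∈ q'.asIdeal := by
      show φ b ∈ Q.asIdeal
      rw [show φ b = (1 : p.asIdeal.ResidueField) ⊗ₜ[R] b from rfl, ← hb, Algebra.smul_def]
      exact Ideal.mul_mem_left _ _ hxQ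
    have hr' : IsUnit (algebraMap R F r) := by
      rw [IsScalarTower.algebraMap_apply R p.asIdeal.ResidueField F]
      exact (IsUnit.mk0 _ fun h ↦ hr (Ideal.algebraMap_residueField_eq_zero.mp h)).map _
    have hbreg : ∀ z : F, φ b * z ∈ K → z ∈ K := fun z hz ↦ by
      have hxz : x * z ∈ K := by
        rw [show φ b = (1 : p.asIdeal.ResidueField) ⊗ₜ[R] b from rfl, ← hb, Algebra.smul_def,
          mul_assoc] at hz
        exact (Ideal.unit_mul_mem_iff_mem K hr').mp hz
      refine Ideal.Quotient.eq_zero_iff_mem.mp (hx ?_)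
      show x • Ideal.Quotient.mk K z = x • (0 : F ⧸ K)
      rw [smul_zero]
      exact Ideal.Quotient.eq_zero_iff_mem.mpr hxz
    have hq'J : J ≤ q'.asIdeal := fun j hj ↦ hQK (hK ▸ Ideal.mem_map_of_mem φ.toRingHom hj)
    have hmem : ∀ m : B, Submodule.Quotient.mk m ∈
        ((q'.asIdeal.comap (algebraMap R B)).map (algebraMap R B)) • (⊤ : Submodule B (B ⧸ J)) ↔
        m ∈ J ⊔ p.asIdeal.map (algebraMap R B) := fun m ↦ by
      rw [show q'.asIdeal.comap (algebraMap R B) = p.asIdeal from congrArg PrimeSpectrum.asIdeal hq'p,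
        ← Submodule.range_mkQ J, ← Submodule.map_top, ← Submodule.map_smul'', Ideal.smul_eq_mul,
        ← Ideal.one_eq_top, mul_one, ← Submodule.comap_map_mkQ J, Submodule.mem_comap]
      rfl
    obtain ⟨U', -, hq'U', hU'⟩ := slice_point (M := B ⧸ J) q' b hbq' hQU (by
      intro m
      obtain ⟨m, rfl⟩ := Submodule.Quotient.mk_surjective _ m
      rintro ⟨t, ht, htm⟩
      rw [← Submodule.Quotient.mk_smul, ← Submodule.Quotient.mk_smul, hmem, smul_eq_mul, smul_eq_mul] at htm
      have hpK : ∀ y ∈ J ⊔ p.asIdeal.map (algebraMap R B), φ y ∈ K := fun y hy ↦ by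
        have : J ⊔ p.asIdeal.map (algebraMap R B) ≤ K.comap φ.toRingHom := by
          refine sup_le (hK ▸ Ideal.le_comap_map) (Ideal.map_le_iff_le_comap.mpr fun r hr ↦ ?_)
          show φ (algebraMap R B r) ∈ K
          rw [φ.commutes, IsScalarTower.algebraMap_apply R p.asIdeal.ResidueField F,
            Ideal.algebraMap_residueField_eq_zero.mpr hr, map_zero]
          exact zero_mem _
        exact this hy
      have h1 := hpK _ htm
      rw [map_mul, map_mul, mul_left_comm] at h1
      have h2 : φ (t * m) ∈ K := by rw [map_mul]; exact hbreg _ h1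
      rw [hK] at h2
      obtain ⟨t', ht', ht'm⟩ := mem_map_fiber_imp p.asIdeal J h2 q'.asIdeal
        (congrArg PrimeSpectrum.asIdeal hq'p)
      refine ⟨t' * t, fun h ↦ (q'.isPrime.mem_or_mem h).elim ht' ht, ?_⟩
      rw [← Submodule.Quotient.mk_smul, hmem, smul_eq_mul, mul_assoc]
      exact ht'm)
    let J' := J ⊔ Ideal.span {b}
    let π : (B ⧸ J) →ₗ[B] B ⧸ J' := Submodule.factor le_sup_left
    have hπs : Function.Surjective π := Submodule.factor_surjective le_sup_left
    have hker : LinearMap.ker π = Ideal.span {b} • (⊤ : Submodule B (B ⧸ J)) := by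
      rw [show LinearMap.ker π = Submodule.map J.mkQ J' from by
          ext z
          obtain ⟨m, rfl⟩ := Submodule.Quotient.mk_surjective _ z
          have e1 : π (Submodule.Quotient.mk m) = Submodule.Quotient.mk m := rfl
          rw [LinearMap.mem_ker, e1, Submodule.Quotient.mk_eq_zero]
          refine ⟨fun h ↦ ⟨m, h, rfl⟩, ?_⟩
          rintro ⟨m', hm', hmm⟩
          have h1 : m' - m ∈ J' := le_sup_left (a := J) ((Submodule.Quotient.eq _).mp hmm)
          simpa using sub_mem hm' h1,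
        Submodule.map_sup, Submodule.mkQ_map_self, bot_sup_eq, ← Submodule.range_mkQ J, ← Submodule.map_top,
        ← Submodule.map_smul'', Ideal.smul_eq_mul, ← Ideal.one_eq_top, mul_one]
    have hflat' : q' ∈ flatLocus R B (B ⧸ J') := by
      let e : ((B ⧸ J) ⧸ (Ideal.span {b} • (⊤ : Submodule B (B ⧸ J)))) ≃ₗ[B] B ⧸ J' :=
        (Submodule.quotEquivOfEq _ _ hker.symm).trans (π.quotKerEquivOfSurjective hπs)
      exact flat_of_le q'.asIdeal.primeCompl (LocalizedModule.mkLinearMap _ _) q'.asIdeal.primeCompl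
        ((LocalizedModule.mkLinearMap q'.asIdeal.primeCompl (B ⧸ J')) ∘ₗ e.toLinearMap) le_rfl (hU' q' hq'U').2
    have hK' : J'.map φ.toRingHom ∈ 𝒥 :=
      ⟨J', Submodule.FG.sup hJ (Submodule.fg_span_singleton b), rfl, q', hq'p,
        sup_le hq'J ((Ideal.span_singleton_le_iff_mem _).mpr hbq'), hflat'⟩
    refine hmax _ hK' (lt_of_le_of_ne (hK ▸ Ideal.map_mono le_sup_left) fun h ↦ ?_)
    have hbK : φ b ∈ K := by
      rw [h]
      exact Ideal.mem_map_of_mem _ (Ideal.mem_sup_right (Ideal.mem_span_singleton_self b))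
    have : (1 : F) ∈ K := hbreg 1 (by rw [mul_one]; exact hbK)
    exact Q.isPrime.ne_top ((Ideal.eq_top_iff_one _).mpr (hQK this))
  let T := W ∩ closedPoints (PrimeSpectrum F)
  have hT : T.Finite := Set.Finite.of_finite_image
    ((associatedPrimes.finite F (F ⧸ K)).subset (by rintro _ ⟨Q, hQ, rfl⟩; exact hass Q hQ))
    fun Q _ Q' _ h ↦ PrimeSpectrum.ext h
  have hTcl : ∀ S ⊆ T, IsClosed S := fun S hS ↦ by
    rw [← Set.biUnion_of_singleton S]
    exact (hT.subset hS).isClosed_biUnion fun Q hQ ↦ (hS hQ).2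
  have hWT : W ⊆ T := by
    intro Q hQ
    by_contra hQT
    obtain ⟨Q', hQ', hQ'c⟩ := nonempty_inter_closedPoints (Z := W ∩ Tᶜ) ⟨Q, hQ, hQT⟩
      (hW.inter (hTcl T le_rfl).isOpen_compl.isLocallyClosed)
    exact hQ'.2 ⟨hQ'.1, hQ'c⟩
  -- `q` is isolated in the fibre of `B ⧸ J`
  let mk := Ideal.Quotient.mk J
  let q₁ : PrimeSpectrum (B ⧸ J) := ⟨q.asIdeal.map mk,
    Ideal.map_isPrime_of_surjective Ideal.Quotient.mk_surjective (by rwa [Ideal.mk_ker])⟩
  have hq₁ : PrimeSpectrum.comap mk q₁ = q := PrimeSpectrum.ext (by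
    show Ideal.comap mk (q.asIdeal.map mk) = q.asIdeal
    rw [Ideal.comap_map_of_surjective _ Ideal.Quotient.mk_surjective,
      show Ideal.comap mk ⊥ = J from Ideal.mk_ker, sup_eq_left.mpr hJq])
  have hq₁p : PrimeSpectrum.comap (algebraMap R (B ⧸ J)) q₁ = p := by
    rw [show algebraMap R (B ⧸ J) = mk.comp (algebraMap R B) from rfl, PrimeSpectrum.comap_comp_apply, hq₁, hqp]
  refine ⟨J, hJ, q₁, hq₁p, ?_, ?_⟩
  · haveI : q₁.asIdeal.IsPrime := q₁.isPrime
    show Module.Flat R (LocalizedModule q₁.asIdeal.primeCompl (B ⧸ J))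
    refine (flat_localized_iff q₁.asIdeal.primeCompl (LocalizedModule.mkLinearMap _ _)).mpr fun P _ _ N x hx ↦ ?_
    obtain ⟨t, ht, htx⟩ := (flat_localized_iff q.asIdeal.primeCompl (LocalizedModule.mkLinearMap _ _)).mp hqflat P N x hx
    refine ⟨mk t, fun h ↦ ht (hq₁ ▸ h), ?_⟩
    rw [← htx]
    exact algebraMap_smul (B ⧸ J) t x
  · refine Algebra.QuasiFiniteAt.of_isOpen_singleton_fiber q₁ ?_
    let Ω : Set (PrimeSpectrum F) :=
      PrimeSpectrum.comap φ.toRingHom ⁻¹' U ∩ (T \ {E ⟨q, hqp⟩})ᶜ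
    have hΩ : IsOpen Ω :=
      (hU.preimage (PrimeSpectrum.continuous_comap _)).inter (hTcl _ Set.sdiff_subset).isOpen_compl
    let g : (PrimeSpectrum.comap (algebraMap R (B ⧸ J)) ⁻¹' {PrimeSpectrum.comap (algebraMap R (B ⧸ J)) q₁} :
        Set (PrimeSpectrum (B ⧸ J))) → PrimeSpectrum F := fun z ↦
      E ⟨PrimeSpectrum.comap mk z.1, by
        show PrimeSpectrum.comap (algebraMap R B) (PrimeSpectrum.comap mk z.1) = p
        rw [← PrimeSpectrum.comap_comp_apply, ← hq₁p]
        exact z.2⟩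
    have hg : Continuous g := E.continuous.comp
      (((PrimeSpectrum.continuous_comap mk).comp continuous_subtype_val).subtype_mk _)
    have hgq : g ⟨q₁, rfl⟩ = E ⟨q, hqp⟩ := congrArg E (Subtype.ext hq₁)
    convert hΩ.preimage hg using 1
    ext z
    have hz : PrimeSpectrum.comap φ.toRingHom (g z) = PrimeSpectrum.comap mk z.1 := by
      rw [← hEsymm, E.symm_apply_apply]
    constructor
    · rintro rfl
      refine ⟨?_, fun h ↦ h.2 hgq⟩
      rw [hgq]
      exact hWq.1
    · rintro ⟨h1, h2⟩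
      have hzW : g z ∈ W := ⟨h1, hKQ _ (hz ▸ fun j hj ↦ by
        show mk j ∈ z.1.asIdeal
        rw [show mk j = 0 from Ideal.Quotient.eq_zero_iff_mem.mpr hj]
        exact zero_mem _)⟩
      have h3 : g z = E ⟨q, hqp⟩ := not_not.mp fun h ↦ h2 ⟨hWT hzW, h⟩
      have h4 : PrimeSpectrum.comap mk z.1 = q := congrArg Subtype.val (E.injective h3)
      exact Subtype.ext (PrimeSpectrum.comap_injective_of_surjective mk Ideal.Quotient.mk_surjective
        (h4.trans hq₁.symm))

theorem flat_away_of_basicOpen {C : Type u} [CommRing C] [Algebra R C] (g : C)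
    (h : ∀ q : PrimeSpectrum C, g ∉ q.asIdeal → q ∈ flatLocus R C C) :
    Module.Flat R (Localization.Away g) := by
  refine (flat_localized_iff (Submonoid.powers g) (Algebra.linearMap C (Localization.Away g))).mpr
    fun P _ _ N x hx ↦ ?_
  let I : Ideal C :=
    { carrier := {t | t • x = 0}
      zero_mem' := zero_smul C x
      add_mem' := fun {a b} ha hb ↦ by
        show (a + b) • x = 0
        rw [add_smul, show a • x = 0 from ha, show b • x = 0 from hb, add_zero]
      smul_mem' := fun c {a} ha ↦ by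
        show (c * a) • x = 0
        rw [mul_smul, show a • x = 0 from ha, smul_zero] }
  have hg : g ∈ I.radical := by
    rw [Ideal.radical_eq_sInf, Ideal.mem_sInf]
    rintro Q ⟨hIQ, hQ⟩
    by_contra hgQ
    obtain ⟨t, ht, htx⟩ :=
      (flat_localized_iff (⟨Q, hQ⟩ : PrimeSpectrum C).asIdeal.primeCompl (LocalizedModule.mkLinearMap _ _)).mp
        (h ⟨Q, hQ⟩ hgQ) P N x hx
    exact ht (hIQ htx)
  obtain ⟨n, hn⟩ := hg
  exact ⟨g ^ n, ⟨n, rfl⟩, hn⟩

theorem flat_prod_self {R : Type u} [CommRing R] {M N : Type u} [AddCommGroup M] [AddCommGroup N]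
    [Module R M] [Module R N] [Module.Flat R M] [Module.Flat R N] : Module.Flat R (M × N) := by
  rw [Module.Flat.iff_lTensor_injectiveₛ]
  intro P _ _ Q
  let e := TensorProduct.prodLeft R R M N Q
  let e' := TensorProduct.prodLeft R R M N P
  have h : ∀ z, e' (Q.subtype.lTensor (M × N) z) =
      Prod.map (Q.subtype.lTensor M) (Q.subtype.lTensor N) (e z) := by
    intro z
    induction z using TensorProduct.induction_on with
    | zero => simp [Prod.map, Prod.ext_iff]
    | tmul m q => obtain ⟨a, b⟩ := m; simp [e, e']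
    | add a b ha hb => simp [map_add, ha, hb, Prod.map]
  intro a b hab
  refine e.injective ?_
  have := congr_arg e' hab
  rw [h, h] at this
  exact (Function.Injective.prodMap (Module.Flat.lTensor_preserves_injective_linearMap _
    Q.subtype_injective) (Module.Flat.lTensor_preserves_injective_linearMap _
      Q.subtype_injective)) this

theorem finitePresentation_prod (A C : Type u) [CommRing A] [CommRing C] [Algebra R A] [Algebra R C]
    [Algebra.FinitePresentation R A] [Algebra.FinitePresentation R C] :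
    Algebra.FinitePresentation R (A × C) := by
  rw [← RingHom.finitePresentation_algebraMap]
  refine RingHom.finitePresentation_ofLocalizationSpanTarget (algebraMap R (A × C))
    {((1 : A), (0 : C)), ((0 : A), (1 : C))} ?_ ?_
  · rw [Ideal.eq_top_iff_one]
    have : (1 : A × C) = ((1 : A), (0 : C)) + ((0 : A), (1 : C)) := Prod.ext (add_zero 1).symm (zero_add 1).symm
    rw [this]
    exact add_mem (Ideal.subset_span (Or.inl rfl)) (Ideal.subset_span (Or.inr rfl))
  · rintro ⟨e, rfl | rfl⟩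
    · letI : Algebra (A × C) A := (RingHom.fst A C).toAlgebra
      haveI : IsScalarTower R (A × C) A := IsScalarTower.of_algebraMap_eq fun _ ↦ rfl
      haveI : IsLocalization.Away ((1 : A), (0 : C)) A := IsLocalization.away_of_isIdempotentElem_of_mul
        (Prod.ext (one_mul 1) (mul_zero 0))
        (fun x y ↦ ⟨fun h ↦ Prod.ext (congrArg ((1 : A) * ·) h) (by simp),
          fun h ↦ by simpa using! congrArg Prod.fst h⟩)
        (fun a ↦ ⟨(a, 0), rfl⟩)
      rw [← IsScalarTower.algebraMap_eq, RingHom.finitePresentation_algebraMap]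
      exact Algebra.FinitePresentation.equiv
        ((IsLocalization.algEquiv (Submonoid.powers ((1 : A), (0 : C))) A (Localization.Away _)).restrictScalars R)
    · letI : Algebra (A × C) C := (RingHom.snd A C).toAlgebra
      haveI : IsScalarTower R (A × C) C := IsScalarTower.of_algebraMap_eq fun _ ↦ rfl
      haveI : IsLocalization.Away ((0 : A), (1 : C)) C := IsLocalization.away_of_isIdempotentElem_of_mul
        (Prod.ext (mul_zero 0) (one_mul 1))
        (fun x y ↦ ⟨fun h ↦ Prod.ext (by simp) (congrArg ((1 : C) * ·) h),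
          fun h ↦ by simpa using! congrArg Prod.snd h⟩)
        (fun a ↦ ⟨(0, a), rfl⟩)
      rw [← IsScalarTower.algebraMap_eq, RingHom.finitePresentation_algebraMap]
      exact Algebra.FinitePresentation.equiv
        ((IsLocalization.algEquiv (Submonoid.powers ((0 : A), (1 : C))) C (Localization.Away _)).restrictScalars R)

theorem quasiFinite_prod (A C : Type u) [CommRing A] [CommRing C] [Algebra R A] [Algebra R C]
    [Algebra.FiniteType R A] [Algebra.FiniteType R C] [Algebra.QuasiFinite R A] [Algebra.QuasiFinite R C] :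
    Algebra.QuasiFinite R (A × C) := by
  refine Algebra.QuasiFinite.iff_finite_comap_preimage_singleton.mpr fun x ↦ ?_
  refine ((((Algebra.QuasiFinite.finite_comap_preimage_singleton (S := A) x).image
    (PrimeSpectrum.comap (RingHom.fst A C))).union
      ((Algebra.QuasiFinite.finite_comap_preimage_singleton (S := C) x).image
    (PrimeSpectrum.comap (RingHom.snd A C)))).subset ?_)
  intro Q hQ
  obtain ⟨Q', rfl⟩ := (PrimeSpectrum.primeSpectrumProd A C).symm.surjective Q
  rcases Q' with Q' | Q'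
  · refine Or.inl ⟨Q', ?_, ?_⟩
    · rw [Set.mem_preimage, Set.mem_singleton_iff] at hQ ⊢
      rw [← hQ, PrimeSpectrum.primeSpectrumProd_symm_inl]
      rfl
    · rw [PrimeSpectrum.primeSpectrumProd_symm_inl]
  · refine Or.inr ⟨Q', ?_, ?_⟩
    · rw [Set.mem_preimage, Set.mem_singleton_iff] at hQ ⊢
      rw [← hQ, PrimeSpectrum.primeSpectrumProd_symm_inr]
      rfl
    · rw [PrimeSpectrum.primeSpectrumProd_symm_inr]

/-- Candidates for the cover. -/
def IsQFModel (B S' : Type u) [CommRing B] [Algebra R B] [CommRing S'] [Algebra R S'] : Prop :=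
  Algebra.QuasiFinite R S' ∧ Algebra.FinitePresentation R S' ∧ Module.Flat R S' ∧ Nonempty (B →ₐ[R] S')

theorem exists_qf_nhd [Module.Flat R B] [Algebra.FinitePresentation R B] (p : PrimeSpectrum R)
    (hp : p ∈ Set.range (PrimeSpectrum.comap (algebraMap R B))) :
    ∃ (S' : Type u) (_ : CommRing S') (_ : Algebra R S'), IsQFModel (R := R) B S' ∧
      ∃ U : Set (PrimeSpectrum R), IsOpen U ∧ p ∈ U ∧ U ⊆ Set.range (PrimeSpectrum.comap (algebraMap R S')) := by
  obtain ⟨J, hJ, q, hqp, hflat, hqf⟩ := exists_qf_point p hp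
  haveI := hqf
  let C := B ⧸ J
  haveI : Algebra.FinitePresentation R C := Algebra.FinitePresentation.quotient hJ
  obtain ⟨S₀, hS₀, r, hr, hbij⟩ :=
    Algebra.QuasiFiniteAt.exists_fg_and_exists_notMem_and_awayMap_bijective (R := R) q.asIdeal
  haveI : Module.Finite R S₀ := ⟨(Submodule.fg_top _).mpr hS₀⟩
  haveI : Algebra.QuasiFinite R (Localization.Away r) := .trans R S₀ _
  haveI : Algebra.QuasiFinite R (Localization.Away r.1) :=
    .of_surjective_algHom (Localization.awayMapₐ S₀.val r) hbij.2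
  obtain ⟨_, ⟨h, rfl⟩, hqh, hhU⟩ := PrimeSpectrum.isTopologicalBasis_basic_opens.exists_subset_of_mem_open
    hflat (isOpen_flatLocus_fp (R := R) (S := C) (M := C))
  let g : C := r.1 * h
  have hgq : g ∉ q.asIdeal := fun hg ↦ (q.isPrime.mem_or_mem hg).elim hr hqh
  let D := Localization.Away g
  haveI : Algebra.FinitePresentation C D := IsLocalization.Away.finitePresentation g
  haveI : Algebra.FinitePresentation R D := Algebra.FinitePresentation.trans R C D
  haveI : Module.Flat R D := flat_away_of_basicOpen g fun Q hQ ↦ hhU fun hh ↦ hQ (Ideal.mul_mem_left _ _ hh)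
  haveI : Algebra.QuasiFinite R D := by
    let f : Localization.Away r.1 →ₐ[C] D := IsLocalization.Away.liftAlgHom r.1 (f := Algebra.ofId C D) (by
      have : IsUnit (algebraMap C D g) := IsLocalization.Away.algebraMap_isUnit g
      rw [map_mul] at this
      exact isUnit_of_mul_isUnit_left this)
    refine .of_forall_exists_mul_mem_range (f.restrictScalars R) fun x ↦ ?_
    obtain ⟨x, ⟨s, hs⟩, rfl⟩ := IsLocalization.exists_mk'_eq (Submonoid.powers g) x
    exact ⟨algebraMap _ _ s, by simpa using IsLocalization.map_units D (⟨s, hs⟩ : Submonoid.powers g),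
      algebraMap C _ x, by simp⟩
  refine ⟨D, inferInstance, inferInstance, ⟨inferInstance, inferInstance, inferInstance,
    ⟨(IsScalarTower.toAlgHom R C D).comp (Ideal.Quotient.mkₐ R J)⟩⟩,
    Set.range (PrimeSpectrum.comap (algebraMap R D)), ?_, ?_, le_rfl⟩
  · exact (PrimeSpectrum.isOpenMap_comap_of_hasGoingDown_of_finitePresentation (R := R) (S := D)).isOpen_range
  · have : q ∈ Set.range (PrimeSpectrum.comap (algebraMap C D)) := by
      rw [PrimeSpectrum.localization_away_comap_range D g]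
      exact hgq
    obtain ⟨z, hz⟩ := this
    exact ⟨z, by rw [IsScalarTower.algebraMap_eq R C D, PrimeSpectrum.comap_comp_apply, hz, hqp]⟩

theorem exists_qf_finset [Module.FaithfullyFlat R B] [Algebra.FinitePresentation R B]
    (s : Finset (PrimeSpectrum R)) (U : PrimeSpectrum R → Set (PrimeSpectrum R))
    (hU : ∀ p ∈ s, ∃ (S' : Type u) (_ : CommRing S') (_ : Algebra R S'), IsQFModel (R := R) B S' ∧
      U p ⊆ Set.range (PrimeSpectrum.comap (algebraMap R S'))) :
    ∃ (S' : Type u) (_ : CommRing S') (_ : Algebra R S'), IsQFModel (R := R) B S' ∧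
      ∀ p ∈ s, U p ⊆ Set.range (PrimeSpectrum.comap (algebraMap R S')) := by
  classical
  induction s using Finset.induction_on with
  | empty =>
    haveI : Algebra.FinitePresentation R PUnit.{u+1} :=
      Algebra.FinitePresentation.of_surjective (f := Algebra.ofId R PUnit.{u+1})
        (fun x ↦ ⟨0, Subsingleton.elim _ _⟩) ⟨{1}, by
          rw [Finset.coe_singleton]
          exact le_antisymm (fun x _ ↦ Subsingleton.elim _ _)
            (fun x _ ↦ Ideal.mem_span_singleton'.mpr ⟨x, mul_one x⟩)⟩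
    exact ⟨PUnit.{u+1}, inferInstance, inferInstance, ⟨inferInstance, inferInstance, inferInstance,
      ⟨{ toFun := fun _ ↦ PUnit.unit, map_one' := rfl, map_mul' := fun _ _ ↦ rfl, map_zero' := rfl,
         map_add' := fun _ _ ↦ rfl, commutes' := fun _ ↦ rfl }⟩⟩, by simp⟩
  | @insert a t _ ih =>
    obtain ⟨A, _, _, ⟨hA1, hA2, hA3, ⟨fA⟩⟩, hA⟩ := hU a (Finset.mem_insert_self a t)
    obtain ⟨C, _, _, ⟨hC1, hC2, hC3, ⟨fC⟩⟩, hC⟩ := ih fun p hp ↦ hU p (Finset.mem_insert_of_mem hp)
    haveI := hA1; haveI := hA2; haveI := hA3; haveI := hC1; haveI := hC2; haveI := hC3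
    refine ⟨A × C, inferInstance, inferInstance, ⟨quasiFinite_prod A C, finitePresentation_prod A C,
      flat_prod_self, ⟨fA.prod fC⟩⟩, fun p hp ↦ ?_⟩
    intro x hx
    rcases Finset.mem_insert.mp hp with rfl | hp
    · obtain ⟨z, rfl⟩ := hA hx
      exact ⟨PrimeSpectrum.comap (RingHom.fst A C) z, (PrimeSpectrum.comap_comp_apply _ _ _).symm⟩
    · obtain ⟨z, rfl⟩ := hC p hp hx
      exact ⟨PrimeSpectrum.comap (RingHom.snd A C) z, (PrimeSpectrum.comap_comp_apply _ _ _).symm⟩

/-- EGA IV 17.16.2: quasi-finite faithfully flat covers. -/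
theorem exists_qf_cover [Module.FaithfullyFlat R B] [Algebra.FinitePresentation R B] :
    ∃ (S' : Type u) (_ : CommRing S') (_ : Algebra R S'),
      IsQFModel (R := R) B S' ∧ Module.FaithfullyFlat R S' := by
  have hs : ∀ p : PrimeSpectrum R, p ∈ Set.range (PrimeSpectrum.comap (algebraMap R B)) :=
    PrimeSpectrum.comap_surjective_of_faithfullyFlat
  choose S' i1 i2 hM U hUo hpU hUr using fun p ↦ exists_qf_nhd (B := B) p (hs p)
  obtain ⟨s, hs⟩ := isCompact_univ.elim_finite_subcover U hUo (fun p _ ↦ Set.mem_iUnion.mpr ⟨p, hpU p⟩)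
  obtain ⟨T, iT1, iT2, hT, hcov⟩ := exists_qf_finset (B := B) s U
    fun p _ ↦ ⟨S' p, i1 p, i2 p, hM p, hUr p⟩
  refine ⟨T, iT1, iT2, hT, ?_⟩
  haveI := hT.2.2.1
  refine Module.FaithfullyFlat.of_comap_surjective fun x ↦ ?_
  obtain ⟨p, hp, hx⟩ := Set.mem_iUnion₂.mp (hs (Set.mem_univ x))
  exact hcov p hp hx

end FlatLib
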