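import Groth.Agent.FlatLib.Local
import Mathlib

/-! Linear algebra for descending flatness to Noetherian stages. -/

set_option autoImplicit false
universe u

open TensorProduct LinearMap

namespace FlatLib

variable {A : Type u} [CommRing A]

/-- An element of `M ⊗ J` which dies in `M ⊗ I` dies in a finitely generated stage. -/
theorem exists_stage_eq_zero {M P : Type u} [AddCommGroup M] [Module A M] [AddCommGroup P]
    [Module A P] {I J : Submodule A P} (hJI : J ≤ I) (z : M ⊗[A] J)
    (hz : (Submodule.inclusion hJI).lTensor M z = 0) :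
    ∃ J' : Submodule A P, J'.FG ∧ J' ≤ I ∧
      ∀ (K : Submodule A P) (hJK : J ≤ K), J' ≤ K → (Submodule.inclusion hJK).lTensor M z = 0 := by
  classical
  let F := M →₀ A
  let π : F →ₗ[A] M := Finsupp.linearCombination A (id : M → M)
  have hπ : Function.Surjective π := Finsupp.linearCombination_surjective A Function.surjective_id
  let L := LinearMap.ker π
  have hex : Function.Exact L.subtype π := LinearMap.exact_subtype_ker_map π
  obtain ⟨zh, rfl⟩ := LinearMap.rTensor_surjective J hπ z
  have h1 : π.rTensor I ((Submodule.inclusion hJI).lTensor F zh) = 0 := by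
    rw [← LinearMap.comp_apply, LinearMap.rTensor_comp_lTensor, ← LinearMap.lTensor_comp_rTensor,
      LinearMap.comp_apply]
    exact hz
  obtain ⟨u, hu⟩ := (rTensor_exact (M := L) (N := F) (P := M) I hex hπ _).mp h1
  obtain ⟨J', hJ'fg, hJ'I, u', hu'⟩ := Submodule.exists_fg_le_eq_rTensor_inclusion
    (TensorProduct.comm A L I u)
  refine ⟨J', hJ'fg, hJ'I, fun K hJK hJ'K ↦ ?_⟩
  let I' := K ⊔ I
  have hI : Function.Injective ((Submodule.inclusion (le_sup_left : K ≤ I')).lTensor F) :=
    Module.Flat.lTensor_preserves_injective_linearMap _ (Submodule.inclusion_injective _)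
  let w := (TensorProduct.comm A J' L) u'
  have key : (Submodule.inclusion hJK).lTensor F zh =
      L.subtype.rTensor K ((Submodule.inclusion hJ'K).lTensor L w) := by
    apply hI
    have hu2 : (Submodule.inclusion hJ'I).lTensor L w = u := by
      have := congr_arg (TensorProduct.comm A I L) hu'
      rw [← TensorProduct.comm_symm A L I, LinearEquiv.symm_apply_apply] at this
      rw [this, TensorProduct.comm_symm A L I]
      simp only [w]
      clear hu' this
      induction u' using TensorProduct.induction_on with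
      | zero => simp
      | tmul a b => simp
      | add a b ha hb => simp only [map_add, ha, hb]
    have e1 : ∀ y, L.subtype.rTensor I' ((Submodule.inclusion (le_sup_right : I ≤ I')).lTensor L y) =
        (Submodule.inclusion (le_sup_right : I ≤ I')).lTensor F (L.subtype.rTensor I y) := fun y ↦ by
      rw [← LinearMap.comp_apply, ← LinearMap.comp_apply, LinearMap.rTensor_comp_lTensor,
        LinearMap.lTensor_comp_rTensor]
    have := congr_arg ((Submodule.inclusion (le_sup_right : I ≤ I')).lTensor F) hu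
    rw [← e1, ← hu2, ← LinearMap.lTensor_comp_apply, ← LinearMap.lTensor_comp_apply] at this
    have e2 : ∀ y, (Submodule.inclusion (le_sup_left : K ≤ I')).lTensor F (L.subtype.rTensor K y) =
        L.subtype.rTensor I' ((Submodule.inclusion (le_sup_left : K ≤ I')).lTensor L y) := fun y ↦ by
      rw [← LinearMap.comp_apply, ← LinearMap.comp_apply, LinearMap.rTensor_comp_lTensor,
        LinearMap.lTensor_comp_rTensor]
    rw [e2, ← LinearMap.lTensor_comp_apply, ← LinearMap.lTensor_comp_apply]
    exact this.symm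
  have e3 : ∀ y, (Submodule.inclusion hJK).lTensor M (π.rTensor J y) =
      π.rTensor K ((Submodule.inclusion hJK).lTensor F y) := fun y ↦ by
    rw [← LinearMap.comp_apply, ← LinearMap.comp_apply, LinearMap.rTensor_comp_lTensor,
      LinearMap.lTensor_comp_rTensor]
  rw [e3, key, ← LinearMap.rTensor_comp_apply, show π ∘ₗ L.subtype = 0 from LinearMap.ext fun l ↦ l.2,
    LinearMap.rTensor_zero, LinearMap.zero_apply]

theorem exists_rTensor_ker {X Y Z : Type u} [AddCommGroup X] [Module A X] [AddCommGroup Y]
    [Module A Y] [AddCommGroup Z] [Module A Z] (g : X →ₗ[A] Y) (hg : Function.Surjective g)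
    (z : X ⊗[A] Z) (h : g.rTensor Z z = 0) :
    ∃ u, (LinearMap.ker g).subtype.rTensor Z u = z :=
  (rTensor_exact Z (LinearMap.exact_subtype_ker_map g) hg z).mp h

variable (p : Ideal A) (M R : Type u) [AddCommGroup M] [Module A M] [AddCommGroup R] [Module A R]

/-- Multiplication `M ⊗ p → M`. -/
noncomputable def jmap : M ⊗[A] p →ₗ[A] M :=
  (TensorProduct.rid A M).toLinearMap ∘ₗ (Submodule.subtype (p : Submodule A A)).lTensor M

theorem jmap_tmul (m : M) (c : p) : jmap p M (m ⊗ₜ c) = (c : A) • m := by simp [jmap]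

/-- Multiplication `p ⊗ R → R`. -/
noncomputable def pmul : p ⊗[A] R →ₗ[A] R :=
  (TensorProduct.lid A R).toLinearMap ∘ₗ (Submodule.subtype (p : Submodule A A)).rTensor R

theorem rTensor_jmap (z : (M ⊗[A] p) ⊗[A] R) :
    (jmap p M).rTensor R z = (pmul p R).lTensor M (TensorProduct.assoc A M p R z) := by
  induction z using TensorProduct.induction_on with
  | zero => simp
  | add a b ha hb => simp only [map_add, ha, hb]
  | tmul a r =>
    induction a using TensorProduct.induction_on with
    | zero => simp
    | add a b ha hb => simp only [add_tmul, map_add, ha, hb]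
    | tmul m c => simp [jmap_tmul, pmul, smul_tmul]

set_option maxSynthPendingDepth 5 in
/-- If `M / pM` becomes free over `A / p` after inverting `f`, the kernel of `M ⊗ p ⊗ R → M ⊗ R`
is, up to powers of `f`, generated by the two obvious pieces. -/
theorem kernel_cover (f : A)
    (hfree : Module.Free (Localization.Away (Ideal.Quotient.mk p f))
      (Localization.Away (Ideal.Quotient.mk p f) ⊗[A] M))
    (z : (M ⊗[A] p) ⊗[A] R) (hz : (jmap p M).rTensor R z = 0) :
    ∃ (n : ℕ) (k : LinearMap.ker (jmap p M) ⊗[A] R) (w : M ⊗[A] LinearMap.ker (pmul p R)),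
      f ^ n • z = (LinearMap.ker (jmap p M)).subtype.rTensor R k +
        (TensorProduct.assoc A M p R).symm ((LinearMap.ker (pmul p R)).subtype.lTensor M w) := by
  let F := M →₀ A
  let π : F →ₗ[A] M := Finsupp.linearCombination A (id : M → M)
  have hπ : Function.Surjective π := Finsupp.linearCombination_surjective A Function.surjective_id
  let L := LinearMap.ker π
  have hex : Function.Exact L.subtype π := LinearMap.exact_subtype_ker_map π
  let πp : F ⊗[A] p →ₗ[A] M ⊗[A] p := π.rTensor p
  obtain ⟨v, rfl⟩ := LinearMap.rTensor_surjective R (LinearMap.rTensor_surjective p hπ) z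
  have hj : jmap p M ∘ₗ πp = π ∘ₗ jmap p F := TensorProduct.ext' fun x c ↦ by
    simp [πp, jmap_tmul]
  obtain ⟨u, hu⟩ := (rTensor_exact (M := L) (N := F) (P := M) R hex hπ ((jmap p F).rTensor R v)).mp (by
    rw [← LinearMap.rTensor_comp_apply, ← hj, LinearMap.rTensor_comp_apply]
    exact hz)
  let Q := A ⧸ p
  let mkF : F →ₗ[A] Q ⊗[A] F := TensorProduct.mk A Q F 1
  have hmkj : mkF ∘ₗ jmap p F = 0 := TensorProduct.ext' fun x c ↦ by
    simp only [LinearMap.comp_apply, jmap_tmul, LinearMap.zero_apply, mkF, TensorProduct.mk_apply]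
    rw [← TensorProduct.smul_tmul, show (c : A) • (1 : Q) = 0 by
      rw [Algebra.smul_def, mul_one, Ideal.Quotient.algebraMap_eq, Ideal.Quotient.eq_zero_iff_mem]
      exact c.2, zero_tmul]
  let ιQ : Q ⊗[A] L →ₗ[Q] Q ⊗[A] F := L.subtype.baseChange Q
  let πQ : Q ⊗[A] F →ₗ[Q] Q ⊗[A] M := π.baseChange Q
  let Lb : Submodule Q (Q ⊗[A] F) := LinearMap.range ιQ
  let ql : L →ₗ[A] Lb := (ιQ.rangeRestrict.restrictScalars A).comp (TensorProduct.mk A Q L 1)
  have hql : (Lb.subtype.restrictScalars A) ∘ₗ ql = mkF ∘ₗ L.subtype :=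
    LinearMap.ext fun l ↦ by simp [ql, ιQ, mkF]
  have hexQ : Function.Exact Lb.subtype πQ := by
    have h1 : Function.Exact ιQ πQ := lTensor_exact (M := L) (N := F) (P := M) Q hex hπ
    rw [LinearMap.exact_iff] at h1 ⊢
    rw [h1, Submodule.range_subtype]
  have hπQ : Function.Surjective πQ := LinearMap.lTensor_surjective Q hπ
  let B := Localization.Away (Ideal.Quotient.mk p f)
  have : Module.Flat Q B := IsLocalization.flat B (Submonoid.powers (Ideal.Quotient.mk p f))
  let i' := Lb.subtype.baseChange B
  let p' := πQ.baseChange B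
  have hi' : Function.Injective i' :=
    Module.Flat.lTensor_preserves_injective_linearMap Lb.subtype Subtype.val_injective
  have hex' : Function.Exact i' p' := lTensor_exact (M := Lb) (N := Q ⊗[A] F) (P := Q ⊗[A] M) B hexQ hπQ
  have hp' : Function.Surjective p' := LinearMap.lTensor_surjective B hπQ
  haveI : Module.Free B (B ⊗[Q] (Q ⊗[A] M)) :=
    Module.Free.of_equiv (AlgebraTensorModule.cancelBaseChange A Q B B M).symm
  obtain ⟨s, hs⟩ := Module.projective_lifting_property p' LinearMap.id hp'
  let r : B ⊗[Q] (Q ⊗[A] F) →ₗ[B] B ⊗[Q] Lb :=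
    (LinearEquiv.ofInjective i' hi').symm.toLinearMap ∘ₗ
      ((LinearMap.id - s ∘ₗ p').codRestrict (LinearMap.range i') fun y ↦ (hex' _).mp (by
        simp only [LinearMap.sub_apply, LinearMap.id_apply, LinearMap.comp_apply, map_sub]
        exact sub_eq_zero.mpr (LinearMap.congr_fun hs (p' y)).symm))
  have hr : ∀ y, r (i' y) = y := fun y ↦ by
    apply (LinearEquiv.ofInjective i' hi').injective
    simp only [r, LinearMap.comp_apply, LinearEquiv.coe_toLinearMap, LinearEquiv.apply_symm_apply]
    refine Subtype.ext ?_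
    show i' y - s (p' (i' y)) = i' y
    rw [hex'.apply_apply_eq_zero, map_zero, sub_zero]
  let mL : Lb →ₗ[Q] B ⊗[Q] Lb := TensorProduct.mk Q B Lb 1
  haveI : IsLocalizedModule (Submonoid.powers (algebraMap A Q f)) mL :=
    inferInstanceAs (IsLocalizedModule (Submonoid.powers (Ideal.Quotient.mk p f)) mL)
  haveI : IsLocalizedModule (Submonoid.powers f) (mL.restrictScalars A) :=
    IsLocalizedModule.restrictScalars_powers f mL
  have hmL : mL.restrictScalars A = (r.restrictScalars A) ∘ₗ
      ((TensorProduct.mk Q B (Q ⊗[A] F) 1).restrictScalars A) ∘ₗ (Lb.subtype.restrictScalars A) :=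
    LinearMap.ext fun l ↦ (hr (1 ⊗ₜ l)).symm
  let x := ql.rTensor R u
  have hx : (Lb.subtype.restrictScalars A).rTensor R x = 0 := by
    rw [← LinearMap.rTensor_comp_apply, hql, LinearMap.rTensor_comp_apply, hu,
      ← LinearMap.rTensor_comp_apply, hmkj, LinearMap.rTensor_zero, LinearMap.zero_apply]
  have hx' : (mL.restrictScalars A).rTensor R x = 0 := by
    rw [hmL, LinearMap.rTensor_comp_apply, LinearMap.rTensor_comp_apply, hx, map_zero, map_zero]
  obtain ⟨t, ht⟩ := (IsLocalizedModule.eq_zero_iff (Submonoid.powers f)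
    (AlgebraTensorModule.rTensor A R (mL.restrictScalars A))).mp hx'
  obtain ⟨n, hn⟩ := t.2
  have hn' : ql.rTensor R (f ^ n • u) = 0 := by
    rw [map_smul, show f ^ n = (t : A) from hn]
    exact ht
  have hqlsurj : Function.Surjective ql := fun y ↦ by
    obtain ⟨q, hq⟩ := LinearMap.surjective_rangeRestrict ιQ y
    obtain ⟨l, hl⟩ := TensorProduct.mk_surjective A L Q Ideal.Quotient.mk_surjective q
    exact ⟨l, by rw [← hq, ← hl]; rfl⟩
  have h9 := exists_rTensor_ker (X := L) (Y := Lb) (Z := R) ql hqlsurj (f ^ n • u)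
  obtain ⟨u', hu'⟩ := h9 hn'
  let N' : Submodule A F := (LinearMap.ker ql).map L.subtype
  have hN' : N' ≤ LinearMap.range (jmap p F) := by
    rintro _ ⟨l, hl, rfl⟩
    have h0 : mkF l = 0 := by
      have := LinearMap.congr_fun hql l
      rw [LinearMap.comp_apply, LinearMap.mem_ker.mp hl, map_zero] at this
      exact this.symm
    have h1 : (Submodule.Quotient.mk (l : F) : F ⧸ (p • ⊤ : Submodule A F)) = 0 := by
      have := congr_arg (TensorProduct.quotTensorEquivQuotSMul F p) h0
      rw [map_zero] at this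
      rw [show mkF l = Ideal.Quotient.mk p 1 ⊗ₜ (l : F) from rfl,
        TensorProduct.quotTensorEquivQuotSMul_mk_tmul, one_smul] at this
      exact this
    exact Submodule.smul_induction_on (p := fun x ↦ x ∈ LinearMap.range (jmap p F))
      ((Submodule.Quotient.mk_eq_zero _).mp h1)
      (fun c hc m _ ↦ ⟨m ⊗ₜ ⟨c, hc⟩, jmap_tmul p F m _⟩) (fun a b ha hb ↦ add_mem ha hb)
  let Y : Submodule A (F ⊗[A] p) := N'.comap (jmap p F)
  let q : Y →ₗ[A] N' := (jmap p F).restrict fun _ h ↦ h
  have hq : Function.Surjective q := fun y ↦ by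
    obtain ⟨w, hw⟩ := hN' y.2
    exact ⟨⟨w, show jmap p F w ∈ N' by rw [hw]; exact y.2⟩, Subtype.ext hw⟩
  let incl : LinearMap.ker ql →ₗ[A] N' :=
    (L.subtype.comp (LinearMap.ker ql).subtype).codRestrict N' fun l ↦ ⟨l.1, l.2, rfl⟩
  obtain ⟨y, hy⟩ := LinearMap.rTensor_surjective R hq (incl.rTensor R u')
  let v' : (F ⊗[A] p) ⊗[A] R := f ^ n • v - Y.subtype.rTensor R y
  have hv' : (jmap p F).rTensor R v' = 0 := by
    rw [map_sub, map_smul, ← LinearMap.rTensor_comp_apply, sub_eq_zero,
      show jmap p F ∘ₗ Y.subtype = N'.subtype ∘ₗ q from rfl, LinearMap.rTensor_comp_apply, hy,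
      ← LinearMap.rTensor_comp_apply,
      show N'.subtype ∘ₗ incl = L.subtype ∘ₗ (LinearMap.ker ql).subtype from rfl,
      LinearMap.rTensor_comp_apply, hu', map_smul, hu]
  rw [rTensor_jmap] at hv'
  obtain ⟨w₀, hw₀⟩ := (Module.Flat.lTensor_exact (M := F)
    (LinearMap.exact_subtype_ker_map (pmul p R)) _).mp hv'
  let k : Y →ₗ[A] LinearMap.ker (jmap p M) := (πp.comp Y.subtype).codRestrict _ fun y ↦ by
    obtain ⟨l, -, hl⟩ := y.2
    rw [LinearMap.mem_ker]
    show (jmap p M ∘ₗ πp) y.1 = 0
    rw [hj, LinearMap.comp_apply, ← hl]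
    exact l.2
  refine ⟨n, k.rTensor R y, π.rTensor _ w₀, ?_⟩
  rw [← LinearMap.rTensor_comp_apply, show (LinearMap.ker (jmap p M)).subtype ∘ₗ k = πp ∘ₗ Y.subtype
    from rfl, LinearMap.rTensor_comp_apply, ← map_smul]
  have e : (TensorProduct.assoc A M p R).symm ((LinearMap.ker (pmul p R)).subtype.lTensor M
      (π.rTensor _ w₀)) = πp.rTensor R v' := by
    rw [show v' = (TensorProduct.assoc A F p R).symm (TensorProduct.assoc A F p R v') from
      ((TensorProduct.assoc A F p R).symm_apply_apply v').symm, ← hw₀]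
    clear hw₀
    induction w₀ using TensorProduct.induction_on with
    | zero => simp
    | add a b ha hb => simp only [map_add, ha, hb]
    | tmul a b =>
      simp only [LinearMap.rTensor_tmul, LinearMap.lTensor_tmul]
      generalize ((LinearMap.ker (pmul p R)).subtype b) = c
      induction c using TensorProduct.induction_on with
      | zero => simp
      | add c d hc hd => simp only [tmul_add, map_add, hc, hd]
      | tmul c d => simp [πp]
  rw [e, ← map_add]
  simp [v', πp]

end FlatLib
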