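import Groth.Agent.FlatLib.BaseChange
import Groth.Agent.FlatLib.Cover
import Groth.Agent.FlatLib.Openness
import Mathlib

/-! The flatness criterion at a Noetherian stage. -/

set_option autoImplicit false
universe u

open TensorProduct LinearMap

namespace FlatLib

/-- Generic freeness modulo a prime. -/
theorem exists_free_away {R S M : Type u} [CommRing R] [CommRing S] [Algebra R S] [AddCommGroup M]
    [Module S M] [Module R M] [IsScalarTower R S M] [Algebra.FiniteType R S] [Module.Finite S M]
    (p : Ideal R) [p.IsPrime] :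
    ∃ f ∉ p, Module.Free (Localization.Away (Ideal.Quotient.mk p f))
      (Localization.Away (Ideal.Quotient.mk p f) ⊗[R] M) := by
  let J := p.map (algebraMap R S)
  let N := M ⧸ (J • ⊤ : Submodule S M)
  have hkill : Module.IsTorsionBySet R N (p : Set R) := by
    intro x r
    obtain ⟨m, rfl⟩ := Submodule.Quotient.mk_surjective _ x
    rw [← Submodule.Quotient.mk_smul, Submodule.Quotient.mk_eq_zero, ← algebraMap_smul S (r : R) m]
    exact Submodule.smul_mem_smul (Ideal.mem_map_of_mem _ r.2) Submodule.mem_top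
  letI : Module (R ⧸ p) N := hkill.module
  haveI : IsScalarTower R (R ⧸ p) N := hkill.isScalarTower
  haveI : Algebra.FiniteType (R ⧸ p) (S ⧸ J) :=
    Algebra.FiniteType.of_restrictScalars_finiteType R (R ⧸ p) (S ⧸ J)
  haveI : IsScalarTower (R ⧸ p) (S ⧸ J) N := IsScalarTower.of_algebraMap_smul fun c x ↦ by
    obtain ⟨r, rfl⟩ := Ideal.Quotient.mk_surjective c
    obtain ⟨m, rfl⟩ := Submodule.Quotient.mk_surjective _ x
    show Ideal.Quotient.mk J (algebraMap R S r) • Submodule.Quotient.mk m =
      Ideal.Quotient.mk p r • (Submodule.Quotient.mk m : N)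
    rw [← Ideal.Quotient.algebraMap_eq p, algebraMap_smul, ← Ideal.Quotient.algebraMap_eq J,
      algebraMap_smul, algebraMap_smul]
  haveI : Module.Finite (S ⧸ J) N := Module.Finite.of_restrictScalars_finite S _ _
  obtain ⟨f, hf, hfree⟩ := gfree_of_finite (R := R ⧸ p) (S ⧸ J) N
  obtain ⟨f, rfl⟩ := Ideal.Quotient.mk_surjective f
  refine ⟨f, fun h ↦ hf (Ideal.Quotient.eq_zero_iff_mem.mpr h), ?_⟩
  let L := Localization.Away (Ideal.Quotient.mk p f)
  let e₀ : (R ⧸ p) ⊗[R] M ≃ₗ[R] N :=
    TensorProduct.quotTensorEquivQuotSMul M p ≪≫ₗ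
      Submodule.quotEquivOfEq _ ((J • ⊤ : Submodule S M).restrictScalars R)
        (by rw [show J = p.map (algebraMap R S) from rfl, Ideal.smul_restrictScalars, Submodule.restrictScalars_top]) ≪≫ₗ (Submodule.Quotient.restrictScalarsEquiv R _)
  let e₁ : (R ⧸ p) ⊗[R] M ≃ₗ[R ⧸ p] N :=
    LinearEquiv.extendScalarsOfSurjective (R := R) (S := R ⧸ p) Ideal.Quotient.mk_surjective e₀
  have := hfree
  exact Module.Free.of_equiv ((AlgebraTensorModule.congr (LinearEquiv.refl L L) e₁.symm).trans
    (AlgebraTensorModule.cancelBaseChange R (R ⧸ p) L L M))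

variable {A M₀ R : Type u} [CommRing A] [AddCommGroup M₀] [Module A M₀] [CommRing R] [Algebra A R]

variable (R) in
/-- The ideal generated by `p`. -/
abbrev pI (p : Ideal A) : Ideal R := p.map (algebraMap A R)

variable (R) in
/-- The structure map `p → pR`. -/
noncomputable def gam (p : Ideal A) : p →ₗ[A] pI R p where
  toFun c := ⟨algebraMap A R c, Ideal.mem_map_of_mem _ c.2⟩
  map_add' a b := Subtype.ext (map_add _ _ _)
  map_smul' c a := Subtype.ext (by simp [Algebra.smul_def])

variable (R) in
/-- The multiplication `p ⊗ R → pR`. -/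
noncomputable def pmulI (p : Ideal A) : p ⊗[A] R →ₗ[A] pI R p :=
  TensorProduct.lift (LinearMap.mk₂ A (fun c r ↦ r • gam R p c)
    (fun a b r ↦ by rw [map_add, smul_add])
    (fun c a r ↦ by rw [map_smul, smul_comm])
    (fun a r s ↦ by rw [add_smul])
    (fun c a r ↦ by rw [smul_assoc]))

theorem pmulI_tmul (p : Ideal A) (c : p) (r : R) : pmulI R p (c ⊗ₜ r) = r • gam R p c := rfl

theorem coe_pmulI (p : Ideal A) (z : p ⊗[A] R) : (pmulI R p z : R) = pmul p R z := by
  induction z using TensorProduct.induction_on with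
  | zero => simp
  | add a b ha hb => simp only [map_add, Submodule.coe_add, ha, hb]
  | tmul c r => simp [pmulI_tmul, pmul, gam, Algebra.smul_def, mul_comm]

theorem pmulI_lTensor (p : Ideal A) (r : R) (z : p ⊗[A] R) :
    pmulI R p ((Algebra.lmul A R r).lTensor p z) = r • pmulI R p z := by
  induction z using TensorProduct.induction_on with
  | zero => simp
  | add a b ha hb => simp only [map_add, ha, hb, smul_add]
  | tmul c s => simp [pmulI_tmul, mul_smul]

theorem pmulI_surjective (p : Ideal A) : Function.Surjective (pmulI R p) := by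
  suffices ∀ x ∈ pI R p, ∃ z, (pmulI R p z : R) = x from fun y ↦
    (this y.1 y.2).imp fun z hz ↦ Subtype.ext hz
  intro x hx
  induction hx using Submodule.span_induction with
  | mem x hx =>
    obtain ⟨c, hc, rfl⟩ := hx
    exact ⟨(⟨c, hc⟩ : p) ⊗ₜ 1, by simp [pmulI_tmul, gam]⟩
  | zero => exact ⟨0, by simp⟩
  | add a b _ _ ha hb =>
    obtain ⟨za, hza⟩ := ha
    obtain ⟨zb, hzb⟩ := hb
    exact ⟨za + zb, by simp [hza, hzb]⟩
  | smul r a _ ha =>
    obtain ⟨za, hza⟩ := ha
    exact ⟨(Algebra.lmul A R r).lTensor p za, by rw [pmulI_lTensor]; simp [hza]⟩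

variable {S' M' : Type u} [CommRing S'] [Algebra R S'] [AddCommGroup M'] [Module A M'] [Module R M']
  [IsScalarTower A R M'] [Module S' M'] [IsScalarTower R S' M']

theorem kappa_pmulI (p : Ideal A) (ι : M₀ →ₗ[A] M') (z : M₀ ⊗[A] p) (r : R) :
    kappa (R' := R) ι (pI R p) ((pmulI R p).lTensor M₀ (TensorProduct.assoc A M₀ p R (z ⊗ₜ r))) =
      r • kappa (R' := R) ι (pI R p) ((gam R p).lTensor M₀ z) := by
  induction z using TensorProduct.induction_on with
  | zero => simp
  | add a b ha hb => simp only [add_tmul, map_add, ha, hb, smul_add]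
  | tmul m c =>
    simp only [TensorProduct.assoc_tmul, LinearMap.lTensor_tmul, kappa_tmul, pmulI_tmul, tmul_smul]

variable [IsNoetherianRing R] [Algebra.FiniteType R S'] [Module.Finite S' M'] [Algebra A S']
  [IsScalarTower A R S']

/-- The stage criterion for flatness. -/
theorem mem_flatLocus_of_kill (ι : M₀ →ₗ[A] M') (hι : IsBaseChange R ι) (p : Ideal A) (f : A)
    (hfree : Module.Free (Localization.Away (Ideal.Quotient.mk p f))
      (Localization.Away (Ideal.Quotient.mk p f) ⊗[A] M₀))
    (q : PrimeSpectrum S') (hpq : pI R p ≤ q.asIdeal.comap (algebraMap R S'))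
    (hfq : algebraMap A S' f ∉ q.asIdeal) (t : S') (ht : t ∉ q.asIdeal)
    (hkill : ∀ k : M₀ ⊗[A] p, jmap p M₀ k = 0 →
      t • kappa (R' := R) ι (pI R p) ((gam R p).lTensor M₀ k) = 0) :
    q ∈ flatLocus R S' M' := by
  have : IsNoetherianRing S' := Algebra.FiniteType.isNoetherianRing R S'
  let T := q.asIdeal.primeCompl
  let Sq := Localization.AtPrime q.asIdeal
  haveI : IsScalarTower R Sq (LocalizedModule T M') :=
    IsScalarTower.of_algebraMap_smul fun r x ↦ by
      rw [IsScalarTower.algebraMap_apply R S' Sq, algebraMap_smul, algebraMap_smul]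
  haveI : Module.Finite Sq (LocalizedModule T M') :=
    Module.Finite.of_isLocalizedModule T (LocalizedModule.mkLinearMap T M')
  refine FlatCrit.flat_of_injective_of_flat_quotient (S := Sq) (pI R p) ?_ ?_ ?_
  · rw [IsLocalRing.jacobson_eq_maximalIdeal _ bot_ne_top, ← Localization.AtPrime.map_eq_maximalIdeal,
      IsScalarTower.algebraMap_eq R S' Sq, ← Ideal.map_map]
    exact Ideal.map_mono (Ideal.map_le_iff_le_comap.mpr hpq)
  · refine (injective_lTensor_localized_iff T (LocalizedModule.mkLinearMap T M')
      (pI R p).subtype).mpr fun x hx ↦ ?_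
    obtain ⟨y, rfl⟩ := (kappa_bijective (R' := R) ι (pI R p) hι).2 x
    rw [← kappa_lTensor] at hx
    have hy := (kappa_bijective (R' := R) ι R hι).1 (hx.trans (map_zero _).symm)
    obtain ⟨z', rfl⟩ := LinearMap.lTensor_surjective M₀ (pmulI_surjective p) y
    let z := (TensorProduct.assoc A M₀ p R).symm z'
    have hz : (jmap p M₀).rTensor R z = 0 := by
      rw [rTensor_jmap, LinearEquiv.apply_symm_apply,
        show pmul p R = ((pI R p).subtype.restrictScalars A) ∘ₗ pmulI R p from
          LinearMap.ext fun w ↦ (coe_pmulI p w).symm, LinearMap.lTensor_comp_apply]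
      exact hy
    obtain ⟨n, k, w, hn⟩ := kernel_cover p M₀ R f hfree z hz
    refine ⟨t * algebraMap A S' f ^ n, q.isPrime.mul_notMem ht
      (fun h ↦ hfq (q.isPrime.mem_of_pow_mem n h)), ?_⟩
    have hdecomp : f ^ n • z' = TensorProduct.assoc A M₀ p R
        ((LinearMap.ker (jmap p M₀)).subtype.rTensor R k) +
        (LinearMap.ker (pmul p R)).subtype.lTensor M₀ w := by
      have := congr_arg (TensorProduct.assoc A M₀ p R) hn
      rwa [map_smul, map_add, LinearEquiv.apply_symm_apply, LinearEquiv.apply_symm_apply] at this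
    have hw : (pmulI R p).lTensor M₀ ((LinearMap.ker (pmul p R)).subtype.lTensor M₀ w) = 0 := by
      rw [← LinearMap.lTensor_comp_apply, show pmulI R p ∘ₗ (LinearMap.ker (pmul p R)).subtype = 0
        from LinearMap.ext fun v ↦ Subtype.ext (by
          rw [LinearMap.comp_apply, coe_pmulI]; exact v.2), LinearMap.lTensor_zero,
        LinearMap.zero_apply]
    rw [mul_smul, ← map_pow, IsScalarTower.algebraMap_apply A R S', algebraMap_smul, algebraMap_smul,
      ← map_smul (kappa (R' := R) ι (pI R p)), ← map_smul ((pmulI R p).lTensor M₀), hdecomp, map_add, hw,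
      add_zero]
    clear hn hdecomp hw
    induction k using TensorProduct.induction_on with
    | zero => simp
    | add a b ha hb => simp only [map_add, smul_add, ha, hb, add_zero]
    | tmul a r =>
      rw [LinearMap.rTensor_tmul, kappa_pmulI, smul_comm, Submodule.subtype_apply, hkill a.1 a.2,
        smul_zero]
  · let I := pI R p
    let f' : R ⧸ I := Ideal.Quotient.mk I (algebraMap A R f)
    let g : A ⧸ p →+* R ⧸ I := Ideal.quotientMap I (algebraMap A R) Ideal.le_comap_map
    let L := Localization.Away (Ideal.Quotient.mk p f)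
    let L' := Localization.Away f'
    haveI : IsLocalization.Away (g (Ideal.Quotient.mk p f)) L' := by
      rw [show g (Ideal.Quotient.mk p f) = f' from Ideal.quotientMap_mk]
      infer_instance
    let h : L →+* L' := IsLocalization.Away.map L L' g (Ideal.Quotient.mk p f)
    letI : Algebra L L' := h.toAlgebra
    haveI : IsScalarTower A L L' := IsScalarTower.of_algebraMap_eq fun a ↦ by
      rw [RingHom.algebraMap_toAlgebra, IsScalarTower.algebraMap_apply A (A ⧸ p) L]
      simp only [h, IsLocalization.Away.map, IsLocalization.map_eq, g]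
      rw [Ideal.Quotient.algebraMap_eq, Ideal.quotientMap_mk, ← Ideal.Quotient.algebraMap_eq,
        ← IsScalarTower.algebraMap_apply, ← IsScalarTower.algebraMap_apply]
    have := hfree
    have hflat : Module.Flat L' (L' ⊗[R] M') :=
      Module.Flat.of_linearEquiv ((AlgebraTensorModule.congr (LinearEquiv.refl L' L') hι.equiv.symm).trans
        ((AlgebraTensorModule.cancelBaseChange A R L' L' M₀).trans
          (AlgebraTensorModule.cancelBaseChange A L L' L' M₀).symm))
    let T' := q.asIdeal.primeCompl
    exact flat_quotient_localized I (algebraMap A R f) T'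
      (by rw [← IsScalarTower.algebraMap_apply]; exact hfq) hflat

end FlatLib
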