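import Groth.Agent.FlatCrit.Quotient
import Mathlib

/-! The fibrewise criterion of flatness for Noetherian local rings. -/

set_option autoImplicit false
universe u

open TensorProduct LinearMap

namespace FlatLib

variable {R S S' M : Type u} [CommRing R] [CommRing S] [CommRing S'] [Algebra R S] [Algebra S S']
  [AddCommGroup M] [Module S' M] [Module S M] [Module R M] [IsScalarTower S S' M] [IsScalarTower R S M]
  [Module.Flat R M]

/-- Injectivity of `M ⊗[S] IS → M` when `M` is flat over `R`. -/
theorem injective_lTensor_map (I : Ideal R) :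
    Function.Injective ((I.map (algebraMap R S)).subtype.lTensor M) := by
  let J := I.map (algebraMap R S)
  let γ : I →ₗ[R] J :=
    ((Algebra.linearMap R S).comp (Submodule.subtype (I : Submodule R R))).codRestrict
      (J.restrictScalars R) fun c ↦ Ideal.mem_map_of_mem _ c.2
  let β : M ⊗[R] I →ₗ[R] M ⊗[S] J := TensorProduct.lift (LinearMap.mk₂ R (fun m c ↦ m ⊗ₜ[S] γ c)
    (fun a b c ↦ add_tmul _ _ _) (fun r a c ↦ smul_tmul' r a _ |>.symm)
    (fun a c d ↦ by rw [map_add, tmul_add]) (fun r a c ↦ by
      rw [map_smul, ← algebraMap_smul S r (γ c), ← algebraMap_smul S r (a ⊗ₜ[S] γ c), tmul_smul]))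
  have hsurj : Function.Surjective β := by
    intro x
    induction x using TensorProduct.induction_on with
    | zero => exact ⟨0, map_zero _⟩
    | add a b ha hb =>
      obtain ⟨za, rfl⟩ := ha
      obtain ⟨zb, rfl⟩ := hb
      exact ⟨za + zb, map_add _ _ _⟩
    | tmul m j =>
      obtain ⟨j, hj⟩ := j
      induction hj using Submodule.span_induction generalizing m with
      | mem j hj =>
        obtain ⟨c, hc, rfl⟩ := hj
        exact ⟨m ⊗ₜ ⟨c, hc⟩, rfl⟩
      | zero =>
        exact ⟨0, by rw [map_zero]; exact (tmul_zero (R := S) J m).symm⟩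
      | add a b ha hb iha ihb =>
        obtain ⟨za, hza⟩ := iha m
        obtain ⟨zb, hzb⟩ := ihb m
        exact ⟨za + zb, by rw [map_add, hza, hzb, ← tmul_add]; rfl⟩
      | smul s a ha iha =>
        obtain ⟨za, hza⟩ := iha (s • m)
        exact ⟨za, by rw [hza, smul_tmul]; rfl⟩
  have hcomm : ∀ z, TensorProduct.rid S M (J.subtype.lTensor M (β z)) =
      TensorProduct.rid R M ((Submodule.subtype (I : Submodule R R)).lTensor M z) := fun z ↦ by
    induction z using TensorProduct.induction_on with
    | zero => simp
    | add a b ha hb => simp only [map_add, ha, hb]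
    | tmul m c => simp [β, γ]; exact algebraMap_smul S (c : R) m
  intro x y h
  obtain ⟨x, rfl⟩ := hsurj x
  obtain ⟨y, rfl⟩ := hsurj y
  congr 1
  refine Module.Flat.lTensor_preserves_injective_linearMap (Submodule.subtype (I : Submodule R R))
    Subtype.val_injective ((TensorProduct.rid R M).injective ?_)
  rw [← hcomm, ← hcomm, h]

/-- Flatness descends along a faithfully flat module. -/
theorem flat_of_faithfullyFlat_module [Module.FaithfullyFlat S M] : Module.Flat R S := by
  refine Module.Flat.iff_lTensor_injective.mpr fun a _ ↦ ?_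
  let f := AlgebraTensorModule.lTensor S S (Submodule.subtype (a : Submodule R R))
  suffices Function.Injective f from this
  rw [← Module.FaithfullyFlat.lTensor_injective_iff_injective S M f]
  let e₁ := AlgebraTensorModule.cancelBaseChange R S S M a
  let e₂ := AlgebraTensorModule.cancelBaseChange R S S M R
  have hcomm : ∀ z, e₂ (f.lTensor M z) = (Submodule.subtype (a : Submodule R R)).lTensor M (e₁ z) :=
    fun z ↦ by
    induction z using TensorProduct.induction_on with
    | zero => simp
    | add a b ha hb => simp only [map_add, ha, hb]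
    | tmul m w =>
      induction w using TensorProduct.induction_on with
      | zero => simp
      | add a b ha hb => simp only [tmul_add, map_add, ha, hb]
      | tmul s c => simp [e₁, e₂, f]
  intro x y h
  exact e₁.injective (Module.Flat.lTensor_preserves_injective_linearMap
    (Submodule.subtype (a : Submodule R R)) Subtype.val_injective (by rw [← hcomm, ← hcomm, h]))

variable [IsLocalRing R] [IsLocalRing S] [IsLocalRing S'] [IsLocalHom (algebraMap R S)]
  [IsLocalHom (algebraMap S S')] [Module.Finite S' M] [Nontrivial M]

omit [Module R M] [IsScalarTower R S M] [Module.Flat R M] [IsLocalRing R]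
  [IsLocalHom (algebraMap R S)] in
include S' in
theorem faithfullyFlat_of_flat_local [Module.Flat S M] : Module.FaithfullyFlat S M := by
  refine ⟨fun m hm htop ↦ ?_⟩
  obtain rfl := IsLocalRing.eq_maximalIdeal hm
  let J := (IsLocalRing.maximalIdeal S).map (algebraMap S S')
  have h1 : (⊤ : Submodule S' M) ≤ IsLocalRing.maximalIdeal S' • ⊤ := fun x _ ↦ by
    have hx : x ∈ (J • ⊤ : Submodule S' M).restrictScalars S := by
      rw [Ideal.smul_restrictScalars, Submodule.restrictScalars_top, htop]
      trivial
    have hJ : J ≤ IsLocalRing.maximalIdeal S' := Ideal.map_le_iff_le_comap.mpr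
      fun c hc ↦ (IsLocalRing.mem_maximalIdeal _).mpr fun hu ↦
        (IsLocalRing.mem_maximalIdeal c).mp hc (isUnit_of_map_unit (algebraMap S S') c hu)
    exact Submodule.smul_mono_left hJ hx
  exact top_ne_bot (Submodule.eq_bot_of_le_smul_of_le_jacobson_bot _ _ Module.Finite.fg_top h1
    (by rw [IsLocalRing.jacobson_eq_maximalIdeal _ bot_ne_top]))

/-- The fibrewise criterion of flatness, Noetherian local form. -/
theorem flat_and_flat_of_fibre [IsNoetherianRing S] [IsNoetherianRing S']
    (h : Module.Flat (S ⧸ (IsLocalRing.maximalIdeal R).map (algebraMap R S))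
      ((S ⧸ (IsLocalRing.maximalIdeal R).map (algebraMap R S)) ⊗[S] M)) :
    Module.Flat R S ∧ Module.Flat S M := by
  let J := (IsLocalRing.maximalIdeal R).map (algebraMap R S)
  have hJ : J ≤ IsLocalRing.maximalIdeal S := Ideal.map_le_iff_le_comap.mpr
    fun c hc hu ↦ hc (isUnit_of_map_unit (algebraMap R S) c hu)
  have hflat : Module.Flat S M := FlatCrit.flat_of_injective_of_flat_quotient (S := S') J
    (by
      rw [IsLocalRing.jacobson_eq_maximalIdeal _ bot_ne_top, Ideal.map_le_iff_le_comap]
      exact fun c hc hu ↦ hJ hc (isUnit_of_map_unit (algebraMap S S') c hu))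
    (injective_lTensor_map _) h
  have := faithfullyFlat_of_flat_local (S := S) (S' := S') (M := M)
  exact ⟨flat_of_faithfullyFlat_module (M := M), hflat⟩

end FlatLib
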