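import Groth.Agent.FlatCrit.Quotient
import Groth.Agent.FlatLib.FibreLocal
import Groth.Agent.FlatLib.BaseChange
import Mathlib

/-! Assorted flatness criteria. -/

set_option autoImplicit false
universe u

open TensorProduct

namespace FlatLib

theorem lTensor_injective_of_flat_coker_aux {R K L P : Type u} [CommRing R] [AddCommGroup K] [Module R K]
    [AddCommGroup L] [Module R L] [AddCommGroup P] [Module R P] [Module.Flat R P] (f : K →ₗ[R] L)
    (g : L →ₗ[R] P) (hf : Function.Injective f) (hex : Function.Exact f g) (hg : Function.Surjective g)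
    {X F J : Type u} [AddCommGroup X] [Module R X] [AddCommGroup F] [Module R F] [Module.Flat R F]
    [AddCommGroup J] [Module R J] (i : J →ₗ[R] F) (hi : Function.Injective i) (p : F →ₗ[R] X)
    (hexp : Function.Exact i p) (hp : Function.Surjective p) : Function.Injective (f.rTensor X) := by
  refine (injective_iff_map_eq_zero _).mpr fun x hx ↦ ?_
  obtain ⟨y, rfl⟩ := LinearMap.lTensor_surjective K hp x
  have h1 : p.lTensor L (f.rTensor _ y) = 0 := by
    rw [← LinearMap.comp_apply, LinearMap.lTensor_comp_rTensor, ← LinearMap.rTensor_comp_lTensor,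
      LinearMap.comp_apply]
    exact hx
  obtain ⟨w, hw⟩ := (lTensor_exact L hexp hp _).mp h1
  have h2 : g.rTensor J w = 0 := by
    refine Module.Flat.lTensor_preserves_injective_linearMap (M := P) i hi ?_
    rw [map_zero, ← LinearMap.comp_apply, LinearMap.lTensor_comp_rTensor,
      ← LinearMap.rTensor_comp_lTensor, LinearMap.comp_apply, hw, ← LinearMap.comp_apply,
      ← LinearMap.rTensor_comp, hex.linearMap_comp_eq_zero, LinearMap.rTensor_zero, LinearMap.zero_apply]
  obtain ⟨v, rfl⟩ := (rTensor_exact _ hex hg w).mp h2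
  have h3 : y = i.lTensor K v := by
    refine Module.Flat.rTensor_preserves_injective_linearMap (M := F) f hf ?_
    rw [← hw, ← LinearMap.comp_apply, ← LinearMap.comp_apply, LinearMap.lTensor_comp_rTensor,
      LinearMap.rTensor_comp_lTensor]
  rw [h3, ← LinearMap.comp_apply, ← LinearMap.lTensor_comp,
    hexp.linearMap_comp_eq_zero, LinearMap.lTensor_zero, LinearMap.zero_apply]

/-- Tensoring keeps a short exact sequence with flat cokernel exact on the left. -/
theorem lTensor_injective_of_flat_coker {R K L P : Type u} [CommRing R] [AddCommGroup K] [Module R K]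
    [AddCommGroup L] [Module R L] [AddCommGroup P] [Module R P] [Module.Flat R P] (f : K →ₗ[R] L)
    (g : L →ₗ[R] P) (hf : Function.Injective f) (hex : Function.Exact f g) (hg : Function.Surjective g)
    (X : Type u) [AddCommGroup X] [Module R X] : Function.Injective (f.rTensor X) :=
  lTensor_injective_of_flat_coker_aux f g hf hex hg (J := LinearMap.ker (Finsupp.linearCombination R (id : X → X)))
    (LinearMap.ker (Finsupp.linearCombination R (id : X → X))).subtype Subtype.val_injective
    (Finsupp.linearCombination R (id : X → X)) (LinearMap.exact_subtype_ker_map _)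
    (fun y ↦ ⟨Finsupp.single y 1, by simp⟩)

theorem free_and_flat_of_free_fibre {R S M : Type u} [CommRing R] [CommRing S] [IsLocalRing R]
    [IsLocalRing S] [IsNoetherianRing S] [Algebra R S] [IsLocalHom (algebraMap R S)] [AddCommGroup M]
    [Module R M] [Module S M] [IsScalarTower R S M] [Module.Finite S M] [Nontrivial M] [Module.Flat R M]
    (h : Module.Free (S ⧸ ((IsLocalRing.maximalIdeal R).map (algebraMap R S)))
      ((S ⧸ ((IsLocalRing.maximalIdeal R).map (algebraMap R S))) ⊗[S] M)) :
    Module.Free S M ∧ Module.Flat R S := by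
  haveI := h
  haveI : IsLocalHom (algebraMap S S) := ⟨fun _ h ↦ h⟩
  obtain ⟨h1, h2⟩ := flat_and_flat_of_fibre (R := R) (S := S) (S' := S) (M := M) inferInstance
  exact ⟨Module.free_of_flat_of_isLocalRing, h1⟩

theorem flat_of_flat_away_of_flat_quotient {A M : Type u} [CommRing A] [AddCommGroup M] [Module A M]
    (f : A) (hA : f ∈ nonZeroDivisors A) (hM : IsSMulRegular M f)
    [Module.Flat (Localization.Away f) (LocalizedModule (Submonoid.powers f) M)]
    (h2 : Module.Flat (A ⧸ Ideal.span {f}) ((A ⧸ Ideal.span {f}) ⊗[A] M)) : Module.Flat A M := by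
  have hspan : Function.Injective (LinearMap.lTensor M (Ideal.span {f} : Ideal A).subtype) := by
    let e : A →ₗ[A] (Ideal.span {f} : Ideal A) :=
      LinearMap.toSpanSingleton A _ ⟨f, Ideal.mem_span_singleton_self f⟩
    have he : Function.Surjective e := fun y ↦ by
      obtain ⟨a, ha⟩ := Ideal.mem_span_singleton'.mp y.2
      exact ⟨a, Subtype.ext (by simpa [e] using ha)⟩
    refine (injective_iff_map_eq_zero _).mpr fun z hz ↦ ?_
    obtain ⟨w, rfl⟩ := LinearMap.lTensor_surjective M he z
    obtain ⟨m, rfl⟩ := (TensorProduct.rid A M).symm.surjective w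
    have hz' := congr_arg (TensorProduct.rid A M) hz
    simp [e] at hz'
    rw [show m = 0 from hM (hz'.trans (smul_zero f).symm)]
    simp
  refine Module.Flat.iff_lTensor_injective'.mpr fun a ↦ (injective_iff_map_eq_zero _).mpr fun t ht ↦ ?_
  haveI : Module.Flat A (LocalizedModule (Submonoid.powers f) M) :=
    (Module.flat_iff_of_isLocalization (Localization.Away f) (Submonoid.powers f) _).mp inferInstance
  obtain ⟨_, ⟨n, rfl⟩, hn⟩ := (flat_localized_iff (R := A) (S := A) (Submonoid.powers f)
    (LocalizedModule.mkLinearMap (Submonoid.powers f) M)).mp inferInstance A a t ht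
  replace hn : f ^ n • t = 0 := hn
  induction n with
  | zero => rwa [pow_zero, one_smul] at hn
  | succ n ih =>
    rw [pow_succ', mul_smul] at hn
    exact ih (FlatCrit.smul_tensor_ideal_injective hA hspan h2 a _ hn)

/-- The Artinian local case of descent of flatness along an injective map. -/
theorem flat_of_baseChange_flat_artinian_local {R S M : Type u} [CommRing R] [CommRing S]
    [IsArtinianRing R] [IsLocalRing R] [Algebra R S] (hinj : Function.Injective (algebraMap R S))
    [AddCommGroup M] [Module R M] [Module.Flat S (S ⊗[R] M)] : Module.Flat R M := by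
  let κ := IsLocalRing.ResidueField R
  let 𝔪 := IsLocalRing.maximalIdeal R
  obtain ⟨n, hn⟩ : IsNilpotent 𝔪 := by
    rw [show 𝔪 = Ideal.jacobson ⊥ from (IsLocalRing.jacobson_eq_maximalIdeal _ bot_ne_top).symm]
    exact IsArtinianRing.isNilpotent_jacobson_bot
  let b := Module.Free.chooseBasis κ (κ ⊗[R] M)
  have hlift : ∀ v, ∃ x : M, (1 : κ) ⊗ₜ[R] x = b v := fun v ↦
    TensorProduct.mk_surjective R M κ IsLocalRing.residue_surjective (b v)
  choose x hx using hlift
  let F := Module.Free.ChooseBasisIndex κ (κ ⊗[R] M) →₀ R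
  let φ : F →ₗ[R] M := Finsupp.linearCombination R x
  have hφκ : ∀ c : F, (1 : κ) ⊗ₜ[R] φ c =
      Finsupp.linearCombination κ b (c.mapRange (algebraMap R κ) (map_zero _)) := by
    intro c
    induction c using Finsupp.induction_linear with
    | zero => simp
    | add a b ha hb => rw [map_add, tmul_add, ha, hb, Finsupp.mapRange_add (by simp), map_add]
    | single v r =>
      simp only [φ]
      rw [Finsupp.mapRange_single, Finsupp.linearCombination_single, Finsupp.linearCombination_single, tmul_smul, hx, algebraMap_smul]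
  have hker : LinearMap.ker φ ≤ 𝔪 • ⊤ := fun c hc ↦ by
    have h0 : Finsupp.linearCombination κ b (c.mapRange (algebraMap R κ) (map_zero _)) = 0 := by
      rw [← hφκ, LinearMap.mem_ker.mp hc, tmul_zero]
    have h1 := linearIndependent_iff.mp b.linearIndependent _ h0
    rw [← Finsupp.sum_single c]
    refine Submodule.sum_mem _ fun v _ ↦ ?_
    have hv : c v ∈ 𝔪 := by
      rw [← IsLocalRing.residue_eq_zero_iff]
      exact DFunLike.congr_fun h1 v
    rw [show Finsupp.single v (c v) = c v • Finsupp.single v (1 : R) by rw [Finsupp.smul_single, smul_eq_mul, mul_one]]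
    exact Submodule.smul_mem_smul hv Submodule.mem_top
  have hsurj : Function.Surjective φ := by
    have hstep : (⊤ : Submodule R M) ≤ LinearMap.range φ ⊔ 𝔪 • ⊤ := fun m _ ↦ by
      obtain ⟨c, hc⟩ := (Finsupp.mapRange_surjective (algebraMap R κ) (map_zero _)
        IsLocalRing.residue_surjective) (b.repr ((1 : κ) ⊗ₜ[R] m))
      have h0 : (1 : κ) ⊗ₜ[R] φ c = (1 : κ) ⊗ₜ[R] m := by
        rw [hφκ, hc]; exact b.linearCombination_repr _
      have h1 : m - φ c ∈ 𝔪 • (⊤ : Submodule R M) := by
        rw [← Submodule.Quotient.mk_eq_zero, ← quotTensorEquivQuotSMul_mk_one_tmul]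
        rw [show ((1 : R ⧸ 𝔪) ⊗ₜ[R] (m - φ c)) = 0 by rw [tmul_sub, sub_eq_zero]; exact h0.symm, map_zero]
      exact Submodule.mem_sup.mpr ⟨φ c, ⟨c, rfl⟩, _, h1, by abel⟩
    have hk : ∀ k : ℕ, (⊤ : Submodule R M) ≤ LinearMap.range φ ⊔ 𝔪 ^ k • ⊤ := by
      intro k
      induction k with
      | zero => rw [pow_zero, Ideal.one_eq_top, Submodule.top_smul, sup_top_eq]
      | succ k ih =>
        refine ih.trans (sup_le le_sup_left ((Submodule.smul_mono le_rfl hstep).trans ?_))
        rw [Submodule.smul_sup, ← Submodule.mul_smul, ← pow_succ]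
        exact sup_le_sup_right Submodule.smul_le_right _
    intro m
    have := hk n (Submodule.mem_top (x := m))
    rw [hn, Submodule.zero_eq_bot, Submodule.bot_smul, sup_bot_eq] at this
    exact this
  let φS : S ⊗[R] F →ₗ[S] S ⊗[R] M := φ.baseChange S
  have hφS : Function.Surjective φS := LinearMap.lTensor_surjective S hsurj
  let K := LinearMap.ker φS
  let J := 𝔪.map (algebraMap R S)
  have hexR := LinearMap.exact_subtype_ker_map φ
  have hKJ : ∀ z ∈ K, z ∈ J • (⊤ : Submodule S (S ⊗[R] F)) := by
    intro z hz
    obtain ⟨w, rfl⟩ := (lTensor_exact S (M := LinearMap.ker φ) (f := (LinearMap.ker φ).subtype) hexR hsurj z).mp (LinearMap.mem_ker.mp hz)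
    clear hz
    induction w using TensorProduct.induction_on with
    | zero => simp
    | add a c ha hc => rw [map_add]; exact add_mem ha hc
    | tmul s k =>
      rw [LinearMap.lTensor_tmul]
      refine Submodule.smul_induction_on (p := fun y ↦ s ⊗ₜ[R] y ∈ J • (⊤ : Submodule S (S ⊗[R] F)))
        (hker k.2) (fun r hr y _ ↦ ?_) (fun a c ha hc ↦ by rw [tmul_add]; exact add_mem ha hc)
      rw [tmul_smul, ← algebraMap_smul S r]
      exact Submodule.smul_mem_smul (Ideal.mem_map_of_mem _ hr) Submodule.mem_top
  have hKK : K ≤ J • K := by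
    intro z hz
    have hex : Function.Exact K.subtype φS := LinearMap.exact_subtype_ker_map φS
    have hinj' := lTensor_injective_of_flat_coker (K := K) (L := S ⊗[R] F) (f := K.subtype) φS Subtype.val_injective hex hφS (S ⧸ J)
    let e := TensorProduct.tensorQuotEquivQuotSMul K J
    have h0 : (⟨z, hz⟩ : K) ⊗ₜ[S] (1 : S ⧸ J) = 0 := by
      refine hinj' ?_
      rw [map_zero, LinearMap.rTensor_tmul]
      refine (TensorProduct.tensorQuotEquivQuotSMul (S ⊗[R] F) J).injective ?_
      rw [map_zero, ← map_one (Ideal.Quotient.mk J), TensorProduct.tensorQuotEquivQuotSMul_tmul_mk, one_smul,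
        Submodule.Quotient.mk_eq_zero]
      exact hKJ z hz
    have h1 := congr_arg e h0
    rw [map_zero, ← map_one (Ideal.Quotient.mk J), TensorProduct.tensorQuotEquivQuotSMul_tmul_mk, one_smul,
      Submodule.Quotient.mk_eq_zero] at h1
    have h2 := Submodule.mem_map_of_mem (f := K.subtype) h1
    rw [Submodule.map_smul'', Submodule.map_top, Submodule.range_subtype] at h2
    exact h2
  have hK : K = ⊥ := by
    have : ∀ k : ℕ, K ≤ J ^ k • K := by
      intro k
      induction k with
      | zero => rw [pow_zero, Ideal.one_eq_top, Submodule.top_smul]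
      | succ k ih =>
        exact ih.trans ((Submodule.smul_mono le_rfl hKK).trans (by rw [← Submodule.mul_smul, ← pow_succ]))
    refine eq_bot_iff.mpr ((this n).trans ?_)
    rw [← Ideal.map_pow, hn, Submodule.zero_eq_bot, Ideal.map_bot, Submodule.bot_smul]
  refine Module.Flat.of_linearEquiv (LinearEquiv.ofBijective φ ⟨?_, hsurj⟩).symm
  refine (injective_iff_map_eq_zero φ).mpr fun c hc ↦ ?_
  have h1 : (1 : S) ⊗ₜ[R] c ∈ K := by
    rw [LinearMap.mem_ker, LinearMap.baseChange_tmul, hc, tmul_zero]
  rw [hK, Submodule.mem_bot] at h1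
  refine (TensorProduct.lid R F).symm.injective ?_
  refine Module.Flat.rTensor_preserves_injective_linearMap (M := F) (Algebra.linearMap R S) hinj ?_
  simpa using h1

set_option maxSynthPendingDepth 6 in
theorem flat_of_baseChange_flat_artinian {R S M : Type u} [CommRing R] [CommRing S]
    [IsArtinianRing R] [Algebra R S] (hinj : Function.Injective (algebraMap R S))
    [AddCommGroup M] [Module R M] [Module.Flat S (S ⊗[R] M)] : Module.Flat R M := by
  refine Module.flat_of_localized_maximal (R := R) (M := M) (fun P hP ↦ ?_)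
  haveI := hP.isPrime
  let Rm := Localization.AtPrime P
  let S' := Rm ⊗[R] S
  letI : Algebra S S' := Algebra.TensorProduct.rightAlgebra
  haveI : IsScalarTower R S S' := Algebra.TensorProduct.right_isScalarTower
  have hinj' : Function.Injective (algebraMap Rm S') := fun a b hab ↦ by
    haveI : Module.Flat R Rm := IsLocalization.flat Rm P.primeCompl
    have h := Module.Flat.lTensor_preserves_injective_linearMap (M := Rm) (Algebra.linearMap R S) hinj
    refine (TensorProduct.rid R Rm).symm.injective (h ?_)
    simp only [TensorProduct.rid_symm_apply, LinearMap.lTensor_tmul, Algebra.linearMap_apply, map_one]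
    exact hab
  haveI : Module.Flat S' (S' ⊗[Rm] (Rm ⊗[R] M)) :=
    Module.Flat.of_linearEquiv ((AlgebraTensorModule.cancelBaseChange R Rm S' S' M).trans
      (AlgebraTensorModule.cancelBaseChange R S S' S' M).symm)
  have := flat_of_baseChange_flat_artinian_local (R := Rm) (S := S') (M := Rm ⊗[R] M) hinj'
  haveI : Module.Flat R Rm := IsLocalization.flat Rm P.primeCompl
  haveI : Module.Flat R (Rm ⊗[R] M) := Module.Flat.trans R Rm _
  exact Module.Flat.of_linearEquiv
    ((LocalizedModule.equivTensorProduct P.primeCompl M).restrictScalars R)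

end FlatLib

namespace FlatLib

set_option maxSynthPendingDepth 6 in
theorem flat_quotient_of_localized {R S M : Type u} [CommRing R] [CommRing S] [Algebra R S]
    [AddCommGroup M] [Module R M] [Module S M] [IsScalarTower R S M] {q : Ideal S} [q.IsPrime]
    (J : Ideal R) (h : Module.Flat (R ⧸ J) ((R ⧸ J) ⊗[R] M)) :
    Module.Flat (R ⧸ J) ((R ⧸ J) ⊗[R] LocalizedModule q.primeCompl M) := by
  let A := R ⧸ J
  let Mq := LocalizedModule q.primeCompl M
  let ι : M →ₗ[S] Mq := LocalizedModule.mkLinearMap q.primeCompl M
  let ψ : M ⊗[R] A →ₗ[S] Mq ⊗[R] A := AlgebraTensorModule.rTensor R A ι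
  haveI : IsLocalizedModule q.primeCompl ψ := inferInstance
  let eA : (M ⊗[R] A) ≃ₗ[R] A ⊗[R] M := TensorProduct.comm R M A
  let eB : (Mq ⊗[R] A) ≃ₗ[R] A ⊗[R] Mq := TensorProduct.comm R Mq A
  refine Module.Flat.iff_lTensor_injectiveₛ.mpr fun P _ _ N ↦ ?_
  letI : AddCommGroup P := Module.addCommMonoidToAddCommGroup A
  letI : Module R P := Module.compHom P (algebraMap R A)
  haveI : IsScalarTower R A P := IsScalarTower.of_algebraMap_smul fun _ _ ↦ rfl
  let e₁ := AlgebraTensorModule.cancelBaseChange R A A N Mq
  let e₂ := AlgebraTensorModule.cancelBaseChange R A A P Mq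
  have hkey : Function.Injective ((N.subtype.restrictScalars R).lTensor Mq) := by
    refine (injective_lTensor_localized_iff q.primeCompl ι (N.subtype.restrictScalars R)).mpr fun x hx ↦
      ⟨1, one_mem _, ?_⟩
    rw [one_smul]
    let f₁ := AlgebraTensorModule.cancelBaseChange R A A N M
    let f₂ := AlgebraTensorModule.cancelBaseChange R A A P M
    have hc : ∀ z, (N.subtype.restrictScalars R).lTensor M (TensorProduct.comm R N M (f₁ z)) =
        TensorProduct.comm R P M (f₂ (N.subtype.rTensor (A ⊗[R] M) z)) := fun z ↦ by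
      induction z using TensorProduct.induction_on with
      | zero => simp
      | add a b ha hb => simp only [map_add, ha, hb]
      | tmul n w =>
        induction w using TensorProduct.induction_on with
        | zero => simp
        | add a b ha hb => simp only [tmul_add, map_add, ha, hb]
        | tmul a m => rfl
    obtain ⟨y, rfl⟩ := (TensorProduct.comm R N M).surjective x
    obtain ⟨z, rfl⟩ := f₁.surjective y
    rw [hc] at hx
    have : z = 0 := by
      refine Module.Flat.rTensor_preserves_injective_linearMap (M := A ⊗[R] M) N.subtype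
        Subtype.val_injective ?_
      rw [map_zero]
      exact f₂.injective ((TensorProduct.comm R P M).injective (by rw [hx, map_zero, map_zero]))
    rw [this, map_zero, map_zero]
  have hc : ∀ z, (N.subtype.restrictScalars R).lTensor Mq (TensorProduct.comm R N Mq (e₁ z)) =
      TensorProduct.comm R P Mq (e₂ (TensorProduct.comm A (A ⊗[R] Mq) P
        (N.subtype.lTensor (A ⊗[R] Mq) (TensorProduct.comm A N (A ⊗[R] Mq) z)))) := fun z ↦ by
    induction z using TensorProduct.induction_on with
    | zero => simp
    | add a b ha hb => simp only [map_add, ha, hb]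
    | tmul n w =>
      induction w using TensorProduct.induction_on with
      | zero => simp
      | add a b ha hb => simp only [tmul_add, map_add, ha, hb]
      | tmul a m => rfl
  intro a b hab
  obtain ⟨a, rfl⟩ := (TensorProduct.comm A N (A ⊗[R] Mq)).surjective a
  obtain ⟨b, rfl⟩ := (TensorProduct.comm A N (A ⊗[R] Mq)).surjective b
  refine congr_arg _ (e₁.injective ((TensorProduct.comm R N Mq).injective (hkey ?_)))
  rw [hc, hc, hab]

end FlatLib
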