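import Groth.Agent.FlatLib.FlatMisc
import Groth.Agent.KFlatLib.AffinePull
import Groth.Agent.RichLib.IsFPAffine
import Mathlib

/-! Injectivity of the stalk maps of the pullback of a morphism of quasi-coherent modules. -/

set_option autoImplicit false
universe u

open CategoryTheory CategoryTheory.Limits AlgebraicGeometry TensorProduct

namespace FlatLib

/-- The stalk map of a morphism of modules is injective. -/
def StalkInj {X : Scheme.{u}} {F G : X.Modules} (u : F ⟶ G) (x : X) : Prop :=
  Function.Injective ((TopCat.Presheaf.stalkFunctor Ab x).map (Scheme.Modules.Hom.mapPresheaf u))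

theorem stalkInj_iff_mono {X : Scheme.{u}} {F G : X.Modules} (u : F ⟶ G) (x : X) :
    StalkInj u x ↔ Mono ((DerSch.stalkFunctor X x).map u) :=
  (ModuleCat.mono_iff_injective ((DerSch.stalkFunctor X x).map u)).symm

theorem mono_map_iff_of_natIso {C D : Type*} [Category C] [Category D] {F F' : C ⥤ D} (e : F ≅ F') {a b : C}
    (f : a ⟶ b) : Mono (F.map f) ↔ Mono (F'.map f) :=
  (MorphismProperty.monomorphisms D).arrow_mk_iso_iff (Arrow.isoMk (e.app a) (e.app b) (e.hom.naturality f).symm)

theorem stalkInj_natIso {P : Scheme.{u}} {X : Scheme.{u}} {Φ Φ' : X.Modules ⥤ P.Modules} (e : Φ ≅ Φ')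
    {F G : X.Modules} (u : F ⟶ G) (y : P) : StalkInj (Φ.map u) y ↔ StalkInj (Φ'.map u) y := by
  rw [stalkInj_iff_mono, stalkInj_iff_mono]
  exact mono_map_iff_of_natIso (Functor.isoWhiskerRight e (DerSch.stalkFunctor P y)) u

/-- Stalkwise injectivity is seen after pullback along an open immersion. -/
theorem stalkInj_pullback_openImmersion {P X : Scheme.{u}} (j : P ⟶ X) [IsOpenImmersion j] {F G : X.Modules}
    (u : F ⟶ G) (y : P) : StalkInj ((Scheme.Modules.pullback j).map u) y ↔ StalkInj u (j y) := by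
  rw [stalkInj_iff_mono, stalkInj_iff_mono]
  refine (mono_map_iff_of_natIso (KFlatLib.stalkPullIso j y) u).trans ?_
  show Mono ((ModuleCat.extendScalars.{u, u, u} (j.stalkMap y).hom).map ((DerSch.stalkFunctor X (j y)).map u)) ↔ _
  haveI : (ModuleCat.restrictScalars.{u} (j.stalkMap y).hom).IsEquivalence :=
    ModuleCat.restrictScalars_isEquivalence_of_ringEquiv (asIso (j.stalkMap y)).commRingCatIsoToRingEquiv
  haveI : (ModuleCat.extendScalars.{u, u, u} (j.stalkMap y).hom).IsEquivalence :=
    Adjunction.isEquivalence_left_of_isEquivalence_right (ModuleCat.extendRestrictScalarsAdj (j.stalkMap y).hom)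
  exact (ModuleCat.extendScalars.{u, u, u} (j.stalkMap y).hom).mono_map_iff_mono _

/-- Injectivity of a stalk map, on the sections over an affine open. -/
theorem stalkInj_iff_sections {X : Scheme.{u}} {F G : X.Modules} [Coh.IsQCoh F] [Coh.IsQCoh G] (u : F ⟶ G)
    {V : X.Opens} (hV : IsAffineOpen V) {x : X} (hx : x ∈ V) :
    StalkInj u x ↔ ∀ m : Γ(F, V), QCohLib.appLin u V m = 0 →
      ∃ t ∉ (hV.primeIdealOf ⟨x, hx⟩).asIdeal, t • m = 0 := by
  letI := Module.compHom (F.presheaf.stalk x) (X.presheaf.germ V x hx).hom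
  letI := Module.compHom (G.presheaf.stalk x) (X.presheaf.germ V x hx).hom
  haveI := isLocalizedModule_germLin F hV hx
  haveI := isLocalizedModule_germLin G hV hx
  let L := ((DerSch.stalkFunctor X x).map u).hom
  have hL : ∀ m, L (germLin F hx m) = germLin G hx (QCohLib.appLin u V m) := fun m =>
    TopCat.Presheaf.stalkFunctor_map_germ_apply V x hx (Scheme.Modules.Hom.mapPresheaf u) m
  constructor
  · intro h m hm
    have h0 : germLin F hx m = 0 := h (by
      show L (germLin F hx m) = L 0
      exact (hL m).trans (((congrArg (germLin G hx) hm).trans (map_zero _)).trans (map_zero L).symm))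
    obtain ⟨t, ht⟩ := (IsLocalizedModule.eq_zero_iff (hV.primeIdealOf ⟨x, hx⟩).asIdeal.primeCompl _).mp h0
    exact ⟨t, t.2, ht⟩
  · intro h
    refine (injective_iff_map_eq_zero L).mpr fun σ hσ => ?_
    obtain ⟨⟨m, t⟩, hm⟩ := IsLocalizedModule.surj (hV.primeIdealOf ⟨x, hx⟩).asIdeal.primeCompl (germLin F hx) σ
    have h2 : germLin G hx (QCohLib.appLin u V m) = 0 := by
      rw [← hL, ← hm]
      show L (X.presheaf.germ V x hx (t : Γ(X, V)) • σ) = 0
      rw [map_smul, hσ, smul_zero]
    obtain ⟨t', ht'⟩ := (IsLocalizedModule.eq_zero_iff (hV.primeIdealOf ⟨x, hx⟩).asIdeal.primeCompl _).mp h2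
    obtain ⟨s, hs, hs0⟩ := h ((t' : Γ(X, V)) • m) (by rw [map_smul]; exact ht')
    have h4 : germLin F hx m = 0 := by
      refine (IsLocalizedModule.eq_zero_iff (hV.primeIdealOf ⟨x, hx⟩).asIdeal.primeCompl _).mpr
        ⟨⟨s, hs⟩ * t', ?_⟩
      rw [Submonoid.smul_def, Submonoid.coe_mul, mul_smul]
      exact hs0
    rw [h4] at hm
    exact ((Module.End.isUnit_iff _).mp (IsLocalizedModule.map_units (germLin F hx) t)).1
      (hm.trans (map_zero _).symm)

/-- Stalkwise injective maps are injective on affine sections. -/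
theorem appLin_injective_of_stalkInj {X : Scheme.{u}} {F G : X.Modules} [Coh.IsQCoh F] [Coh.IsQCoh G] (u : F ⟶ G)
    {V : X.Opens} (hV : IsAffineOpen V) (h : ∀ x ∈ V, StalkInj u x) :
    Function.Injective (QCohLib.appLin u V) := by
  refine (injective_iff_map_eq_zero _).mpr fun m hm => ?_
  by_contra hne
  obtain ⟨P, hP, hle⟩ := Ideal.exists_le_maximal (LinearMap.ker (LinearMap.toSpanSingleton Γ(X, V) Γ(F, V) m))
    (fun htop => hne (by simpa using (LinearMap.mem_ker.mp (htop ▸ Submodule.mem_top :
      (1 : Γ(X, V)) ∈ LinearMap.ker (LinearMap.toSpanSingleton Γ(X, V) Γ(F, V) m)))))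
  obtain ⟨⟨x, hx⟩, hxP⟩ := hV.isoSpec.hom.surjective ⟨P, hP.isPrime⟩
  obtain ⟨t, ht, htm⟩ := (stalkInj_iff_sections u hV hx).mp (h x hx) m hm
  refine ht ?_
  rw [show hV.primeIdealOf ⟨x, hx⟩ = ⟨P, hP.isPrime⟩ from hxP]
  exact hle (LinearMap.mem_ker.mpr htm)

/-- Naturality of the pullback of sections. -/
theorem appLin_pullback_puSecLE {P X : Scheme.{u}} (g : P ⟶ X) {F G : X.Modules} (u : F ⟶ G) {V : X.Opens}
    {V' : P.Opens} (h : V' ≤ g ⁻¹ᵁ V) (m : Γ(F, V)) :
    QCohLib.appLin ((Scheme.Modules.pullback g).map u) V' (KFlatLib.puSecLE g F h m) =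
      KFlatLib.puSecLE g G h (QCohLib.appLin u V m) := by
  have hn := congrArg (fun φ : F ⟶ (Scheme.Modules.pushforward g).obj ((Scheme.Modules.pullback g).obj G) => φ.app V m)
    ((Scheme.Modules.pullbackPushforwardAdjunction g).unit.naturality u).symm
  refine (ConcreteCategory.congr_hom
    ((Scheme.Modules.Hom.mapPresheaf ((Scheme.Modules.pullback g).map u)).naturality (homOfLE h).op) _).trans ?_
  exact congrArg ((KFlatLib.pb g G).presheaf.map (homOfLE h).op) hn

/-- Injectivity of a stalk of a pullback, on affine charts. -/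
theorem stalkInj_pullback_iff {P X : Scheme.{u}} (g : P ⟶ X) {F G : X.Modules} [Coh.IsQCoh F] [Coh.IsQCoh G]
    (u : F ⟶ G) {V : X.Opens} (hV : IsAffineOpen V) {V' : P.Opens} (hV' : IsAffineOpen V') (h : V' ≤ g ⁻¹ᵁ V)
    {y : P} (hy : y ∈ V') :
    letI := (g.appLE V V' h).hom.toAlgebra
    StalkInj ((Scheme.Modules.pullback g).map u) y ↔
      ∀ z : Γ(P, V') ⊗[Γ(X, V)] Γ(F, V), (QCohLib.appLin u V).baseChange Γ(P, V') z = 0 →
        ∃ t ∉ (hV'.primeIdealOf ⟨y, hy⟩).asIdeal, t • z = 0 := by
  letI := (g.appLE V V' h).hom.toAlgebra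
  haveI : Coh.IsQCoh ((Scheme.Modules.pullback g).obj F) := KFlatLib.isQCoh_pullback g F
  haveI : Coh.IsQCoh ((Scheme.Modules.pullback g).obj G) := KFlatLib.isQCoh_pullback g G
  letI : Module Γ(X, V) Γ(KFlatLib.pb g F, V') := Module.compHom _ (g.appLE V V' h).hom
  haveI : IsScalarTower Γ(X, V) Γ(P, V') Γ(KFlatLib.pb g F, V') := IsScalarTower.of_algebraMap_smul fun _ _ => rfl
  letI : Module Γ(X, V) Γ(KFlatLib.pb g G, V') := Module.compHom _ (g.appLE V V' h).hom
  haveI : IsScalarTower Γ(X, V) Γ(P, V') Γ(KFlatLib.pb g G, V') := IsScalarTower.of_algebraMap_smul fun _ _ => rfl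
  let ψF : Γ(F, V) →ₗ[Γ(X, V)] Γ(KFlatLib.pb g F, V') :=
    { toFun := KFlatLib.puSecLE g F h, map_add' := map_add _
      map_smul' := fun r m => KFlatLib.puSecLE_smul g F h r m }
  let ψG : Γ(G, V) →ₗ[Γ(X, V)] Γ(KFlatLib.pb g G, V') :=
    { toFun := KFlatLib.puSecLE g G h, map_add' := map_add _
      map_smul' := fun r m => KFlatLib.puSecLE_smul g G h r m }
  have hF := KFlatLib.isBaseChange_puSec g F hV hV' h (fun _ => rfl) ψF fun _ => rfl
  have hG := KFlatLib.isBaseChange_puSec g G hV hV' h (fun _ => rfl) ψG fun _ => rfl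
  have hnat : ∀ z, QCohLib.appLin ((Scheme.Modules.pullback g).map u) V' (hF.equiv z) =
      hG.equiv ((QCohLib.appLin u V).baseChange Γ(P, V') z) := fun z => by
    induction z using TensorProduct.induction_on with
    | zero =>
      rw [map_zero, map_zero, map_zero]
      exact (map_zero hG.equiv).symm
    | add a b ha hb => rw [map_add, map_add, map_add, ha, hb]; exact (map_add hG.equiv _ _).symm
    | tmul r m =>
      rw [LinearMap.baseChange_tmul, IsBaseChange.equiv_tmul, IsBaseChange.equiv_tmul]
      refine (map_smul (QCohLib.appLin ((Scheme.Modules.pullback g).map u) V') r _).trans ?_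
      exact congrArg (r • ·) (appLin_pullback_puSecLE g u h m)
  refine (stalkInj_iff_sections _ hV' hy).trans ⟨fun H z hz => ?_, fun H m hm => ?_⟩
  · obtain ⟨t, ht, ht0⟩ := H (hF.equiv z) ((hnat z).trans ((congrArg hG.equiv hz).trans (map_zero _)))
    refine ⟨t, ht, hF.equiv.injective ?_⟩
    rw [map_smul, map_zero]
    exact ht0
  · obtain ⟨z, rfl⟩ := hF.equiv.surjective m
    obtain ⟨t, ht, ht0⟩ := H z (hG.equiv.injective (((hnat z).symm.trans hm).trans (map_zero _).symm))
    exact ⟨t, ht, (map_smul hF.equiv t z).symm.trans ((congrArg hF.equiv ht0).trans (map_zero _))⟩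

/-- Base change of a map with flat cokernel only creates kernel from kernel. -/
theorem ker_baseChange_le_span {A A' B B' M N : Type u} [CommRing A] [CommRing A'] [CommRing B] [CommRing B']
    [Algebra A A'] [Algebra A B] [Algebra A B'] [Algebra A' B'] [Algebra B B'] [IsScalarTower A A' B']
    [IsScalarTower A B B'] [Algebra.IsPushout A A' B B'] [AddCommGroup M] [Module B M] [AddCommGroup N]
    [Module B N] [Module A N] [IsScalarTower A B N] (f : M →ₗ[B] N) {C : Type u} [AddCommGroup C] [Module B C]
    [Module A C] [IsScalarTower A B C] [Module.Flat A C] (π : N →ₗ[B] C) (hπ : Function.Surjective π)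
    (hex : LinearMap.ker π = LinearMap.range f) {T : Set M} (hT : LinearMap.ker f ≤ Submodule.span B T) :
    LinearMap.ker (f.baseChange B') ≤ Submodule.span B' ((fun k => (1 : B') ⊗ₜ[B] k) '' T) := by
  let I := LinearMap.range f
  have hinj : Function.Injective ((I.subtype.restrictScalars A).rTensor A') :=
    lTensor_injective_of_flat_coker (I.subtype.restrictScalars A) (π.restrictScalars A) Subtype.val_injective
      (LinearMap.exact_iff.mpr (by
        ext n
        show π n = 0 ↔ n ∈ LinearMap.range (I.subtype.restrictScalars A)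
        rw [← LinearMap.mem_ker, hex]
        exact ⟨fun h => ⟨⟨n, h⟩, rfl⟩, fun ⟨y, hy⟩ => hy ▸ y.2⟩)) hπ A'
  have hinj' : Function.Injective (I.subtype.baseChange B') := by
    let eI := (Algebra.IsPushout.cancelBaseChange A A' B B' I).symm
    let eN := (Algebra.IsPushout.cancelBaseChange A A' B B' N).symm
    have hnat : ∀ w, I.subtype.baseChange B' (eI w) = eN ((I.subtype.restrictScalars A).baseChange A' w) := fun w => by
      induction w using TensorProduct.induction_on with
      | zero => simp
      | add a b ha hb => simp only [map_add, ha, hb]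
      | tmul a x => simp [eI, eN]
    refine (injective_iff_map_eq_zero _).mpr fun z hz => ?_
    obtain ⟨w, rfl⟩ := eI.surjective z
    rw [hnat, LinearEquiv.map_eq_zero_iff] at hz
    have hw : TensorProduct.comm A A' I w = 0 := by
      refine hinj ?_
      rw [map_zero]
      have hc : ∀ v, (I.subtype.restrictScalars A).rTensor A' (TensorProduct.comm A A' I v) =
          TensorProduct.comm A A' N ((I.subtype.restrictScalars A).baseChange A' v) := fun v => by
        induction v using TensorProduct.induction_on with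
        | zero => simp
        | add a b ha hb => simp only [map_add, ha, hb]
        | tmul a x => simp
      rw [hc, hz, map_zero]
    rw [(TensorProduct.comm A A' I).map_eq_zero_iff.mp hw, map_zero]
  intro z hz
  have hz' : f.rangeRestrict.baseChange B' z = 0 := by
    refine hinj' ?_
    rw [map_zero, ← LinearMap.comp_apply, ← LinearMap.baseChange_comp]
    exact hz
  have hexact := lTensor_exact B' (LinearMap.exact_subtype_ker_map f.rangeRestrict) f.surjective_rangeRestrict
  obtain ⟨w, rfl⟩ := (hexact z).mp hz'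
  clear hz hz'
  induction w using TensorProduct.induction_on with
  | zero => simp
  | add a b ha hb => rw [map_add]; exact Submodule.add_mem _ ha hb
  | tmul r k =>
    rw [LinearMap.lTensor_tmul, ← mul_one r, ← smul_eq_mul, ← smul_tmul']
    refine Submodule.smul_mem _ r ?_
    have hk : (k : M) ∈ Submodule.span B T := hT (by rw [← LinearMap.ker_rangeRestrict]; exact k.2)
    have hmem : ∀ m ∈ Submodule.span B T,
        (1 : B') ⊗ₜ[B] m ∈ Submodule.span B' ((fun k => (1 : B') ⊗ₜ[B] k) '' T) := fun m hm => by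
      induction hm using Submodule.span_induction with
      | mem m hm => exact Submodule.subset_span ⟨m, hm, rfl⟩
      | zero => simp
      | add a b _ _ ha hb => rw [tmul_add]; exact Submodule.add_mem _ ha hb
      | smul b m _ hm =>
        rw [tmul_smul, ← algebraMap_smul B' b]
        exact Submodule.smul_mem _ _ hm
    exact hmem _ hk

/-- Killing generators kills their span. -/
theorem exists_smul_eq_zero_of_mem_span {B M : Type u} [CommRing B] [AddCommGroup M] [Module B M]
    (p : Ideal B) [p.IsPrime] {S : Set M} (h : ∀ k ∈ S, ∃ t ∉ p, t • k = 0) {z : M}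
    (hz : z ∈ Submodule.span B S) : ∃ t ∉ p, t • z = 0 := by
  induction hz using Submodule.span_induction with
  | mem k hk => exact h k hk
  | zero => exact ⟨1, fun h1 => ‹p.IsPrime›.ne_top ((Ideal.eq_top_iff_one p).mpr h1), smul_zero _⟩
  | add a b _ _ ha hb =>
    obtain ⟨t, ht, hta⟩ := ha
    obtain ⟨s, hs, hsb⟩ := hb
    refine ⟨t * s, fun h1 => (‹p.IsPrime›.mem_or_mem h1).elim ht hs, ?_⟩
    rw [smul_add, mul_comm, mul_smul, hta, smul_zero, zero_add, mul_comm, mul_smul, hsb, smul_zero]
  | smul b a _ ha =>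
    obtain ⟨t, ht, hta⟩ := ha
    exact ⟨t, ht, by rw [smul_comm, hta, smul_zero]⟩

end FlatLib
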