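import Groth.Agent.FlatLib.NilFlattening
import Groth.Agent.FlatLib.SectionsFP
import Groth.Agent.DvrFlatLib.Chart
import Mathlib

/-! Flattening of a finitely presented module by a nilpotent subscheme of a dense open of an affine base. -/

set_option autoImplicit false
universe u

open CategoryTheory CategoryTheory.Limits AlgebraicGeometry TensorProduct

namespace FlatLib

theorem flat_iff_forall_mem_flatLocus {R S M : Type u} [CommRing R] [CommRing S] [Algebra R S]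
    [AddCommGroup M] [Module S M] [Module R M] [IsScalarTower R S M] :
    Module.Flat R M ↔ ∀ q : PrimeSpectrum S, q ∈ flatLocus R S M := by
  refine ⟨fun h q => (flat_localized_iff q.asIdeal.primeCompl (LocalizedModule.mkLinearMap _ M)).mpr
      fun N _ _ N' x hx => ⟨1, one_mem _, ?_⟩, fun h => ?_⟩
  · rw [one_smul]
    exact (Module.Flat.lTensor_preserves_injective_linearMap (M := M) N'.subtype N'.subtype_injective)
      (hx.trans (map_zero _).symm)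
  · exact Module.flat_of_isLocalized_maximal (R := R) S M (fun P hP => LocalizedModule P.primeCompl M)
      (fun P hP => LocalizedModule.mkLinearMap P.primeCompl M) fun P hP => h ⟨P, hP.isPrime⟩

/-- Flatness over an affine open is flatness of the sections. -/
theorem forall_isFlatOverAt_iff {X Y : Scheme.{u}} (f : X ⟶ Y) (M : X.Modules) [Coh.IsQCoh M]
    (U : Y.Opens) (hU : IsAffineOpen U) (V : X.Opens) (hV : IsAffineOpen V) (hVU : V ≤ f ⁻¹ᵁ U)
    [Algebra Γ(Y, U) Γ(X, V)] (halg : algebraMap Γ(Y, U) Γ(X, V) = (f.appLE U V hVU).hom)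
    [Module Γ(Y, U) Γ(M, V)] [IsScalarTower Γ(Y, U) Γ(X, V) Γ(M, V)] :
    (∀ x ∈ V, FlatMod.IsFlatOverAt f M x) ↔ Module.Flat Γ(Y, U) Γ(M, V) := by
  rw [flat_iff_forall_mem_flatLocus (S := Γ(X, V))]
  refine ⟨fun h q => ?_, fun h x hx => (isFlatOverAt_iff f M U hU V hV hVU hx halg).mpr (h _)⟩
  obtain ⟨⟨y, hy⟩, rfl⟩ := hV.isoSpec.hom.surjective q
  exact (isFlatOverAt_iff f M U hU V hV hVU hy halg).mp (h y hy)

/-- Sections of a module after an affine base change. -/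
theorem flat_pullback_sections_iff {X Y T : Scheme.{u}} [IsAffine Y] [IsAffine T] (f : X ⟶ Y)
    (M : X.Modules) [Coh.IsQCoh M] {V : X.Opens} (hV : IsAffineOpen V) (g : T ⟶ Y) :
    letI := (f.appLE ⊤ V le_top).hom.toAlgebra
    letI : Module Γ(Y, ⊤) Γ(M, V) := Module.compHom Γ(M, V) (f.appLE ⊤ V le_top).hom
    letI := (g.appLE ⊤ ⊤ le_top).hom.toAlgebra
    (∀ x ∈ pullback.fst f g ⁻¹ᵁ V,
        FlatMod.IsFlatOverAt (pullback.snd f g) ((Scheme.Modules.pullback (pullback.fst f g)).obj M) x) ↔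
      Module.Flat Γ(T, ⊤) (Γ(T, ⊤) ⊗[Γ(Y, ⊤)] Γ(M, V)) := by
  letI := (f.appLE ⊤ V le_top).hom.toAlgebra
  letI : Module Γ(Y, ⊤) Γ(M, V) := Module.compHom Γ(M, V) (f.appLE ⊤ V le_top).hom
  haveI : IsScalarTower Γ(Y, ⊤) Γ(X, V) Γ(M, V) := IsScalarTower.of_algebraMap_smul fun _ _ => rfl
  letI := (g.appLE ⊤ ⊤ le_top).hom.toAlgebra
  let P := pullback f g
  let fst : P ⟶ X := pullback.fst f g
  let snd : P ⟶ T := pullback.snd f g
  let V' : P.Opens := fst ⁻¹ᵁ V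
  have hV' : IsAffineOpen V' := DvrFlatLib.isAffineOpen_preimage_fst f g (isAffineOpen_top Y) rfl hV le_top
  let M' := KFlatLib.pb fst M
  haveI : Coh.IsQCoh M' := KFlatLib.isQCoh_pullback fst M
  letI : Algebra Γ(T, ⊤) Γ(P, V') := (snd.appLE ⊤ V' le_top).hom.toAlgebra
  letI : Algebra Γ(X, V) Γ(P, V') := (fst.appLE V V' le_rfl).hom.toAlgebra
  letI : Algebra Γ(Y, ⊤) Γ(P, V') :=
    ((fst.appLE V V' le_rfl).hom.comp (f.appLE ⊤ V le_top).hom).toAlgebra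
  obtain ⟨h1, h2, h3⟩ := DvrFlatLib.isPushout_chart f g (isAffineOpen_top Y) le_top hV le_top
  haveI := h1
  haveI := h2
  haveI : Algebra.IsPushout Γ(Y, ⊤) Γ(T, ⊤) Γ(X, V) Γ(P, V') := h3
  letI : Module Γ(X, V) Γ(M', V') := Module.compHom Γ(M', V') (fst.appLE V V' le_rfl).hom
  haveI : IsScalarTower Γ(X, V) Γ(P, V') Γ(M', V') := IsScalarTower.of_algebraMap_smul fun _ _ => rfl
  letI : Module Γ(T, ⊤) Γ(M', V') := Module.compHom Γ(M', V') (snd.appLE ⊤ V' le_top).hom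
  haveI : IsScalarTower Γ(T, ⊤) Γ(P, V') Γ(M', V') := IsScalarTower.of_algebraMap_smul fun _ _ => rfl
  let ψ : Γ(M, V) →ₗ[Γ(X, V)] Γ(M', V') :=
    { toFun := KFlatLib.puSecLE fst M le_rfl
      map_add' := map_add _
      map_smul' := fun r m => by rw [KFlatLib.puSecLE_smul, RingHom.id_apply]; rfl }
  have hψ : IsBaseChange Γ(P, V') ψ :=
    KFlatLib.isBaseChange_puSec fst M hV hV' le_rfl (fun _ => rfl) ψ fun _ => rfl
  rw [forall_isFlatOverAt_iff snd M' ⊤ (isAffineOpen_top T) V' hV' le_top rfl]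
  let e : Γ(T, ⊤) ⊗[Γ(Y, ⊤)] Γ(M, V) ≃ₗ[Γ(T, ⊤)] Γ(M', V') :=
    (Algebra.IsPushout.cancelBaseChange Γ(Y, ⊤) Γ(T, ⊤) Γ(X, V) Γ(P, V') Γ(M, V)).symm.trans
      (hψ.equiv.restrictScalars Γ(T, ⊤))
  exact ⟨fun _ => Module.Flat.of_linearEquiv e, fun _ => Module.Flat.of_linearEquiv e.symm⟩

/-- Flattening by a nilpotent ideal over a dense open of an irreducible affine base. -/
theorem exists_flattening_ideal_affine {X Y : Scheme.{u}} [IsAffine Y] [IrreducibleSpace (PrimeSpectrum Γ(Y, ⊤))]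
    (f : X ⟶ Y) [LocallyOfFinitePresentation f] [QuasiCompact f]
    (F : X.Modules) [Coh.IsQCoh F] (hF : CohB1.IsFP F) :
    ∃ h : Γ(Y, ⊤), h ∉ nilradical Γ(Y, ⊤) ∧ ∃ J : Ideal Γ(Y, ⊤), J.FG ∧ J ≤ nilradical Γ(Y, ⊤) ∧
      ∀ (T : Scheme.{u}) [IsAffine T] (g : T ⟶ Y), IsUnit (g.appLE ⊤ ⊤ le_top h) →
        (FlatMod.IsFlatOver (pullback.snd f g) ((Scheme.Modules.pullback (pullback.fst f g)).obj F) ↔
          J.map (g.appLE ⊤ ⊤ le_top).hom = ⊥) := by
  classical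
  have : CompactSpace X := QuasiCompact.compactSpace_of_compactSpace f
  choose W hW hWU hxW hfp using fun x : X => exists_finitePresentation_nhd (U := ⊤) hF (TopologicalSpace.Opens.mem_top x)
  obtain ⟨t, ht⟩ := isCompact_univ.elim_finite_subcover (fun x : X => (W x : Set X)) (fun x => (W x).2)
    fun x _ => Set.mem_iUnion.mpr ⟨x, hxW x⟩
  have key : ∀ x, ∃ h : Γ(Y, ⊤), h ∉ nilradical Γ(Y, ⊤) ∧ ∃ J : Ideal Γ(Y, ⊤), J.FG ∧ J ≤ nilradical Γ(Y, ⊤) ∧
      ∀ (T : Scheme.{u}) [IsAffine T] (g : T ⟶ Y), IsUnit (g.appLE ⊤ ⊤ le_top h) →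
        ((∀ y ∈ pullback.fst f g ⁻¹ᵁ W x,
            FlatMod.IsFlatOverAt (pullback.snd f g) ((Scheme.Modules.pullback (pullback.fst f g)).obj F) y) ↔
          J.map (g.appLE ⊤ ⊤ le_top).hom = ⊥) := fun x => by
    letI : Algebra Γ(Y, ⊤) Γ(X, W x) := (f.appLE ⊤ (W x) le_top).hom.toAlgebra
    haveI : Algebra.FinitePresentation Γ(Y, ⊤) Γ(X, W x) :=
      f.finitePresentation_appLE (isAffineOpen_top Y) (hW x) le_top
    letI : Module Γ(Y, ⊤) Γ(F, W x) := Module.compHom Γ(F, W x) (f.appLE ⊤ (W x) le_top).hom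
    haveI : IsScalarTower Γ(Y, ⊤) Γ(X, W x) Γ(F, W x) := IsScalarTower.of_algebraMap_smul fun _ _ => rfl
    haveI := hfp x
    obtain ⟨h, hh, J, hfg, hJ, hiff⟩ := exists_nilpotent_flattening (A := Γ(Y, ⊤)) Γ(X, W x) Γ(F, W x)
    refine ⟨h, hh, J, hfg, hJ, fun T _ g hu => ?_⟩
    letI := (g.appLE ⊤ ⊤ le_top).hom.toAlgebra
    exact (flat_pullback_sections_iff f F (hW x) g).trans (hiff Γ(T, ⊤) hu)
  choose h hh J hfg hJ hiff using key
  have : (nilradical Γ(Y, ⊤)).IsPrime := PrimeSpectrum.irreducibleSpace_iff_isPrime_nilradical.mp ‹_›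
  refine ⟨∏ x ∈ t, h x, fun hm => ?_, ⨆ x ∈ t, J x, Submodule.fg_biSup t J fun x _ => hfg x,
    iSup₂_le fun x _ => hJ x, fun T _ g hu => ?_⟩
  · obtain ⟨x, -, hx⟩ := this.prod_mem_iff.mp hm
    exact hh x hx
  · rw [map_prod, IsUnit.prod_iff] at hu
    simp only [Ideal.map_iSup, eq_bot_iff, iSup_le_iff]
    refine ⟨fun hfl x hx => ((hiff x T g (hu x hx)).mp fun y _ => hfl y).le, fun hb y => ?_⟩
    obtain ⟨x, hx, hy⟩ := Set.mem_iUnion₂.mp (ht (Set.mem_univ (pullback.fst f g y)))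
    exact (hiff x T g (hu x hx)).mpr (le_bot_iff.mp (hb x hx)) y hy

end FlatLib
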