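import Groth.Agent.FlatLib.QStalk
import Groth.Agent.FlatLib.GenericFree
import Groth.Agent.QCohLib.Coherent
import Mathlib

/-! Generic flatness of coherent modules. -/

set_option autoImplicit false
universe u

open TensorProduct AlgebraicGeometry CategoryTheory

namespace FlatLib

theorem mem_flatLocus_of_gfree_away {R S M : Type u} [CommRing R] [CommRing S] [Algebra R S]
    [AddCommGroup M] [Module S M] [Module R M] [IsScalarTower R S M] {f : R}
    (h : Module.Free (Localization.Away f) (Localization.Away f ⊗[R] M)) (q : PrimeSpectrum S)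
    (hq : algebraMap R S f ∉ q.asIdeal) : q ∈ flatLocus R S M := by
  haveI : Module.Flat R (Localization.Away f) := IsLocalization.flat _ (Submonoid.powers f)
  exact flat_localized_of_away q.asIdeal.primeCompl (LocalizedModule.mkLinearMap _ M) f hq
    (Module.Flat.trans R (Localization.Away f) _)

theorem exists_flat_over_open {X Y : Scheme.{u}} (u : X ⟶ Y) [IsIntegral Y] [LocallyOfFiniteType u]
    [QuasiCompact u] (F : X.Modules) [Coh.IsQCoh F] (hF : CohB1.IsFT F) :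
    ∃ U : Y.Opens, (U : Set Y).Nonempty ∧ ∀ x : X, u.base x ∈ U → FlatMod.IsFlatOverAt u F x := by
  classical
  obtain ⟨y₀⟩ := (inferInstance : Nonempty Y)
  obtain ⟨W, hW, hy₀⟩ := QCohLib.exists_affine_nhd y₀
  haveI : Nonempty W := ⟨⟨y₀, hy₀⟩⟩
  haveI : IsDomain Γ(Y, W) := IsIntegral.component_integral W
  have hcpt : IsCompact ((u ⁻¹ᵁ W : X.Opens) : Set X) :=
    u.isCompact_preimage hW.isCompact
  choose V hV hxV hVW using fun x : (u ⁻¹ᵁ W : X.Opens) =>
    X.isBasis_affineOpens.exists_subset_of_mem_open x.2 (u ⁻¹ᵁ W).2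
  choose V' hV' hVV' using hV
  obtain ⟨t, ht⟩ := hcpt.elim_finite_subcover (fun x : (u ⁻¹ᵁ W : X.Opens) ↦ (V' x : Set X))
    (fun x ↦ (V' x).2) fun x hx ↦ Set.mem_iUnion.mpr ⟨⟨x, hx⟩, (hVV' ⟨x, hx⟩).symm ▸ hxV ⟨x, hx⟩⟩
  have hle : ∀ x, V' x ≤ u ⁻¹ᵁ W := fun x z hz ↦ hVW x ((hVV' x) ▸ hz)
  have key : ∀ x, ∃ f : Γ(Y, W), f ≠ 0 ∧
      ∀ z ∈ V' x, u z ∈ Y.basicOpen f → FlatMod.IsFlatOverAt u F z := fun x ↦ by
    have hft := u.finiteType_appLE hW (hV' x) (hle x)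
    letI : Algebra Γ(Y, W) Γ(X, V' x) := (u.appLE W (V' x) (hle x)).hom.toAlgebra
    haveI : Algebra.FiniteType Γ(Y, W) Γ(X, V' x) := hft
    letI : Module Γ(Y, W) Γ(F, V' x) := Module.compHom Γ(F, V' x) (algebraMap Γ(Y, W) Γ(X, V' x))
    haveI : IsScalarTower Γ(Y, W) Γ(X, V' x) Γ(F, V' x) :=
      IsScalarTower.of_algebraMap_smul fun _ _ ↦ rfl
    haveI := QCohLib.finite_of_isFT hF (hV' x)
    obtain ⟨f, hf, hfree⟩ := gfree_of_finite (R := Γ(Y, W)) Γ(X, V' x) Γ(F, V' x)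
    refine ⟨f, hf, fun z hz hzf ↦ ?_⟩
    rw [isFlatOverAt_iff u F W hW (V' x) (hV' x) (hle x) hz rfl]
    refine mem_flatLocus_of_gfree_away hfree _ fun hmem ↦ ?_
    have hcomap := IsAffineOpen.comap_primeIdealOf_appLE W hW (V' x) (hV' x) (hle x) hz
    have h1 : f ∈ (hW.primeIdealOf ⟨u z, hle x hz⟩).asIdeal := by
      rw [← hcomap]
      exact hmem
    letI : Algebra Γ(Y, W) (Y.presheaf.stalk (u z)) :=
      (Y.presheaf.germ W (u z) (hle x hz)).hom.toAlgebra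
    haveI : IsLocalization.AtPrime (Y.presheaf.stalk (u z))
        (hW.primeIdealOf ⟨u z, hle x hz⟩).asIdeal := hW.isLocalization_stalk ⟨u z, hle x hz⟩
    exact (IsLocalization.AtPrime.isUnit_to_map_iff (Y.presheaf.stalk (u z)) _ f).mp
      ((Y.mem_basicOpen f (u z) (hle x hz)).mp hzf) h1
  choose f hf hflat using key
  refine ⟨Y.basicOpen (∏ x ∈ t, f x), ?_, fun z hz ↦ ?_⟩
  · rw [Set.nonempty_iff_ne_empty, ne_eq, ← TopologicalSpace.Opens.coe_bot, SetLike.coe_set_eq,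
      basicOpen_eq_bot_iff]
    exact Finset.prod_ne_zero_iff.mpr fun x _ ↦ hf x
  · have hzW : u z ∈ W := Y.basicOpen_le _ hz
    obtain ⟨x, hxt, hzx⟩ := Set.mem_iUnion₂.mp (ht (show z ∈ (u ⁻¹ᵁ W : X.Opens) from hzW))
    refine hflat x z hzx ?_
    obtain ⟨d, hd⟩ := Finset.dvd_prod_of_mem f hxt
    rw [hd, Scheme.basicOpen_mul] at hz
    exact hz.1

end FlatLib
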