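import Groth.Agent.FlatLib.GenericFree
import Groth.Agent.FlatLib.FibMaster
import Mathlib

/-! Generic finite presentation over a domain. -/

set_option autoImplicit false
universe u

open TensorProduct

namespace FlatLib

open MvPolynomial in
/-- A submodule of a finite module over a polynomial ring over a domain is finitely generated up to
nonzero scalars. -/
theorem exists_fg_up_to_torsion {σ R : Type u} [Finite σ] [CommRing R] [IsDomain R] {M : Type u}
    [AddCommGroup M] [Module (MvPolynomial σ R) M] [Module.Finite (MvPolynomial σ R) M]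
    (N : Submodule (MvPolynomial σ R) M) :
    ∃ N₀ ≤ N, N₀.FG ∧ ∀ x ∈ N, ∃ r : R, r ≠ 0 ∧ (MvPolynomial.C r : MvPolynomial σ R) • x ∈ N₀ := by
  classical
  let P := MvPolynomial σ R
  let A := MvPolynomial σ (FractionRing R)
  let T : Submonoid P := (nonZeroDivisors R).map (MvPolynomial.C (σ := σ) (R := R))
  letI : Algebra P A := MvPolynomial.algebraMvPolynomial
  haveI : IsLocalization T A := MvPolynomial.isLocalization (nonZeroDivisors R) (FractionRing R)
  let φ : M →ₗ[P] A ⊗[P] M := TensorProduct.mk P A M 1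
  haveI : IsLocalizedModule T φ := IsLocalization.tensorProduct_isLocalizedModule T A
  haveI : IsNoetherianRing A := inferInstance
  haveI : Module.Finite A (A ⊗[P] M) := Module.Finite.base_change P A M
  haveI : IsNoetherian A (A ⊗[P] M) := @isNoetherian_of_isNoetherianRing_of_finite A (A ⊗[P] M) _ _ _ _ _
  obtain ⟨G, hG⟩ := (IsNoetherian.noetherian (N.localized' A T φ) : (N.localized' A T φ).FG)
  have hG' : ∀ g : G, ∃ m ∈ N, ∃ t : T, IsLocalizedModule.mk' φ m t = g := fun g ↦
    (Submodule.mem_localized' A T φ N _).mp (hG ▸ Submodule.subset_span g.2)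
  choose m hm t ht using hG'
  let N₀ := Submodule.span P (Set.range m)
  have hN₀ : N₀ ≤ N := Submodule.span_le.mpr (Set.range_subset_iff.mpr hm)
  refine ⟨N₀, hN₀, Submodule.fg_span (Set.finite_range m), fun x hx ↦ ?_⟩
  have hle : N.localized' A T φ ≤ N₀.localized' A T φ := by
    rw [← hG, Submodule.span_le]
    intro g hg
    exact (Submodule.mem_localized' A T φ N₀ _).mpr
      ⟨m ⟨g, hg⟩, Submodule.subset_span (Set.mem_range_self _), t ⟨g, hg⟩, ht ⟨g, hg⟩⟩
  obtain ⟨y, hy, s, hys⟩ := (Submodule.mem_localized' A T φ N₀ _).mp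
    (hle ((Submodule.mem_localized' A T φ N _).mpr ⟨x, hx, 1, IsLocalizedModule.mk'_one T φ x⟩))
  rw [IsLocalizedModule.mk'_eq_iff, Submonoid.smul_def, ← map_smul, IsLocalizedModule.eq_iff_exists T φ] at hys
  obtain ⟨c, hc⟩ := hys
  obtain ⟨r, hr, hrc⟩ := (c * s).2
  refine ⟨r, nonZeroDivisors.ne_zero hr, ?_⟩
  show MvPolynomial.C r • x ∈ N₀
  rw [hrc, Submonoid.coe_mul, mul_smul]
  simp only [Submonoid.smul_def] at hc
  rw [← hc]
  exact N₀.smul_mem _ hy

/-- Torsion in a module which is free after inverting `f` dies after inverting `f`. -/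
theorem exists_pow_smul_eq_zero {R M : Type u} [CommRing R] [IsDomain R] [AddCommGroup M] [Module R M]
    {f : R} (hf : f ≠ 0) (h : Module.Free (Localization.Away f) (Localization.Away f ⊗[R] M))
    {r : R} (hr : r ≠ 0) {x : M} (hx : r • x = 0) : ∃ k : ℕ, f ^ k • x = 0 := by
  let L := Localization.Away f
  haveI : IsLocalizedModule (Submonoid.powers f) (TensorProduct.mk R L M 1) :=
    IsLocalization.tensorProduct_isLocalizedModule _ L
  haveI : IsDomain L := IsLocalization.isDomain_localization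
    (powers_le_nonZeroDivisors_of_noZeroDivisors hf)
  have hr' : algebraMap R L r ≠ 0 := fun h0 ↦ hr
    ((IsLocalization.injective L (powers_le_nonZeroDivisors_of_noZeroDivisors hf))
      (h0.trans (map_zero _).symm))
  have hz : (1 : L) ⊗ₜ[R] x = 0 := by
    have h1 : algebraMap R L r • ((1 : L) ⊗ₜ[R] x) = 0 := by
      rw [algebraMap_smul, ← TensorProduct.tmul_smul, hx, TensorProduct.tmul_zero]
    exact (smul_eq_zero.mp h1).resolve_left hr'
  obtain ⟨⟨_, k, rfl⟩, hk⟩ := (IsLocalizedModule.eq_zero_iff (Submonoid.powers f)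
    (TensorProduct.mk R L M 1)).mp (show TensorProduct.mk R L M 1 x = 0 from hz)
  exact ⟨k, hk⟩

/-- A module over a polynomial ring becomes finitely presented after inverting an element. -/
theorem exists_fp_model {σ R : Type u} [Finite σ] [CommRing R] [IsDomain R] {M : Type u}
    [AddCommGroup M] [Module (MvPolynomial σ R) M] [Module.Finite (MvPolynomial σ R) M]
    [Module R M] [IsScalarTower R (MvPolynomial σ R) M] :
    ∃ (n : ℕ) (N₀ : Submodule (MvPolynomial σ R) (Fin n → MvPolynomial σ R))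
      (π : ((Fin n → MvPolynomial σ R) ⧸ N₀) →ₗ[MvPolynomial σ R] M) (f : R),
      N₀.FG ∧ Function.Surjective π ∧ f ≠ 0 ∧ ∀ y, π y = 0 → ∃ k : ℕ, f ^ k • y = 0 := by
  obtain ⟨n, ρ, hρ⟩ := Module.Finite.exists_fin' (MvPolynomial σ R) M
  obtain ⟨N₀, hle, hfg, htor⟩ := exists_fg_up_to_torsion (LinearMap.ker ρ)
  let Q := (Fin n → MvPolynomial σ R) ⧸ N₀
  obtain ⟨f, hf, hfree⟩ := gfree_of_finite (R := R) (MvPolynomial σ R) Q
  refine ⟨n, N₀, N₀.liftQ ρ hle, f, hfg, fun z ↦ ?_, hf, fun y hy ↦ ?_⟩
  · obtain ⟨w, rfl⟩ := hρ z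
    exact ⟨Submodule.Quotient.mk w, rfl⟩
  · obtain ⟨w, rfl⟩ := Submodule.Quotient.mk_surjective _ y
    obtain ⟨r, hr, hrw⟩ := htor w hy
    refine exists_pow_smul_eq_zero hf hfree hr ?_
    rw [← algebraMap_smul (MvPolynomial σ R) r, ← Submodule.Quotient.mk_smul,
      Submodule.Quotient.mk_eq_zero]
    exact hrw

/-- The algebra becomes finitely presented after inverting an element. -/
theorem exists_finitePresentation_algebra {R S : Type u} [CommRing R] [IsDomain R] [CommRing S]
    [Algebra R S] [Algebra.FiniteType R S] :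
    ∃ f : R, f ≠ 0 ∧ ∀ (L : Type u) [CommRing L] [Algebra R L], IsUnit (algebraMap R L f) →
      Algebra.FinitePresentation L (L ⊗[R] S) := by
  obtain ⟨σ, hσ, p, hp⟩ := Algebra.FiniteType.iff_quotient_mvPolynomial'.mp
    (inferInstance : Algebra.FiniteType R S)
  haveI : Finite σ := Finite.of_fintype σ
  let P := MvPolynomial σ R
  obtain ⟨I₀, hle, hfg, htor⟩ := exists_fg_up_to_torsion (R := R) (σ := σ) (M := P)
    (RingHom.ker p.toRingHom)
  let S' := P ⧸ I₀
  obtain ⟨f, hf, hfree⟩ := gfree_of_finite (R := R) P S'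
  let q : S' →ₐ[R] S := Ideal.Quotient.liftₐ I₀ p fun a ha ↦ hle ha
  have hq : Function.Surjective q := fun s ↦ by
    obtain ⟨a, rfl⟩ := hp s
    exact ⟨Ideal.Quotient.mk I₀ a, rfl⟩
  have hkill : ∀ y : S', q y = 0 → ∃ k : ℕ, f ^ k • y = 0 := fun y hy ↦ by
    obtain ⟨w, rfl⟩ := Ideal.Quotient.mk_surjective y
    obtain ⟨r, hr, hrw⟩ := htor w hy
    refine exists_pow_smul_eq_zero hf hfree hr ?_
    show r • (Submodule.Quotient.mk w : S') = 0
    rw [← algebraMap_smul P r, ← Submodule.Quotient.mk_smul]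
    exact (Submodule.Quotient.mk_eq_zero _).mpr hrw
  haveI : Algebra.FinitePresentation R S' := Algebra.FinitePresentation.quotient hfg
  refine ⟨f, hf, fun L _ _ hu ↦ ?_⟩
  let φ : L ⊗[R] S' →ₐ[L] L ⊗[R] S := Algebra.TensorProduct.map (AlgHom.id L L) q
  refine @Algebra.FinitePresentation.equiv L (L ⊗[R] S') (L ⊗[R] S) _ _ _ _ _ inferInstance (@AlgEquiv.ofBijective L (L ⊗[R] S') (L ⊗[R] S) _ _ _ _ _ φ ⟨?_, ?_⟩)
  · have hex : Function.Exact (LinearMap.ker q.toLinearMap).subtype q.toLinearMap :=
      LinearMap.exact_subtype_ker_map _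
    have hex' := lTensor_exact L hex hq
    refine (injective_iff_map_eq_zero φ).mpr fun z hz ↦ ?_
    obtain ⟨w, rfl⟩ := (hex' z).mp hz
    suffices w = 0 by rw [this, map_zero]
    clear hz
    induction w using TensorProduct.induction_on with
    | zero => rfl
    | add a b ha hb => rw [ha, hb, add_zero]
    | tmul l y =>
      obtain ⟨k, hk⟩ := hkill y y.2
      obtain ⟨v, hv⟩ := hu.pow k
      rw [show l = f ^ k • (↑v⁻¹ * l) by rw [Algebra.smul_def, map_pow, ← hv, Units.mul_inv_cancel_left],
        TensorProduct.smul_tmul,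
        show f ^ k • y = (0 : LinearMap.ker q.toLinearMap) from Subtype.ext hk, TensorProduct.tmul_zero]
  · exact LinearMap.lTensor_surjective L hq

set_option maxSynthPendingDepth 6 in
/-- The module becomes finitely presented over the algebra after inverting an element. -/
theorem exists_finitePresentation_module {R S M : Type u} [CommRing R] [IsDomain R] [CommRing S]
    [Algebra R S] [Algebra.FiniteType R S] [AddCommGroup M] [Module S M] [Module R M]
    [IsScalarTower R S M] [Module.Finite S M] :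
    ∃ f : R, f ≠ 0 ∧ ∀ g : R, f ∣ g → Module.FinitePresentation (Localization.Away (algebraMap R S g))
      (LocalizedModule (Submonoid.powers (algebraMap R S g)) M) := by
  obtain ⟨σ, hσ, p, hp⟩ := Algebra.FiniteType.iff_quotient_mvPolynomial'.mp
    (inferInstance : Algebra.FiniteType R S)
  haveI : Finite σ := Finite.of_fintype σ
  let P := MvPolynomial σ R
  letI : Algebra P S := p.toRingHom.toAlgebra
  haveI : IsScalarTower R P S := IsScalarTower.of_algebraMap_eq fun r ↦ (p.commutes r).symm
  letI : Module P M := Module.compHom M p.toRingHom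
  haveI : IsScalarTower P S M := IsScalarTower.of_algebraMap_smul fun _ _ ↦ rfl
  haveI : IsScalarTower R P M := IsScalarTower.of_algebraMap_smul fun r x ↦ by
    show algebraMap P S (algebraMap R P r) • x = r • x
    rw [← IsScalarTower.algebraMap_apply, algebraMap_smul]
  haveI : Module.Finite P S := Module.Finite.of_surjective (Algebra.linearMap P S) hp
  haveI : Module.Finite P M := Module.Finite.trans S M
  obtain ⟨n, N₀, π, f, hfg, hπ, hf, hkill⟩ := exists_fp_model (σ := σ) (R := R) (M := M)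
  refine ⟨f, hf, fun g hfg' ↦ ?_⟩
  obtain ⟨d, hd⟩ := hfg'
  let φ := algebraMap R S g
  let T := Submonoid.powers (algebraMap R P g)
  let Mf := LocalizedModule (Submonoid.powers φ) M
  let Sf := Localization.Away φ
  let Q := (Fin n → P) ⧸ N₀
  haveI : Module.FinitePresentation P Q :=
    Module.finitePresentation_of_surjective N₀.mkQ N₀.mkQ_surjective (by rwa [Submodule.ker_mkQ])
  let ψ : Q →ₗ[P] Mf :=
    ((LocalizedModule.mkLinearMap (Submonoid.powers φ) M).restrictScalars P).comp π
  have hpow : ∀ k : ℕ, algebraMap P S (algebraMap R P g ^ k) = φ ^ k := fun k ↦ by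
    rw [map_pow, ← IsScalarTower.algebraMap_apply]
  haveI : IsLocalizedModule T ψ := by
    refine ⟨?_, fun z ↦ ?_, fun {a b} hab ↦ ?_⟩
    · rintro ⟨_, k, rfl⟩
      have h := IsLocalizedModule.map_units (LocalizedModule.mkLinearMap (Submonoid.powers φ) M)
        (⟨φ ^ k, k, rfl⟩ : Submonoid.powers φ)
      rw [Module.End.isUnit_iff] at h ⊢
      have he : (fun z : Mf ↦ (algebraMap R P g ^ k) • z) = fun z ↦ (φ ^ k) • z := funext fun z ↦ by
        rw [← algebraMap_smul S (algebraMap R P g ^ k) z, hpow]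
      show Function.Bijective fun z : Mf ↦ (algebraMap R P g ^ k) • z
      rw [he]
      exact h
    · obtain ⟨⟨m, ⟨_, k, rfl⟩⟩, hm⟩ := IsLocalizedModule.surj (Submonoid.powers φ)
        (LocalizedModule.mkLinearMap (Submonoid.powers φ) M) z
      obtain ⟨y, rfl⟩ := hπ m
      refine ⟨(y, ⟨_, k, rfl⟩), ?_⟩
      show (algebraMap R P g ^ k) • z = _
      rw [← algebraMap_smul S (algebraMap R P g ^ k) z, hpow]
      exact hm
    · obtain ⟨⟨_, k, rfl⟩, hk⟩ := (IsLocalizedModule.eq_iff_exists (Submonoid.powers φ)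
        (LocalizedModule.mkLinearMap (Submonoid.powers φ) M)).mp hab
      replace hk : φ ^ k • π a = φ ^ k • π b := hk
      rw [← hpow, algebraMap_smul, algebraMap_smul, ← sub_eq_zero, ← smul_sub, ← map_sub, ← map_smul] at hk
      obtain ⟨j, hj⟩ := hkill _ hk
      refine ⟨⟨_, j + k, rfl⟩, ?_⟩
      show algebraMap R P g ^ (j + k) • a = algebraMap R P g ^ (j + k) • b
      rw [← sub_eq_zero, ← smul_sub, pow_add, mul_smul, ← map_pow _ g j, algebraMap_smul,
        show g ^ j = d ^ j * f ^ j by rw [hd, mul_pow, mul_comm], mul_smul, hj, smul_zero]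
  let Pf := Localization T
  let e : Pf →+* Sf := IsLocalization.lift (M := T) (g := (algebraMap S Sf).comp (algebraMap P S))
    fun t ↦ by
      obtain ⟨_, k, rfl⟩ := t
      show IsUnit (algebraMap S Sf (algebraMap P S (algebraMap R P g ^ k)))
      rw [hpow, map_pow]
      exact (IsLocalization.Away.algebraMap_isUnit φ).pow k
  have hecomp : ∀ a, e (algebraMap P Pf a) = algebraMap S Sf (algebraMap P S a) :=
    fun a ↦ IsLocalization.lift_eq _ a
  have hesurj : Function.Surjective e := fun z ↦ by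
    obtain ⟨k, a, hk⟩ := IsLocalization.Away.surj φ z
    obtain ⟨a, rfl⟩ := hp a
    refine ⟨IsLocalization.mk' Pf a (⟨_, k, rfl⟩ : T), ?_⟩
    rw [IsLocalization.lift_mk'_spec]
    show algebraMap S Sf (algebraMap P S a) = algebraMap S Sf (algebraMap P S (algebraMap R P g ^ k)) * z
    rw [hpow, map_pow, mul_comm]
    exact hk.symm
  letI : Algebra Pf Sf := e.toAlgebra
  letI : Module Pf Mf := Module.compHom Mf e
  haveI : IsScalarTower Pf Sf Mf := IsScalarTower.of_algebraMap_smul fun _ _ ↦ rfl
  haveI : IsScalarTower P Pf Mf := IsScalarTower.of_algebraMap_smul fun a z ↦ by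
    show e (algebraMap P Pf a) • z = a • z
    rw [hecomp, algebraMap_smul, algebraMap_smul]
  haveI : Module.FinitePresentation Pf Mf :=
    FinitePresentation.of_isBaseChange ψ (IsLocalizedModule.isBaseChange T Pf ψ)
  exact FinitePresentation.of_isBaseChange (A := Sf) (LinearMap.id : Mf →ₗ[Pf] Mf)
    (isBaseChange_id_of_surjective hesurj)

/-- Generic freeness and generic finite presentation. -/
theorem generic_freeness_fp {R S M : Type u} [CommRing R] [IsDomain R] [CommRing S] [Algebra R S]
    [Algebra.FiniteType R S] [AddCommGroup M] [Module S M] [Module R M] [IsScalarTower R S M]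
    [Module.Finite S M] :
    ∃ f : R, f ≠ 0 ∧ Module.Free (Localization.Away f) (Localization.Away f ⊗[R] M) ∧
      Module.Free (Localization.Away f) (Localization.Away f ⊗[R] S) ∧
      Algebra.FinitePresentation (Localization.Away f) (Localization.Away f ⊗[R] S) ∧
      Module.FinitePresentation (Localization.Away (algebraMap R S f))
        (LocalizedModule (Submonoid.powers (algebraMap R S f)) M) := by
  obtain ⟨f₁, hf₁, h₁⟩ := gfree_of_finite (R := R) S M
  obtain ⟨f₂, hf₂, h₂⟩ := gfree_of_finite (R := R) S S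
  obtain ⟨f₃, hf₃, h₃⟩ := exists_finitePresentation_algebra (R := R) (S := S)
  obtain ⟨f₄, hf₄, h₄⟩ := exists_finitePresentation_module (R := R) (S := S) (M := M)
  let f := f₁ * f₂ * f₃ * f₄
  have hu := IsLocalization.Away.algebraMap_isUnit (S := Localization.Away f) f
  have hu' : ∀ a : R, a ∣ f → IsUnit (algebraMap R (Localization.Away f) a) := fun a ha ↦
    isUnit_of_dvd_unit (map_dvd _ ha) hu
  exact ⟨f, mul_ne_zero (mul_ne_zero (mul_ne_zero hf₁ hf₂) hf₃) hf₄,
    free_tensor_of_isUnit _ (hu' f₁ ⟨f₂ * f₃ * f₄, by ring⟩) h₁,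
    free_tensor_of_isUnit _ (hu' f₂ ⟨f₁ * f₃ * f₄, by ring⟩) h₂,
    h₃ _ (hu' f₃ ⟨f₁ * f₂ * f₄, by ring⟩), h₄ f ⟨f₁ * f₂ * f₃, by ring⟩⟩

end FlatLib
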