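import Groth.Agent.FlatLib.FibCharts
import Mathlib

/-! Flatness from flatness of all fibres, for schemes. -/

set_option autoImplicit false
universe u

open AlgebraicGeometry CategoryTheory Limits

namespace FlatLib

theorem flat_of_fibres_flat_lfp {X Y S : Scheme.{u}} (f : X ⟶ Y) (g : Y ⟶ S)
    [LocallyOfFinitePresentation (f ≫ g)] [LocallyOfFiniteType g] [Flat (f ≫ g)]
    (hfib : ∀ s, Flat (MoreMor.fiberMap f g s)) : Flat f := by
  rw [Flat.iff_flat_stalkMap]
  intro x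
  exact ((fibre_criterion_near f g x).1.mp
    ⟨(Flat.iff_flat_stalkMap (f ≫ g)).mp inferInstance x,
      (Flat.iff_flat_stalkMap _).mp (hfib (g (f x))) _⟩).2

set_option maxSynthPendingDepth 6 in
theorem flat_of_fibres_flat_noetherian {X Y S : Scheme.{u}} (f : X ⟶ Y) (g : Y ⟶ S)
    [IsLocallyNoetherian X] [IsLocallyNoetherian Y] [Flat (f ≫ g)]
    (hfib : ∀ s, Flat (MoreMor.fiberMap f g s)) : Flat f := by
  rw [Flat.iff_flat_stalkMap]
  intro x
  obtain ⟨W, V, U, hW, hV, hU, hVW, hUV, hxU⟩ := exists_affine_charts f g x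
  have hUW : U ≤ (f ≫ g) ⁻¹ᵁ W := fun z hz ↦ hVW (hUV hz)
  have hcomp : g.appLE W V hVW ≫ f.appLE V U hUV = (f ≫ g).appLE W U hUW :=
    Scheme.Hom.appLE_comp_appLE _ _ _ _ _ _ _
  letI : Algebra Γ(S, W) Γ(Y, V) := (g.appLE W V hVW).hom.toAlgebra
  letI : Algebra Γ(Y, V) Γ(X, U) := (f.appLE V U hUV).hom.toAlgebra
  letI : Algebra Γ(S, W) Γ(X, U) := ((f ≫ g).appLE W U hUW).hom.toAlgebra
  haveI : IsScalarTower Γ(S, W) Γ(Y, V) Γ(X, U) := IsScalarTower.of_algebraMap_eq fun r ↦ by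
    show ((f ≫ g).appLE W U hUW).hom r = _
    rw [← hcomp]
    rfl
  haveI : IsNoetherianRing Γ(Y, V) := IsLocallyNoetherian.component_noetherian ⟨V, hV⟩
  haveI : IsNoetherianRing Γ(X, U) := IsLocallyNoetherian.component_noetherian ⟨U, hU⟩
  rw [flat_stalkMap_iff V hV U hU hUV hxU]
  have h1 : hU.primeIdealOf ⟨x, hxU⟩ ∈ flatLocus Γ(S, W) Γ(X, U) Γ(X, U) :=
    (flat_stalkMap_iff (f := f ≫ g) W hW U hU hUW hxU).mp
      ((Flat.iff_flat_stalkMap (f ≫ g)).mp inferInstance x)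
  have h2 := (flat_fiberMap_asFiber_iff f g hW hV hU hVW hUV rfl rfl x hxU).mp
    ((Flat.iff_flat_stalkMap _).mp (hfib (g (f x))) _)
  exact (mem_flatLocus_of_fibFlat_noetherian _ h1 h2).1

/-- Flatness descends along a flat surjection of the source. -/
theorem flat_of_flat_surjective_comp {X Y S : Scheme.{u}} (f : X ⟶ Y) (g : Y ⟶ S) [Flat f]
    [Surjective f] [Flat (f ≫ g)] : Flat g := by
  rw [Flat.iff_flat_stalkMap]
  intro y
  obtain ⟨x, rfl⟩ := f.surjective y
  letI : Algebra (S.presheaf.stalk (g (f x))) (Y.presheaf.stalk (f x)) :=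
    (g.stalkMap (f x)).hom.toAlgebra
  letI : Algebra (Y.presheaf.stalk (f x)) (X.presheaf.stalk x) := (f.stalkMap x).hom.toAlgebra
  letI : Algebra (S.presheaf.stalk (g (f x))) (X.presheaf.stalk x) :=
    ((f.stalkMap x).hom.comp (g.stalkMap (f x)).hom).toAlgebra
  haveI : IsScalarTower (S.presheaf.stalk (g (f x))) (Y.presheaf.stalk (f x)) (X.presheaf.stalk x) :=
    IsScalarTower.of_algebraMap_eq fun _ ↦ rfl
  haveI : Module.Flat (S.presheaf.stalk (g (f x))) (X.presheaf.stalk x) := by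
    have h := (Flat.iff_flat_stalkMap (f ≫ g)).mp inferInstance x
    rw [Scheme.Hom.stalkMap_comp] at h
    exact h
  haveI : Module.Flat (Y.presheaf.stalk (f x)) (X.presheaf.stalk x) :=
    (Flat.iff_flat_stalkMap f).mp inferInstance x
  haveI : IsLocalHom (algebraMap (Y.presheaf.stalk (f x)) (X.presheaf.stalk x)) :=
    f.toLRSHom.prop x
  haveI : IsLocalHom (algebraMap (X.presheaf.stalk x) (X.presheaf.stalk x)) := ⟨fun _ h ↦ h⟩
  haveI := faithfullyFlat_of_flat_local (S := Y.presheaf.stalk (f x)) (S' := X.presheaf.stalk x)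
    (M := X.presheaf.stalk x)
  exact flat_of_faithfullyFlat_module (M := X.presheaf.stalk x)

end FlatLib
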