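import Mathlib

/-! Injectivity on the closed fibre (`M` flat over the base only). -/

set_option autoImplicit false
universe u

open TensorProduct

namespace FlatLib

theorem lTensor_residue_injective {R M N : Type u} [CommRing R] [IsLocalRing R] [AddCommGroup M]
    [Module R M] [AddCommGroup N] [Module R N] (u : N →ₗ[R] M)
    (h : Function.Injective (u.lTensor (IsLocalRing.ResidueField R))) (V : Type u) [AddCommGroup V]
    [Module R V] (hV : Module.IsTorsionBySet R V (IsLocalRing.maximalIdeal R : Set R)) :
    Function.Injective (u.lTensor V) := by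
  letI : Module (IsLocalRing.ResidueField R) V := hV.module
  haveI : IsScalarTower R (IsLocalRing.ResidueField R) V := hV.isScalarTower
  let κ := IsLocalRing.ResidueField R
  let u' : κ ⊗[R] N →ₗ[κ] κ ⊗[R] M := u.baseChange κ
  have hu' : Function.Injective u' := h
  let e₁ := AlgebraTensorModule.cancelBaseChange R κ κ V N
  let e₂ := AlgebraTensorModule.cancelBaseChange R κ κ V M
  have hcomm : ∀ z, u.lTensor V (e₁ z) = e₂ (u'.lTensor V z) := fun z ↦ by
    induction z using TensorProduct.induction_on with
    | zero => simp
    | add a b ha hb => simp only [map_add, ha, hb]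
    | tmul v w =>
      induction w using TensorProduct.induction_on with
      | zero => simp
      | add a b ha hb => simp only [tmul_add, map_add, ha, hb]
      | tmul c n => simp [e₁, e₂, u']
  intro a b hab
  obtain ⟨a, rfl⟩ := e₁.surjective a
  obtain ⟨b, rfl⟩ := e₁.surjective b
  rw [hcomm, hcomm] at hab
  exact congr_arg e₁ (Module.Flat.lTensor_preserves_injective_linearMap u' hu' (e₂.injective hab))

variable {R : Type u} [CommRing R]

/-- Multiplication `A ⊗ P → P`. -/
noncomputable def idealMul (A : Ideal R) (P : Type u) [AddCommGroup P] [Module R P] : A ⊗[R] P →ₗ[R] P :=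
  (TensorProduct.lid R P).toLinearMap ∘ₗ (Submodule.subtype A).rTensor P

theorem idealMul_lTensor (A : Ideal R) {P Q : Type u} [AddCommGroup P] [Module R P] [AddCommGroup Q]
    [Module R Q] (f : P →ₗ[R] Q) (z : A ⊗[R] P) : idealMul A Q (f.lTensor A z) = f (idealMul A P z) := by
  induction z using TensorProduct.induction_on with
  | zero => simp
  | add a b ha hb => simp only [map_add, ha, hb]
  | tmul a p => simp [idealMul]

theorem idealMul_rTensor {A B : Ideal R} (hAB : A ≤ B) {P : Type u} [AddCommGroup P] [Module R P]
    (z : A ⊗[R] P) : idealMul B P ((Submodule.inclusion hAB).rTensor P z) = idealMul A P z := by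
  induction z using TensorProduct.induction_on with
  | zero => simp
  | add a b ha hb => simp only [map_add, ha, hb]
  | tmul a p => simp [idealMul]

theorem range_idealMul (A : Ideal R) (P : Type u) [AddCommGroup P] [Module R P] :
    LinearMap.range (idealMul A P) = A • (⊤ : Submodule R P) := by
  refine le_antisymm ?_ (Submodule.smul_le.mpr fun a ha p _ ↦ ⟨⟨a, ha⟩ ⊗ₜ p, by simp [idealMul]⟩)
  rintro _ ⟨z, rfl⟩
  induction z using TensorProduct.induction_on with
  | zero => simp
  | add a b ha hb => rw [map_add]; exact add_mem ha hb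
  | tmul a p =>
    rw [show idealMul A P (a ⊗ₜ p) = (a : R) • p by simp [idealMul]]
    exact Submodule.smul_mem_smul a.2 Submodule.mem_top

theorem idealMul_injective (A : Ideal R) (P : Type u) [AddCommGroup P] [Module R P] [Module.Flat R P] :
    Function.Injective (idealMul A P) :=
  (TensorProduct.lid R P).injective.comp
    (Module.Flat.rTensor_preserves_injective_linearMap _ Subtype.val_injective)

/-- If `u` is injective modulo the maximal ideal, it is injective modulo every ideal. -/
theorem mem_smul_top_of_map_mem (S : Type u) [CommRing S] [IsLocalRing R] [IsLocalRing S] [IsNoetherianRing S] [Algebra R S]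
    [IsLocalHom (algebraMap R S)] {M N : Type u} [AddCommGroup M] [Module R M] [Module.Flat R M]
    [AddCommGroup N] [Module R N] [Module S N] [IsScalarTower R S N] [Module.Finite S N] (u : N →ₗ[R] M)
    (h : Function.Injective (u.lTensor (IsLocalRing.ResidueField R))) (I : Ideal R) {x : N}
    (hx : u x ∈ I • (⊤ : Submodule R M)) : x ∈ I • (⊤ : Submodule R N) := by
  let 𝔪 := IsLocalRing.maximalIdeal R
  have key : ∀ k : ℕ, x ∈ I • (⊤ : Submodule R N) ⊔ 𝔪 ^ k • ⊤ := by
    intro k
    induction k with
    | zero => rw [pow_zero, Ideal.one_eq_top, Submodule.top_smul, sup_top_eq]; exact Submodule.mem_top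
    | succ k ih =>
      obtain ⟨x₁, hx₁, x₂, hx₂, rfl⟩ := Submodule.mem_sup.mp ih
      let A : Ideal R := 𝔪 ^ k
      let C : Ideal R := I ⊓ A ⊔ 𝔪 ^ (k + 1)
      have hCA : C ≤ A := sup_le inf_le_right (Ideal.pow_le_pow_right k.le_succ)
      obtain ⟨y, rfl⟩ := (range_idealMul A N).ge hx₂
      have hux : u (idealMul A N y) ∈ I • (⊤ : Submodule R M) := by
        have : u x₁ ∈ I • (⊤ : Submodule R M) := by
          have := Submodule.mem_map_of_mem (f := u) hx₁
          rw [Submodule.map_smul''] at this
          exact Submodule.smul_mono le_rfl le_top this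
        rw [map_add] at hx
        exact (add_mem_cancel_left this).mp hx
      obtain ⟨w, hw⟩ := (range_idealMul I M).ge hux
      rw [← idealMul_lTensor] at hw
      let pA : A →ₗ[R] R ⧸ I := (Submodule.mkQ (I : Submodule R R)).comp (Submodule.subtype A)
      let jA : (I ⊓ A : Ideal R) →ₗ[R] A := Submodule.inclusion inf_le_right
      have hexA : Function.Exact jA pA.rangeRestrict := by
        rw [LinearMap.exact_iff, LinearMap.ker_rangeRestrict, Submodule.range_inclusion]
        ext z
        simp [pA, Submodule.mem_comap, z.2, Ideal.Quotient.eq_zero_iff_mem]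
      have hz : pA.rTensor M (u.lTensor A y) = 0 := by
        rw [LinearMap.rTensor_comp, LinearMap.comp_apply]
        have h1 : (Submodule.subtype A).rTensor M (u.lTensor A y) = (Submodule.subtype I).rTensor M w :=
          (TensorProduct.lid R M).injective (show idealMul A M _ = idealMul I M _ from hw.symm)
        rw [h1, ← LinearMap.comp_apply, ← LinearMap.rTensor_comp,
          show (Submodule.mkQ (I : Submodule R R)).comp (Submodule.subtype I) = 0 from
            LinearMap.ext fun z ↦ (Submodule.Quotient.mk_eq_zero _).mpr z.2,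
          LinearMap.rTensor_zero, LinearMap.zero_apply]
      have hz' : pA.rangeRestrict.rTensor M (u.lTensor A y) = 0 := by
        refine Module.Flat.rTensor_preserves_injective_linearMap (M := M)
          (LinearMap.range pA).subtype Subtype.val_injective ?_
        rw [map_zero, ← LinearMap.comp_apply, ← LinearMap.rTensor_comp]
        exact hz
      obtain ⟨w', hw'⟩ := (rTensor_exact M hexA pA.surjective_rangeRestrict _).mp hz'
      let CA : Submodule R A := Submodule.comap (Submodule.subtype A) C
      have hV : Module.IsTorsionBySet R (A ⧸ CA) (𝔪 : Set R) := by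
        intro v r
        obtain ⟨v, rfl⟩ := Submodule.Quotient.mk_surjective _ v
        rw [← Submodule.Quotient.mk_smul, Submodule.Quotient.mk_eq_zero]
        show (r : R) * (v : R) ∈ C
        refine Ideal.mem_sup_right ?_
        rw [pow_succ']
        exact Ideal.mul_mem_mul r.2 v.2
      have hy0 : CA.mkQ.rTensor N y = 0 := by
        refine lTensor_residue_injective u h _ hV ?_
        rw [map_zero, ← LinearMap.comp_apply, LinearMap.lTensor_comp_rTensor,
          ← LinearMap.rTensor_comp_lTensor, LinearMap.comp_apply, ← hw', ← LinearMap.comp_apply,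
          ← LinearMap.rTensor_comp,
          show CA.mkQ.comp jA = 0 from LinearMap.ext fun z ↦
            (Submodule.Quotient.mk_eq_zero _).mpr (Ideal.mem_sup_left z.2),
          LinearMap.rTensor_zero, LinearMap.zero_apply]
      obtain ⟨t, rfl⟩ := (rTensor_exact N (LinearMap.exact_subtype_mkQ CA) CA.mkQ_surjective _).mp hy0
      have ht : idealMul A N (CA.subtype.rTensor N t) ∈ C • (⊤ : Submodule R N) := by
        clear hy0 hw' hz' hz hw hux hx₂ hx ih
        induction t using TensorProduct.induction_on with
        | zero => simp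
        | add a b ha hb => simp only [map_add]; exact add_mem ha hb
        | tmul c n =>
          rw [LinearMap.rTensor_tmul, show idealMul A N (CA.subtype c ⊗ₜ n) = ((c : A) : R) • n by
            simp [idealMul]]
          exact Submodule.smul_mem_smul c.2 Submodule.mem_top
      rw [Submodule.sup_smul] at ht
      refine add_mem (Submodule.mem_sup_left hx₁) ?_
      refine (sup_le_sup ?_ le_rfl : _ ≤ I • (⊤ : Submodule R N) ⊔ 𝔪 ^ (k + 1) • ⊤) ht
      exact Submodule.smul_mono inf_le_left le_rfl
  let J := (𝔪).map (algebraMap R S)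
  have hJ : J ≤ Ideal.jacobson ⊥ := by
    rw [IsLocalRing.jacobson_eq_maximalIdeal _ bot_ne_top]
    exact Ideal.map_le_iff_le_comap.mpr (IsLocalRing.maximalIdeal_comap (algebraMap R S)).ge
  let IS : Submodule S N := I.map (algebraMap R S) • ⊤
  have hIS : IS.restrictScalars R = I • (⊤ : Submodule R N) :=
    (Ideal.smul_restrictScalars I (⊤ : Submodule S N)).trans (by rw [Submodule.restrictScalars_top])
  have : IS.mkQ x = 0 := by
    rw [← Submodule.mem_bot S, ← Ideal.iInf_pow_smul_eq_bot_of_le_jacobson (M := N ⧸ IS) J hJ,
      Submodule.mem_iInf]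
    intro k
    obtain ⟨a, ha, b, hb, hab⟩ := Submodule.mem_sup.mp (key k)
    rw [← hab, map_add, show IS.mkQ a = 0 from (Submodule.Quotient.mk_eq_zero _).mpr (hIS.ge ha), zero_add]
    have hb' : b ∈ (J ^ k • (⊤ : Submodule S N)).restrictScalars R := by
      rw [← Ideal.map_pow, Ideal.smul_restrictScalars, Submodule.restrictScalars_top]
      exact hb
    have := Submodule.mem_map_of_mem (f := IS.mkQ) hb'
    rw [Submodule.map_smul''] at this
    exact Submodule.smul_mono le_rfl le_top this
  exact hIS.le ((Submodule.Quotient.mk_eq_zero _).mp this)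

theorem injective_and_flat_coker (S : Type u) [CommRing S] [IsLocalRing R] [IsLocalRing S] [IsNoetherianRing S] [Algebra R S]
    [IsLocalHom (algebraMap R S)] {M N : Type u} [AddCommGroup M] [Module R M] [Module.Flat R M]
    [AddCommGroup N] [Module R N] [Module S N] [IsScalarTower R S N] [Module.Finite S N] (u : N →ₗ[R] M)
    (h : Function.Injective (u.lTensor (IsLocalRing.ResidueField R))) :
    Function.Injective u ∧ Module.Flat R (M ⧸ LinearMap.range u) := by
  refine ⟨(injective_iff_map_eq_zero u).mpr fun x hx ↦ ?_, Module.Flat.iff_rTensor_injective'.mpr fun I ↦ ?_⟩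
  · have := mem_smul_top_of_map_mem S u h ⊥ (x := x) (by rw [hx]; exact zero_mem _)
    rwa [Submodule.bot_smul, Submodule.mem_bot] at this
  · let Q := M ⧸ LinearMap.range u
    let π : M →ₗ[R] Q := (LinearMap.range u).mkQ
    refine (injective_iff_map_eq_zero _).mpr fun z hz ↦ ?_
    obtain ⟨w, rfl⟩ := LinearMap.lTensor_surjective I (Submodule.mkQ_surjective (LinearMap.range u)) z
    have h0 : π (idealMul I M w) = 0 := by
      rw [← idealMul_lTensor, idealMul, LinearMap.comp_apply]
      exact (congr_arg _ hz).trans (map_zero _)
    obtain ⟨n, hn⟩ := (Submodule.Quotient.mk_eq_zero _).mp h0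
    have hnI : n ∈ I • (⊤ : Submodule R N) :=
      mem_smul_top_of_map_mem S u h I (hn.symm ▸ (range_idealMul I M).le ⟨w, rfl⟩)
    obtain ⟨v, rfl⟩ := (range_idealMul I N).ge hnI
    rw [← idealMul_lTensor] at hn
    rw [← idealMul_injective I M hn, ← LinearMap.comp_apply, ← LinearMap.lTensor_comp,
      show π.comp u = 0 from LinearMap.ext fun a ↦ (Submodule.Quotient.mk_eq_zero _).mpr ⟨a, rfl⟩,
      LinearMap.lTensor_zero, LinearMap.zero_apply]

end FlatLib
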