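import Groth.Agent.FlatLib.FlatLocusScheme
import Groth.Prelude.Def_AlgSpMor5
import Groth.Agent.AlgSpLib.LocP
import Groth.Agent.AlgSpLib.Points

/-!
# The flat locus of a morphism of algebraic spaces and its base change
-/

set_option autoImplicit false
universe u

open AlgebraicGeometry CategoryTheory Limits AlgSp AlgSpLib

namespace FlatLib

variable {S : Scheme.{u}}

/-- One chart diagram through a point decides flatness at it. -/
theorem isFlatAtMor_ofPt_iff {F G : Sp S} {f : F ⟶ G} (hf : LocP @LocallyOfFinitePresentation f)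
    {U V : Over S} {a : (yon S).obj U ⟶ F} {b : (yon S).obj V ⟶ G} {k : U ⟶ V}
    (ha : RepWith @Etale a) (hb : RepWith @Etale b) (e : a ≫ f = (yon S).map k ≫ b) (u : ↥U.left) :
    IsFlatAtMor f (Points.ofPt a u) ↔ FlatAt k.left u := by
  refine ⟨fun h ↦ h a b k u ha hb e rfl, fun hk ↦ ?_⟩
  intro U₁ V₁ a₁ b₁ k₁ u₁ ha₁ hb₁ e₁ hu
  obtain ⟨P, p, p₁, sqP⟩ := exists_isPullback_yon a a₁ ha.rep
  obtain ⟨Q, r, r₁, sqQ⟩ := exists_isPullback_yon b b₁ hb.rep
  obtain ⟨w, hw, hw₁⟩ := (ofPt_eq_ofPt_iff sqP u u₁).1 hu.symm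
  obtain ⟨m, hm⟩ := (yon S).map_surjective (sqQ.lift ((yon S).map (p ≫ k)) ((yon S).map (p₁ ≫ k₁)) (by
    rw [Functor.map_comp, Functor.map_comp, Category.assoc, Category.assoc, ← e, ← e₁,
      ← Category.assoc, sqP.w, Category.assoc]))
  have h1 : m ≫ r = p ≫ k :=
    (yon S).map_injective (by rw [Functor.map_comp, hm, sqQ.lift_fst])
  have h2 : m ≫ r₁ = p₁ ≫ k₁ :=
    (yon S).map_injective (by rw [Functor.map_comp, hm, sqQ.lift_snd])
  have : Etale p.left := etale_left (repWith_of_isPullback sqP.flip ha₁)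
  have : Etale p₁.left := etale_left (repWith_of_isPullback sqP ha)
  have : Etale r.left := etale_left (repWith_of_isPullback sqQ.flip hb₁)
  have : Etale r₁.left := etale_left (repWith_of_isPullback sqQ hb)
  have : LocallyOfFinitePresentation k.left := hf a b k ha hb e
  have : LocallyOfFinitePresentation m.left :=
    EtLocProp.cancel_etale (P := @LocallyOfFinitePresentation) m.left r.left (by
      rw [← Over.comp_left, h1, Over.comp_left]; infer_instance)
  have hpk : FlatAt (p.left ≫ k.left) w := flatAt_comp (flatAt_of_flat _ _) (by rw [hw]; exact hk)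
  have hmw : FlatAt m.left w := flatAt_cancel_etale (g := r.left)
    ((flatAt_congr (by rw [← Over.comp_left, h1, Over.comp_left]) w).mpr hpk)
  have h₁ : FlatAt (p₁.left ≫ k₁.left) w :=
    (flatAt_congr (by rw [← Over.comp_left, h2, Over.comp_left]) w).mp
      (flatAt_comp hmw (flatAt_of_flat r₁.left _))
  rw [← hw₁]
  exact flatAt_of_comp (flatAt_of_flat _ _) h₁

/-- The flat locus is open. -/
theorem isOpen_setOf_isFlatAtMor {F G : Sp S} (hF : IsAlgSpace F) (hG : IsAlgSpace G) {f : F ⟶ G}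
    (hf : LocP @LocallyOfFinitePresentation f) : IsOpen {x : Points F | IsFlatAtMor f x} := by
  obtain ⟨U, V, a, b, k, ha, has, hb, -, e⟩ := exists_chart hF hG f
  have : LocallyOfFinitePresentation k.left := hf a b k ha hb e
  have : {x : Points F | IsFlatAtMor f x} = Points.ofPt a '' {u | FlatAt k.left u} := by
    ext x
    obtain ⟨u, rfl⟩ := surjective_ofPt has x
    constructor
    · exact fun h ↦ ⟨u, (isFlatAtMor_ofPt_iff hf ha hb e u).1 h, rfl⟩
    · rintro ⟨u', hu', e'⟩
      rw [Set.mem_setOf_eq, ← e']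
      exact (isFlatAtMor_ofPt_iff hf ha hb e u').2 hu'
  rw [this]
  exact isOpenMap_ofPt ha _ (isOpen_setOf_flat_stalkMap k.left)

/-- A chart of a base change built from charts of the factors. -/
theorem exists_baseChange_chart {F G F' G' : Sp S} {f : F ⟶ G} {g : G' ⟶ G} {fst : F' ⟶ F}
    {snd : F' ⟶ G'} (sq : IsPullback fst snd f g) {V V' U : Over S} {b : (yon S).obj V ⟶ G}
    {b' : (yon S).obj V' ⟶ G'} {v : V' ⟶ V} (hb' : RepWith @Etale b')
    (hbs' : RepWith @Surjective b') (e' : b' ≫ g = (yon S).map v ≫ b)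
    {r : (yon S).obj U ⟶ pullback f b} {h : U ⟶ V} (hr : RepWith @Etale r)
    (hrs : RepWith @Surjective r) (hrh : r ≫ pullback.snd f b = (yon S).map h) :
    ∃ (U' : Over S) (p : U' ⟶ U) (h' : U' ⟶ V') (a' : (yon S).obj U' ⟶ F'),
      IsPullback p h' h v ∧ RepWith @Etale a' ∧ RepWith @Surjective a' ∧
      a' ≫ snd = (yon S).map h' ≫ b' ∧ a' ≫ fst = (yon S).map p ≫ r ≫ pullback.fst f b := by
  have sqU : IsPullback ((yon S).map (pullback.fst h v)) ((yon S).map (pullback.snd h v))
      ((yon S).map h) ((yon S).map v) := (IsPullback.of_hasPullback h v).map (yon S)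
  have hsqF' := IsPullback.of_hasPullback snd b'
  let l : pullback snd b' ⟶ pullback f b := pullback.lift (pullback.fst snd b' ≫ fst)
    (pullback.snd snd b' ≫ (yon S).map v) (by
      rw [Category.assoc, Category.assoc, sq.w, ← e', reassoc_of% hsqF'.w])
  have sqX : IsPullback l (pullback.snd snd b') (pullback.snd f b) ((yon S).map v) := by
    refine IsPullback.of_right ?_ (pullback.lift_snd _ _ _) (IsPullback.of_hasPullback f b)
    rw [pullback.lift_fst, ← e']
    exact hsqF'.paste_horiz sq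
  let m : (yon S).obj (pullback h v) ⟶ pullback snd b' :=
    sqX.lift ((yon S).map (pullback.fst h v) ≫ r) ((yon S).map (pullback.snd h v)) (by
      rw [Category.assoc, hrh]; exact sqU.w)
  have hm : IsPullback ((yon S).map (pullback.fst h v)) m r l := by
    refine IsPullback.of_bot ?_ (sqX.lift_fst _ _ _).symm sqX
    rw [hrh, sqX.lift_snd]
    exact sqU
  refine ⟨pullback h v, pullback.fst h v, pullback.snd h v, m ≫ pullback.fst snd b',
    IsPullback.of_hasPullback h v,
    repWith_comp (repWith_of_isPullback hm hr) (repWith_of_isPullback hsqF'.flip hb'),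
    repWith_comp (repWith_of_isPullback hm hrs) (repWith_of_isPullback hsqF'.flip hbs'), ?_, ?_⟩
  · rw [Category.assoc, hsqF'.w, sqX.lift_snd_assoc]
  · have hl : l ≫ pullback.fst f b = pullback.fst snd b' ≫ fst := pullback.lift_fst _ _ _
    rw [Category.assoc, ← hl, sqX.lift_fst_assoc, Category.assoc]

/-- Formation of the flat locus commutes with base change. -/
theorem isFlatAtMor_baseChange {X Y Z X' Y' Z' : Sp S} (hX : IsAlgSpace X) (hY : IsAlgSpace Y)
    (hZ : IsAlgSpace Z) (hY' : IsAlgSpace Y') (hZ' : IsAlgSpace Z') {f : X ⟶ Y} {h : Y ⟶ Z}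
    (hfp : LocP @LocallyOfFinitePresentation (f ≫ h)) (hfl : LocP @Flat (f ≫ h))
    (hft : LocP @LocallyOfFiniteType h) {g : Z' ⟶ Z} {f' : X' ⟶ Y'} {h' : Y' ⟶ Z'} {pX : X' ⟶ X}
    {pY : Y' ⟶ Y} (sqY : IsPullback pY h' h g) (sqX : IsPullback pX f' f pY) (x' : Points X') :
    IsFlatAtMor f' x' ↔ IsFlatAtMor f (Points.map pX x') := by
  have hf : LocP @LocallyOfFinitePresentation f := locP_lfp_of_comp hX hY hZ hfp hft
  have hf' : LocP @LocallyOfFinitePresentation f' := locP_of_isPullback hX hY hY' sqX hf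
  obtain ⟨W, c, hc, hcs⟩ := hZ.atlas
  obtain ⟨W', c', w, hc', hcs', ec⟩ := exists_chart_over hZ' hZ g c hc hcs
  obtain ⟨V, rV, q, hrV, hrVs, hrVq⟩ := exists_atlas_pullback hY hZ h c
  obtain ⟨V', pV, q', b', sqV, hb', hbs', eb', eb⟩ :=
    exists_baseChange_chart sqY hc' hcs' ec hrV hrVs hrVq
  let b : (yon S).obj V ⟶ Y := rV ≫ pullback.fst h c
  have hb : RepWith @Etale b :=
    repWith_comp hrV (repWith_of_isPullback (IsPullback.of_hasPullback h c).flip hc)
  have hq : b ≫ h = (yon S).map q ≫ c := by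
    simp only [b, Category.assoc, pullback.condition, reassoc_of% hrVq]
  obtain ⟨U, rU, k, hrU, hrUs, hrUk⟩ := exists_atlas_pullback hX hY f b
  obtain ⟨U', pU, k', a', sqU, ha', has', ea', ea⟩ :=
    exists_baseChange_chart sqX hb' hbs' eb hrU hrUs hrUk
  let a : (yon S).obj U ⟶ X := rU ≫ pullback.fst f b
  have ha : RepWith @Etale a :=
    repWith_comp hrU (repWith_of_isPullback (IsPullback.of_hasPullback f b).flip hb)
  have hk : a ≫ f = (yon S).map k ≫ b := by
    simp only [a, Category.assoc, pullback.condition, reassoc_of% hrUk]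
  have hkq : a ≫ f ≫ h = (yon S).map (k ≫ q) ≫ c := by
    rw [reassoc_of% hk, hq, Functor.map_comp, Category.assoc]
  have : LocallyOfFinitePresentation (k.left ≫ q.left) := by
    rw [← Over.comp_left]; exact hfp a c (k ≫ q) ha hc hkq
  have : Flat (k.left ≫ q.left) := by rw [← Over.comp_left]; exact hfl a c (k ≫ q) ha hc hkq
  have : LocallyOfFiniteType q.left := hft b c q hb hc hq
  have : LocallyOfFinitePresentation k.left := lfp_of_comp_lft k.left q.left
  obtain ⟨u', rfl⟩ := surjective_ofPt has' x'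
  rw [isFlatAtMor_ofPt_iff hf' ha' hb' ea', Points.map_ofPt, ea, ofPt_yon_comp,
    isFlatAtMor_ofPt_iff hf ha hb hk]
  have sqU' : IsPullback pU.left k'.left k.left pV.left := sqU.map (Over.forget S)
  have sqV' : IsPullback pV.left q'.left q.left w.left := sqV.map (Over.forget S)
  exact ⟨fun h ↦ flatAt_descend_base sqV' sqU' h, fun h ↦ flatAt_baseChange sqU' h⟩

end FlatLib
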