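import Groth.Agent.FlatLib.FibMaster
import Mathlib

/-! Slicing a flat finitely presented module by an element regular on the fibre (EGA IV 11.3.7). -/

set_option autoImplicit false
universe u

open TensorProduct

namespace FlatLib

/-- A module on which everything outside `P₀` acts bijectively and `x` injectively is flat, when `D` is
valued by the powers of `x`. -/
theorem flat_of_units_of_injective {D : Type u} [CommRing D] [IsDomain D] (P₀ : Ideal D) [P₀.IsPrime]
    (x : D) (hdec : ∀ d : D, d ≠ 0 → ∃ (n : ℕ) (h : D), h ∉ P₀ ∧ d = x ^ n * h)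
    (Q : Type u) [AddCommGroup Q] [Module D Q]
    (hunit : ∀ h ∉ P₀, Function.Bijective fun z : Q ↦ h • z)
    (hx : Function.Injective fun z : Q ↦ x • z) : Module.Flat D Q := by
  classical
  let L := Localization.AtPrime P₀
  have hu : ∀ h : P₀.primeCompl, IsUnit (algebraMap D (Module.End D Q) h) := fun h ↦
    (Module.End.isUnit_iff _).mpr (hunit h h.2)
  haveI : IsLocalizedModule P₀.primeCompl (LinearMap.id : Q →ₗ[D] Q) :=
    ⟨hu, fun z ↦ ⟨⟨z, 1⟩, by simp⟩, fun h ↦ ⟨1, by simpa using h⟩⟩
  let Q' := LocalizedModule P₀.primeCompl Q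
  let e : Q' ≃ₗ[D] Q := IsLocalizedModule.iso P₀.primeCompl LinearMap.id
  haveI : IsDomain L := IsLocalization.isDomain_localization P₀.primeCompl_le_nonZeroDivisors
  have hdecL : ∀ l : L, l ≠ 0 → ∃ (n : ℕ) (w : Lˣ), l = algebraMap D L x ^ n * w := fun l hl ↦ by
    obtain ⟨d, s, rfl⟩ := IsLocalization.exists_mk'_eq P₀.primeCompl l
    have hd : d ≠ 0 := fun h ↦ hl (by rw [h, IsLocalization.mk'_zero])
    obtain ⟨n, h, hh, rfl⟩ := hdec d hd
    refine ⟨n, (IsLocalization.map_units (M := P₀.primeCompl) L ⟨h, hh⟩).unit * (IsLocalization.map_units L s).unit⁻¹, ?_⟩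
    rw [IsLocalization.mk'_eq_mul_mk'_one, map_mul, map_pow, mul_assoc, Units.val_mul, IsUnit.unit_spec]
    congr 2
    rw [← Units.mul_left_inj (IsLocalization.map_units L s).unit, Units.inv_mul, IsUnit.unit_spec,
      IsLocalization.mk'_spec, map_one]
  haveI : ValuationRing L := ValuationRing.iff_dvd_total.mpr ⟨fun a b ↦ by
    rcases eq_or_ne a 0 with rfl | ha
    · exact Or.inr (dvd_zero b)
    rcases eq_or_ne b 0 with rfl | hb
    · exact Or.inl (dvd_zero a)
    obtain ⟨n, v, rfl⟩ := hdecL a ha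
    obtain ⟨m, w, rfl⟩ := hdecL b hb
    rcases le_total n m with h | h
    · exact Or.inl (Units.mul_right_dvd.mpr ((pow_dvd_pow _ h).mul_right _))
    · exact Or.inr (Units.mul_right_dvd.mpr ((pow_dvd_pow _ h).mul_right _))⟩
  haveI : Module.Flat L Q' := by
    rw [Module.Flat.flat_iff_torsion_eq_bot_of_isBezout, eq_bot_iff]
    rintro y ⟨⟨l, hl⟩, hly⟩
    obtain ⟨n, w, rfl⟩ := hdecL l (nonZeroDivisors.ne_zero hl)
    have hly' : (algebraMap D L x ^ n * (w : L)) • y = 0 := hly
    rw [mul_comm, mul_smul, ← map_pow, algebraMap_smul] at hly'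
    have h1 : x ^ n • y = 0 := w.isUnit.smul_eq_zero.mp hly'
    have hpow : ∀ (m : ℕ) (z : Q), x ^ m • z = 0 → z = 0 := fun m ↦ by
      induction m with
      | zero => intro z hz; rwa [pow_zero, one_smul] at hz
      | succ m ih =>
        intro z hz
        rw [pow_succ, mul_smul] at hz
        exact hx ((ih _ hz).trans (smul_zero x).symm)
    exact (Submodule.mem_bot L).mpr (e.injective ((hpow n _ (by rw [← map_smul, h1, map_zero])).trans
      (map_zero e).symm))
  haveI : Module.Flat D Q' := Module.Flat.trans D L Q'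
  exact Module.Flat.of_linearEquiv e.symm

section

variable {R B M : Type u} [CommRing R] [CommRing B] [Algebra R B] [AddCommGroup M] [Module B M]
  [Module R M] [IsScalarTower R B M]

theorem mk_span_singleton_smul_top_eq_zero {f : B} (m : M) :
    (Submodule.Quotient.mk (f • m) : M ⧸ (Ideal.span {f} • (⊤ : Submodule B M))) = 0 :=
  (Submodule.Quotient.mk_eq_zero _).mpr
    (Submodule.smul_mem_smul (Ideal.mem_span_singleton_self f) Submodule.mem_top)

/-- The localized quotient `M_q / f M_q`. -/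
theorem isLocalizedModule_quotient_span (q : Ideal B) [q.IsPrime] (f : B) :
    ∃ φ : (M ⧸ (Ideal.span {f} • (⊤ : Submodule B M))) →ₗ[B]
        (LocalizedModule q.primeCompl M ⧸ (Ideal.span {f} • (⊤ : Submodule B (LocalizedModule q.primeCompl M)))),
      IsLocalizedModule q.primeCompl φ := by
  let Mq := LocalizedModule q.primeCompl M
  let ι := LocalizedModule.mkLinearMap q.primeCompl M
  let N := Ideal.span {f} • (⊤ : Submodule B M)
  let Nq := Ideal.span {f} • (⊤ : Submodule B Mq)
  have hle : N ≤ Nq.comap ι := Submodule.smul_le.mpr fun r hr m _ ↦ by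
    rw [Submodule.mem_comap, map_smul]
    exact Submodule.smul_mem_smul hr Submodule.mem_top
  have hmem : ∀ z ∈ Nq, ∃ w : Mq, f • w = z := fun z hz ↦ by
    simp only [Nq, Submodule.ideal_span_singleton_smul, Submodule.mem_smul_pointwise_iff_exists] at hz
    obtain ⟨w, -, hw⟩ := hz
    exact ⟨w, hw⟩
  refine ⟨Submodule.mapQ N Nq ι hle, ⟨fun t ↦ ?_, fun y ↦ ?_, fun {a b} hab ↦ ?_⟩⟩
  · have hb := (Module.End.isUnit_iff _).mp (IsLocalizedModule.map_units ι t)
    refine (Module.End.isUnit_iff _).mpr ⟨?_, ?_⟩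
    · refine (injective_iff_map_eq_zero _).mpr fun y hy ↦ ?_
      obtain ⟨z, rfl⟩ := Submodule.Quotient.mk_surjective _ y
      obtain ⟨w, hw⟩ := hmem _ ((Submodule.Quotient.mk_eq_zero _).mp hy)
      obtain ⟨w', rfl⟩ := hb.surjective w
      refine (Submodule.Quotient.mk_eq_zero _).mpr ?_
      rw [← hb.injective (show ((t : B) • (f • w') : Mq) = (t : B) • z by rw [smul_comm]; exact hw)]
      exact Submodule.smul_mem_smul (Ideal.mem_span_singleton_self f) Submodule.mem_top
    · intro y
      obtain ⟨z, rfl⟩ := Submodule.Quotient.mk_surjective _ y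
      obtain ⟨w, rfl⟩ := hb.surjective z
      exact ⟨Submodule.Quotient.mk w, rfl⟩
  · obtain ⟨z, rfl⟩ := Submodule.Quotient.mk_surjective _ y
    obtain ⟨⟨m, t⟩, hm⟩ := IsLocalizedModule.surj q.primeCompl ι z
    exact ⟨⟨Submodule.Quotient.mk m, t⟩, congrArg Submodule.Quotient.mk hm⟩
  · obtain ⟨a, rfl⟩ := Submodule.Quotient.mk_surjective _ a
    obtain ⟨b, rfl⟩ := Submodule.Quotient.mk_surjective _ b
    obtain ⟨w, hw⟩ := hmem _ ((Submodule.Quotient.eq _).mp hab)
    obtain ⟨⟨m, t⟩, hm⟩ := IsLocalizedModule.surj q.primeCompl ι w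
    replace hm : (t : B) • w = ι m := hm
    have h1 : ι ((t : B) • (a - b)) = ι (f • m) := by
      rw [map_smul, map_smul, map_sub, ← hm, ← hw, smul_comm]
    obtain ⟨s, hs⟩ := IsLocalizedModule.exists_of_eq (S := q.primeCompl) h1
    refine ⟨s * t, ?_⟩
    rw [Submonoid.smul_def, Submonoid.smul_def, ← sub_eq_zero, ← smul_sub, ← Submodule.Quotient.mk_sub,
      ← Submodule.Quotient.mk_smul, Submonoid.coe_mul, mul_smul]
    rw [Submonoid.smul_def, Submonoid.smul_def] at hs
    rw [hs, smul_comm]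
    exact mk_span_singleton_smul_top_eq_zero _

end

section

theorem mem_smul_top_of_unit_smul {B M Mq : Type u} [CommRing B] [AddCommGroup M] [Module B M]
    [AddCommGroup Mq] [Module B Mq] {ι : M →ₗ[B] Mq} (q : Ideal B) [q.IsPrime]
    [IsLocalizedModule q.primeCompl ι] {J : Ideal B} (t : q.primeCompl) {z : Mq}
    (h : (t : B) • z ∈ J • (⊤ : Submodule B Mq)) : z ∈ J • (⊤ : Submodule B Mq) := by
  let e := LinearEquiv.ofBijective _ ((Module.End.isUnit_iff _).mp (IsLocalizedModule.map_units ι t))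
  have := Submodule.mem_map_of_mem (f := e.symm.toLinearMap) h
  rw [Submodule.map_smul''] at this
  have h2 : e.symm ((t : B) • z) = z := e.symm_apply_apply z
  rw [← h2]
  exact Submodule.smul_mono le_rfl le_top this

variable {R B M : Type u} [CommRing R] [CommRing B] [Algebra R B] [AddCommGroup M] [Module B M]
  [Module R M] [IsScalarTower R B M]

open Polynomial in
set_option maxSynthPendingDepth 6 in
/-- From flatness over `R[X]` (acting by `f`) to regularity of `f` and flatness of the quotient. -/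
theorem slice_of_flat_polynomial (f : B) [Algebra R[X] B] [IsScalarTower R R[X] B]
    (hX : algebraMap R[X] B X = f) [Module R[X] M] [IsScalarTower R[X] B M] [IsScalarTower R R[X] M]
    (q : PrimeSpectrum B) (h : q ∈ flatLocus R[X] B M) :
    (∀ m : M, f • m = 0 → ∃ t ∉ q.asIdeal, t • m = 0) ∧
      q ∈ flatLocus R B (M ⧸ (Ideal.span {f} • (⊤ : Submodule B M))) := by
  let Mq := LocalizedModule q.asIdeal.primeCompl M
  haveI hflat : Module.Flat R[X] Mq := h
  have hXf : ∀ z : Mq, (X : R[X]) • z = f • z := fun z ↦ by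
    rw [← algebraMap_smul B (X : R[X]) z, hX]
  refine ⟨fun m hm ↦ ?_, ?_⟩
  · have h0 : (X : R[X]) • LocalizedModule.mkLinearMap q.asIdeal.primeCompl M m = 0 := by
      rw [hXf, ← map_smul, hm, map_zero]
    have h1 : LocalizedModule.mkLinearMap q.asIdeal.primeCompl M m = 0 := by
      have hb : Submodule.torsion R[X] Mq = ⊥ := Module.Flat.torsion_eq_bot
      rw [← Submodule.mem_bot R[X], ← hb]
      exact ⟨⟨X, isRegular_X.mem_nonZeroDivisors⟩, h0⟩
    obtain ⟨t, ht⟩ := (IsLocalizedModule.eq_zero_iff q.asIdeal.primeCompl _).mp h1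
    exact ⟨t, t.2, ht⟩
  · let J : Ideal R[X] := Ideal.span {X}
    let Y := Mq ⧸ (J • (⊤ : Submodule R[X] Mq))
    haveI : Module.Flat (R[X] ⧸ J) ((R[X] ⧸ J) ⊗[R[X]] Mq) := Module.Flat.baseChange _ _ _
    haveI : Module.Flat (R[X] ⧸ J) Y :=
      Module.Flat.of_linearEquiv (LinearEquiv.extendScalarsOfSurjective (R := R[X]) (S := R[X] ⧸ J)
        Ideal.Quotient.mk_surjective (TensorProduct.quotTensorEquivQuotSMul Mq J)).symm
    have hb : Function.Bijective (algebraMap R (R[X] ⧸ J)) := by
      refine ⟨(injective_iff_map_eq_zero _).mpr fun r hr ↦ ?_, fun z ↦ ?_⟩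
      · have h1 : (C r : R[X]) ∈ J := Ideal.Quotient.eq_zero_iff_mem.mp hr
        rw [Ideal.mem_span_singleton, X_dvd_iff] at h1
        simpa using h1
      · obtain ⟨g, rfl⟩ := Ideal.Quotient.mk_surjective z
        refine ⟨g.coeff 0, Ideal.Quotient.eq.mpr ?_⟩
        rw [Ideal.mem_span_singleton, X_dvd_iff]
        simp
    haveI : Module.Flat R (R[X] ⧸ J) :=
      Module.Flat.of_linearEquiv (LinearEquiv.ofBijective (Algebra.linearMap R (R[X] ⧸ J)) hb).symm
    haveI : Module.Flat R Y := Module.Flat.trans R (R[X] ⧸ J) Y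
    have heq : (J • (⊤ : Submodule R[X] Mq)).restrictScalars R =
        (Ideal.span {f} • (⊤ : Submodule B Mq)).restrictScalars R := by
      ext z
      simp only [Submodule.restrictScalars_mem, J, Submodule.ideal_span_singleton_smul,
        Submodule.mem_smul_pointwise_iff_exists, Submodule.mem_top, true_and, hXf]
    haveI : Module.Flat R (Mq ⧸ (Ideal.span {f} • (⊤ : Submodule B Mq))) :=
      Module.Flat.of_linearEquiv (((Submodule.Quotient.restrictScalarsEquiv R (J • (⊤ : Submodule R[X] Mq))).symm.trans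
        (Submodule.quotEquivOfEq _ _ heq)).trans (Submodule.Quotient.restrictScalarsEquiv R _)).symm
    obtain ⟨φ, hφ⟩ := isLocalizedModule_quotient_span (M := M) q.asIdeal f
    exact flat_of_le q.asIdeal.primeCompl φ q.asIdeal.primeCompl (LocalizedModule.mkLinearMap _ _) le_rfl
      inferInstance

variable [Algebra.FinitePresentation R B] [Module.FinitePresentation B M]

open Polynomial in
set_option maxSynthPendingDepth 6 in
set_option maxHeartbeats 1000000 in
/-- Slicing at a point, with openness. -/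
theorem slice_point (q : PrimeSpectrum B) (f : B) (hf : f ∈ q.asIdeal) (hflat : q ∈ flatLocus R B M)
    (hreg : ∀ m : M,
      (∃ t ∉ q.asIdeal, t • f • m ∈ ((q.asIdeal.comap (algebraMap R B)).map (algebraMap R B)) • (⊤ : Submodule B M)) →
      ∃ t ∉ q.asIdeal, t • m ∈ ((q.asIdeal.comap (algebraMap R B)).map (algebraMap R B)) • (⊤ : Submodule B M)) :
    ∃ U : Set (PrimeSpectrum B), IsOpen U ∧ q ∈ U ∧ ∀ q' ∈ U,
      (∀ m : M, f • m = 0 → ∃ t ∉ q'.asIdeal, t • m = 0) ∧
      q' ∈ flatLocus R B (M ⧸ (Ideal.span {f} • (⊤ : Submodule B M))) := by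
  classical
  letI : Algebra R[X] B := (aeval f).toRingHom.toAlgebra
  haveI : IsScalarTower R R[X] B := IsScalarTower.of_algebraMap_eq fun r ↦ ((aeval f).commutes r).symm
  have hX : algebraMap R[X] B X = f := aeval_X f
  letI : Module R[X] M := Module.compHom M (algebraMap R[X] B)
  haveI : IsScalarTower R[X] B M := IsScalarTower.of_algebraMap_smul fun _ _ ↦ rfl
  haveI : IsScalarTower R R[X] M := IsScalarTower.of_algebraMap_smul fun r m ↦ by
    show algebraMap R[X] B (algebraMap R R[X] r) • m = r • m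
    rw [← IsScalarTower.algebraMap_apply, algebraMap_smul]
  by_cases hnt : Nontrivial (LocalizedModule q.asIdeal.primeCompl M)
  swap
  · -- `M` vanishes near `q`
    rw [not_nontrivial_iff_subsingleton] at hnt
    obtain ⟨s, hs, hsM⟩ : ∃ s ∉ q.asIdeal, ∀ m : M, s • m = 0 := by
      obtain ⟨G, hG⟩ := (inferInstance : Module.Finite B M).fg_top
      choose t ht htm using fun m : M ↦ LocalizedModule.subsingleton_iff.mp hnt m
      refine ⟨∏ g ∈ G, t g, q.asIdeal.primeCompl.prod_mem fun g _ ↦ ht g, fun m ↦ ?_⟩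
      have : (⊤ : Submodule B M) ≤ LinearMap.ker (LinearMap.lsmul B M (∏ g ∈ G, t g)) := by
        rw [← hG, Submodule.span_le]
        intro g hg
        obtain ⟨d, hd⟩ := Finset.dvd_prod_of_mem t hg
        show (∏ g ∈ G, t g) • g = 0
        rw [hd, mul_comm, mul_smul, htm, smul_zero]
      exact this Submodule.mem_top
    refine ⟨PrimeSpectrum.basicOpen s, (PrimeSpectrum.basicOpen s).2, hs, fun q' hq' ↦
      ⟨fun m _ ↦ ⟨s, hq', hsM m⟩, ?_⟩⟩
    haveI : Subsingleton (LocalizedModule q'.asIdeal.primeCompl (M ⧸ (Ideal.span {f} • (⊤ : Submodule B M)))) :=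
      LocalizedModule.subsingleton_iff.mpr fun y ↦ by
        obtain ⟨m, rfl⟩ := Submodule.Quotient.mk_surjective _ y
        exact ⟨s, hq', by rw [← Submodule.Quotient.mk_smul, hsM, Submodule.Quotient.mk_zero]⟩
    show Module.Flat R _
    infer_instance
  let p := q.asIdeal.comap (algebraMap R B)
  let I : Ideal R[X] := p.map (algebraMap R R[X])
  haveI : I.IsPrime := Ideal.isPrime_map_C_of_isPrime (P := p)
  let 𝔭 : Ideal B := p.map (algebraMap R B)
  have hI𝔭 : I.map (algebraMap R[X] B) = 𝔭 := by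
    rw [Ideal.map_map, ← IsScalarTower.algebraMap_eq]
  have h𝔭q : 𝔭 ≤ q.asIdeal := Ideal.map_comap_le
  let J₀ : Ideal R[X] := p.comap constantCoeff
  have hIJ : I ≤ J₀ := Ideal.map_le_iff_le_comap.mpr fun r hr ↦ by
    show constantCoeff (C r) ∈ p
    simpa using hr
  let D := R[X] ⧸ I
  let P₀ : Ideal D := J₀.map (Ideal.Quotient.mk I)
  haveI : P₀.IsPrime := Ideal.map_isPrime_of_surjective Ideal.Quotient.mk_surjective (by rwa [Ideal.mk_ker])
  have hJ₀ : ∀ g : R[X], Ideal.Quotient.mk I g ∈ P₀ → g.coeff 0 ∈ p := fun g hg ↦ by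
    have : g ∈ J₀ ⊔ I := by
      rw [← Ideal.mem_comap, Ideal.comap_map_of_surjective _ Ideal.Quotient.mk_surjective,
        show Ideal.comap (Ideal.Quotient.mk I) ⊥ = I from Ideal.mk_ker] at hg
      exact hg
    rw [sup_of_le_left hIJ] at this
    exact this
  have hdec : ∀ d : D, d ≠ 0 → ∃ (n : ℕ) (h : D), h ∉ P₀ ∧ d = Ideal.Quotient.mk I X ^ n * h := by
    intro d hd
    obtain ⟨g, rfl⟩ := Ideal.Quotient.mk_surjective d
    induction hn : g.natDegree using Nat.strong_induction_on generalizing g with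
    | _ n ih =>
      by_cases h0 : g.coeff 0 ∈ p
      · have hg : g - X * g.divX = C (g.coeff 0) := by
          conv_lhs => arg 1; rw [← X_mul_divX_add g]
          ring
        have hmk : Ideal.Quotient.mk I g = Ideal.Quotient.mk I X * Ideal.Quotient.mk I g.divX := by
          rw [← map_mul, Ideal.Quotient.eq, hg]
          exact Ideal.mem_map_of_mem _ h0
        have hne : Ideal.Quotient.mk I g.divX ≠ 0 := fun h ↦ hd (by rw [hmk, h, mul_zero])
        have hdeg : g.divX.natDegree < n := by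
          rw [← hn, natDegree_divX_eq_natDegree_tsub_one]
          refine Nat.sub_lt (Nat.pos_of_ne_zero fun h ↦ ?_) one_pos
          refine hne ?_
          rw [eq_C_of_natDegree_eq_zero h, divX_C, map_zero]
        obtain ⟨m, h, hh, hgm⟩ := ih _ hdeg g.divX hne rfl
        exact ⟨m + 1, h, hh, by rw [hmk, hgm, pow_succ]; ring⟩
      · exact ⟨0, _, fun h ↦ h0 (hJ₀ g h), by rw [pow_zero, one_mul]⟩
  let Mq := LocalizedModule q.asIdeal.primeCompl M
  let ι := LocalizedModule.mkLinearMap q.asIdeal.primeCompl M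
  let Q := Mq ⧸ (I • (⊤ : Submodule R[X] Mq))
  have hIeq : ∀ z : Mq, z ∈ I • (⊤ : Submodule R[X] Mq) ↔ z ∈ 𝔭 • (⊤ : Submodule B Mq) := fun z ↦ by
    rw [← hI𝔭, ← Submodule.restrictScalars_mem R[X] (Ideal.map (algebraMap R[X] B) I • (⊤ : Submodule B Mq)),
      Ideal.smul_restrictScalars, Submodule.restrictScalars_top]
  have hmem𝔭 : ∀ z : Mq, z ∈ 𝔭 • (⊤ : Submodule B Mq) →
      ∃ (m : M) (t : q.asIdeal.primeCompl), m ∈ 𝔭 • (⊤ : Submodule B M) ∧ (t : B) • z = ι m := by
    intro z hz
    refine Submodule.smul_induction_on hz (fun r hr z _ ↦ ?_) (fun x y hx hy ↦ ?_)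
    ·
      obtain ⟨⟨m, t⟩, hm⟩ := IsLocalizedModule.surj q.asIdeal.primeCompl ι z
      replace hm : (t : B) • z = ι m := hm
      exact ⟨r • m, t, Submodule.smul_mem_smul hr Submodule.mem_top, by rw [map_smul, ← hm, smul_comm]⟩
    · obtain ⟨m, t, hm, hx⟩ := hx
      obtain ⟨m', t', hm', hy⟩ := hy
      refine ⟨(t' : B) • m + (t : B) • m', t * t', add_mem (Submodule.smul_mem _ _ hm)
        (Submodule.smul_mem _ _ hm'), ?_⟩
      rw [map_add, map_smul, map_smul, ← hx, ← hy, Submonoid.coe_mul, smul_add, mul_smul, mul_smul,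
        smul_comm (t' : B) (t : B) x]
  haveI : Module.Flat D Q := by
    refine flat_of_units_of_injective P₀ (Ideal.Quotient.mk I X) hdec Q (fun h hh ↦ ?_) ?_
    · obtain ⟨g, rfl⟩ := Ideal.Quotient.mk_surjective h
      have hb : algebraMap R[X] B g ∉ q.asIdeal := fun hb ↦ by
        have h1 : g.coeff 0 ∉ p := fun h0 ↦ hh (Ideal.mem_map_of_mem _ h0)
        refine h1 ?_
        show algebraMap R B (g.coeff 0) ∈ q.asIdeal
        have h2 : algebraMap R[X] B g = f * algebraMap R[X] B g.divX + algebraMap R B (g.coeff 0) := by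
          conv_lhs => rw [← X_mul_divX_add g]
          rw [map_add, map_mul, hX, IsScalarTower.algebraMap_apply R R[X] B]
          rfl
        rw [h2] at hb
        exact (Ideal.add_mem_iff_right _ (Ideal.mul_mem_right _ _ hf)).mp hb
      have hu := (Module.End.isUnit_iff _).mp (IsLocalizedModule.map_units ι (⟨_, hb⟩ : q.asIdeal.primeCompl))
      have hgz : ∀ z : Mq, algebraMap R[X] B g • z = g • z := fun z ↦ algebraMap_smul B g z
      refine ⟨(injective_iff_map_eq_zero (DistribSMul.toAddMonoidHom Q (Ideal.Quotient.mk I g))).mpr ?_, ?_⟩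
      · intro y hy
        obtain ⟨z, rfl⟩ := Submodule.Quotient.mk_surjective _ y
        have hy' : g • z ∈ I • (⊤ : Submodule R[X] Mq) := (Submodule.Quotient.mk_eq_zero _).mp hy
        rw [hIeq, ← hgz] at hy'
        obtain ⟨m, t, hm, hmt⟩ := hmem𝔭 _ hy'
        obtain ⟨w, hw⟩ := (((Module.End.isUnit_iff _).mp
          (IsLocalizedModule.map_units ι ((⟨_, hb⟩ : q.asIdeal.primeCompl) * t))).surjective (ι m))
        replace hw : (algebraMap R[X] B g * (t : B)) • w = ι m := hw
        refine (Submodule.Quotient.mk_eq_zero _).mpr ((hIeq z).mpr ?_)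
        have : z = w := ((Module.End.isUnit_iff _).mp (IsLocalizedModule.map_units ι ((⟨_, hb⟩ : q.asIdeal.primeCompl) * t))).injective
          (show (algebraMap R[X] B g * (t : B)) • z = (algebraMap R[X] B g * (t : B)) • w by
            rw [hw, mul_comm, mul_smul, hmt])
        rw [this]
        have hιm : ι m ∈ 𝔭 • (⊤ : Submodule B Mq) := by
          have := Submodule.mem_map_of_mem (f := ι) hm
          rw [Submodule.map_smul''] at this
          exact Submodule.smul_mono le_rfl le_top this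
        exact mem_smul_top_of_unit_smul (ι := ι) q.asIdeal ((⟨_, hb⟩ : q.asIdeal.primeCompl) * t) (hw ▸ hιm)
      · intro y
        obtain ⟨z, rfl⟩ := Submodule.Quotient.mk_surjective _ y
        obtain ⟨w, hw⟩ := hu.surjective z
        refine ⟨Submodule.Quotient.mk w, congrArg Submodule.Quotient.mk ?_⟩
        exact (hgz w).symm.trans hw
    · refine (injective_iff_map_eq_zero (DistribSMul.toAddMonoidHom Q (Ideal.Quotient.mk I X))).mpr ?_
      intro y hy
      obtain ⟨z, rfl⟩ := Submodule.Quotient.mk_surjective _ y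
      have hy' : (X : R[X]) • z ∈ I • (⊤ : Submodule R[X] Mq) := (Submodule.Quotient.mk_eq_zero _).mp hy
      rw [hIeq, ← algebraMap_smul B (X : R[X]) z, hX] at hy'
      obtain ⟨m, t, hm, hmt⟩ := hmem𝔭 _ hy'
      obtain ⟨⟨m₁, t₁⟩, hm₁⟩ := IsLocalizedModule.surj q.asIdeal.primeCompl ι z
      replace hm₁ : (t₁ : B) • z = ι m₁ := hm₁
      have h1 : ι ((t : B) • f • m₁) = ι ((t₁ : B) • m) := by
        rw [map_smul, map_smul, map_smul, ← hm₁, ← hmt]; simp only [← mul_smul]; congr 1; ring
      obtain ⟨s, hs⟩ := IsLocalizedModule.exists_of_eq (S := q.asIdeal.primeCompl) h1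
      obtain ⟨t₂, ht₂, hm₂⟩ := hreg m₁ ⟨(s : B) * t, (s * t).2, by
        rw [mul_smul]
        rw [Submonoid.smul_def, Submonoid.smul_def] at hs
        rw [hs]
        exact Submodule.smul_mem _ _ (Submodule.smul_mem _ _ hm)⟩
      refine (Submodule.Quotient.mk_eq_zero _).mpr ((hIeq z).mpr ?_)
      refine mem_smul_top_of_unit_smul (ι := ι) q.asIdeal ((⟨t₂, ht₂⟩ : q.asIdeal.primeCompl) * t₁) ?_
      show (t₂ * (t₁ : B)) • z ∈ _
      rw [mul_smul, hm₁, ← map_smul]
      have := Submodule.mem_map_of_mem (f := ι) hm₂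
      rw [Submodule.map_smul''] at this
      exact Submodule.smul_mono le_rfl le_top this
  have hfib : FibFlat R[X] B M ((q.asIdeal.comap (algebraMap R B)).map (algebraMap R R[X])) q.asIdeal :=
    fun P _ _ hP N x hx ↦ by
      refine (injective_lTensor_localized_iff q.asIdeal.primeCompl ι N.subtype).mp ?_ x hx
      letI := hP.module
      haveI : IsScalarTower R[X] D P := hP.isScalarTower
      have hN : Module.IsTorsionBySet R[X] N (I : Set R[X]) := fun y c ↦ Subtype.ext (hP (x := y.1) (a := c))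
      letI := hN.module
      haveI : IsScalarTower R[X] D N := hN.isScalarTower
      let hq' : N →ₗ[D] P := N.subtype.extendScalarsOfSurjective Ideal.Quotient.mk_surjective
      haveI : Module.Flat D (D ⊗[R[X]] Mq) :=
        Module.Flat.of_linearEquiv (LinearEquiv.extendScalarsOfSurjective (R := R[X]) (S := D)
          Ideal.Quotient.mk_surjective (TensorProduct.quotTensorEquivQuotSMul Mq I))
      exact (injective_lTensor_quotient_iff hq').mp
        (Module.Flat.lTensor_preserves_injective_linearMap hq' Subtype.val_injective)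
  obtain ⟨U, hUo, hqU, hU⟩ := exists_open_of_fibFlat (R := R) (S := R[X]) q hflat hfib hnt
  exact ⟨U, hUo, hqU, fun q' hq' ↦ slice_of_flat_polynomial f hX q' (hU q' hq').1⟩

end

end FlatLib
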