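import Groth.Agent.FlatLib.Slicing
import Groth.Agent.FlatLib.QFCover
import Groth.Agent.CommAlgDim.CM
import Mathlib

/-! Slicing a Cohen-Macaulay point to a quasi-finite flat one (EGA IV 17.16.1). -/

set_option autoImplicit false
universe u

open TensorProduct RingTheory.Sequence IsLocalRing

namespace FlatLib

variable {R B : Type u} [CommRing R] [CommRing B] [Algebra R B]

theorem exists_quotient_sup_equiv (J : Ideal B) (b : B) :
    Nonempty (((B ⧸ J) ⧸ (Ideal.span {b} • (⊤ : Submodule B (B ⧸ J)))) ≃ₗ[B] B ⧸ (J ⊔ Ideal.span {b})) := by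
  let J' := J ⊔ Ideal.span {b}
  let π : (B ⧸ J) →ₗ[B] B ⧸ J' := Submodule.factor le_sup_left
  have hπs : Function.Surjective π := Submodule.factor_surjective le_sup_left
  have hker : LinearMap.ker π = Ideal.span {b} • (⊤ : Submodule B (B ⧸ J)) := by
    rw [show LinearMap.ker π = Submodule.map J.mkQ J' from by
        ext z
        obtain ⟨m, rfl⟩ := Submodule.Quotient.mk_surjective _ z
        have e1 : π (Submodule.Quotient.mk m) = Submodule.Quotient.mk m := rfl
        rw [LinearMap.mem_ker, e1, Submodule.Quotient.mk_eq_zero]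
        refine ⟨fun h ↦ ⟨m, h, rfl⟩, ?_⟩
        rintro ⟨m', hm', hmm⟩
        have h1 : m' - m ∈ J' := le_sup_left (a := J) ((Submodule.Quotient.eq _).mp hmm)
        simpa using sub_mem hm' h1,
      Submodule.map_sup, Submodule.mkQ_map_self, bot_sup_eq, ← Submodule.range_mkQ J, ← Submodule.map_top,
      ← Submodule.map_smul'', Ideal.smul_eq_mul, ← Ideal.one_eq_top, mul_one]
  exact ⟨(Submodule.quotEquivOfEq _ _ hker.symm).trans (π.quotKerEquivOfSurjective hπs)⟩

theorem ofList_take_succ {S : Type u} [CommRing S] (bs : List S) (i : ℕ) (hi : i < bs.length) :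
    Ideal.ofList (bs.take (i + 1)) = Ideal.ofList (bs.take i) ⊔ Ideal.span {bs[i]} := by
  rw [List.take_succ_eq_append_getElem hi, Ideal.ofList_append, Ideal.ofList_singleton]

variable [Algebra.FinitePresentation R B]

/-- Iterated slicing: near `q` each element is regular modulo the previous ones and all quotients are flat. -/
theorem exists_open_slices (q : PrimeSpectrum B) (bs : List B) (hb : ∀ b ∈ bs, b ∈ q.asIdeal)
    (hflat : q ∈ flatLocus R B B)
    (hreg : ∀ (i : ℕ) (hi : i < bs.length) (m : B),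
      (∃ t ∉ q.asIdeal, t * (bs[i] * m) ∈
        Ideal.ofList (bs.take i) ⊔ (q.asIdeal.comap (algebraMap R B)).map (algebraMap R B)) →
      ∃ t ∉ q.asIdeal, t * m ∈ Ideal.ofList (bs.take i) ⊔ (q.asIdeal.comap (algebraMap R B)).map (algebraMap R B))
    (n : ℕ) (hn : n ≤ bs.length) :
    ∃ U : Set (PrimeSpectrum B), IsOpen U ∧ q ∈ U ∧
      (∀ (i : ℕ) (hi : i < bs.length), i < n → ∀ q' ∈ U, ∀ m : B,
        bs[i] * m ∈ Ideal.ofList (bs.take i) → ∃ t ∉ q'.asIdeal, t * m ∈ Ideal.ofList (bs.take i)) ∧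
      ∀ q' ∈ U, q' ∈ flatLocus R B (B ⧸ Ideal.ofList (bs.take n)) := by
  induction n with
  | zero =>
    refine ⟨flatLocus R B B, isOpen_flatLocus_fp, hflat, fun i _ h ↦ absurd h (Nat.not_lt_zero i),
      fun q' hq' ↦ ?_⟩
    let e : B ≃ₗ[B] B ⧸ Ideal.ofList (bs.take 0) :=
      (Submodule.quotEquivOfEqBot _ (by rw [List.take_zero, Ideal.ofList_nil])).symm
    exact flat_of_le q'.asIdeal.primeCompl (LocalizedModule.mkLinearMap _ _) q'.asIdeal.primeCompl
      ((LocalizedModule.mkLinearMap q'.asIdeal.primeCompl (B ⧸ Ideal.ofList (bs.take 0))) ∘ₗ e.toLinearMap)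
      le_rfl hq'
  | succ n ih =>
    have hnl : n < bs.length := hn
    obtain ⟨U, hUo, hqU, hUreg, hUflat⟩ := ih (Nat.le_of_lt hnl)
    let J := Ideal.ofList (bs.take n)
    haveI : Module.FinitePresentation B (B ⧸ J) :=
      Module.finitePresentation_of_surjective J.mkQ J.mkQ_surjective (by
        rw [Submodule.ker_mkQ]
        exact Submodule.fg_span (List.finite_toSet _))
    let p := q.asIdeal.comap (algebraMap R B)
    have hmem : ∀ m : B, (Submodule.Quotient.mk m : B ⧸ J) ∈
        (p.map (algebraMap R B)) • (⊤ : Submodule B (B ⧸ J)) ↔ m ∈ J ⊔ p.map (algebraMap R B) := fun m ↦ by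
      rw [← Submodule.range_mkQ J, ← Submodule.map_top, ← Submodule.map_smul'', Ideal.smul_eq_mul,
        ← Ideal.one_eq_top, mul_one, ← Submodule.comap_map_mkQ J, Submodule.mem_comap]
      rfl
    obtain ⟨U', hU'o, hqU', hU'⟩ := slice_point (M := B ⧸ J) q bs[n] (hb _ (List.getElem_mem hnl))
      (hUflat q hqU) (by
        intro m
        obtain ⟨m, rfl⟩ := Submodule.Quotient.mk_surjective _ m
        rintro ⟨t, ht, htm⟩
        rw [← Submodule.Quotient.mk_smul, ← Submodule.Quotient.mk_smul, hmem, smul_eq_mul, smul_eq_mul] at htm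
        obtain ⟨t', ht', h'⟩ := hreg n hnl m ⟨t, ht, htm⟩
        exact ⟨t', ht', by rw [← Submodule.Quotient.mk_smul, hmem, smul_eq_mul]; exact h'⟩)
    refine ⟨U ∩ U', hUo.inter hU'o, ⟨hqU, hqU'⟩, fun i hi hin q' hq' m hm ↦ ?_, fun q' hq' ↦ ?_⟩
    · rcases Nat.lt_succ_iff_lt_or_eq.mp hin with h | h
      · exact hUreg i hi h q' hq'.1 m hm
      · subst h
        obtain ⟨t, ht, htm⟩ := (hU' q' hq'.2).1 (Submodule.Quotient.mk m) (by
          rw [← Submodule.Quotient.mk_smul, Submodule.Quotient.mk_eq_zero, smul_eq_mul]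
          exact hm)
        rw [← Submodule.Quotient.mk_smul, Submodule.Quotient.mk_eq_zero, smul_eq_mul] at htm
        exact ⟨t, ht, htm⟩
    · obtain ⟨e₀⟩ := exists_quotient_sup_equiv J bs[n]
      let e := e₀.trans (Submodule.quotEquivOfEq _ _ (ofList_take_succ bs n hnl).symm)
      exact flat_of_le q'.asIdeal.primeCompl (LocalizedModule.mkLinearMap _ _) q'.asIdeal.primeCompl
        ((LocalizedModule.mkLinearMap q'.asIdeal.primeCompl (B ⧸ Ideal.ofList (bs.take (n+1)))) ∘ₗ e.toLinearMap)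
        le_rfl (hU' q' hq'.2).2

theorem isWeaklyRegular_away (bs : List B) (g : B) (L : Type u) [CommRing L] [Algebra B L]
    [IsLocalization.Away g L]
    (h : ∀ (i : ℕ) (hi : i < bs.length) (q' : PrimeSpectrum B), g ∉ q'.asIdeal → ∀ m : B,
      bs[i] * m ∈ Ideal.ofList (bs.take i) → ∃ t ∉ q'.asIdeal, t * m ∈ Ideal.ofList (bs.take i)) :
    IsWeaklyRegular L (bs.map (algebraMap B L)) := by
  refine (isWeaklyRegular_iff L _).mpr fun i hi ↦ ?_
  have hi' : i < bs.length := by simpa using hi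
  let J := Ideal.ofList (bs.take i)
  have hJ : Ideal.ofList ((bs.map (algebraMap B L)).take i) • (⊤ : Submodule L L) = J.map (algebraMap B L) := by
    rw [← List.map_take, ← Ideal.map_ofList, Ideal.smul_eq_mul, Ideal.mul_top]
  refine isSMulRegular_iff_right_eq_zero_of_smul.mpr fun y hy ↦ ?_
  obtain ⟨l, rfl⟩ := Submodule.Quotient.mk_surjective _ y
  rw [← Submodule.Quotient.mk_smul, Submodule.Quotient.mk_eq_zero, hJ, List.getElem_map, smul_eq_mul] at hy
  rw [Submodule.Quotient.mk_eq_zero, hJ]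
  obtain ⟨m, s, rfl⟩ := IsLocalization.exists_mk'_eq (Submonoid.powers g) l
  rw [IsLocalization.mul_mk'_eq_mk'_of_mul, IsLocalization.mk'_mem_map_algebraMap_iff] at hy
  rw [IsLocalization.mk'_mem_map_algebraMap_iff]
  obtain ⟨s', hs', hs'm⟩ := hy
  let K : Ideal B :=
    { carrier := {t | t * (s' * m) ∈ J}
      zero_mem' := by simp
      add_mem' := fun {a c} ha hc ↦ by
        show (a + c) * (s' * m) ∈ J
        rw [add_mul]
        exact add_mem ha hc
      smul_mem' := fun c {a} ha ↦ by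
        show c * a * (s' * m) ∈ J
        rw [mul_assoc]
        exact J.mul_mem_left c ha }
  have hg : g ∈ K.radical := by
    rw [Ideal.radical_eq_sInf, Ideal.mem_sInf]
    rintro Q ⟨hKQ, hQ⟩
    by_contra hgQ
    obtain ⟨t, ht, htm⟩ := h i hi' ⟨Q, hQ⟩ hgQ (s' * m) (by rw [mul_left_comm]; exact hs'm)
    exact ht (hKQ htm)
  obtain ⟨k, hk⟩ := hg
  refine ⟨g ^ k * s', mul_mem (pow_mem (Submonoid.mem_powers g) k) hs', ?_⟩
  rw [mul_assoc]
  exact hk

theorem exists_lift_regular_seq_aux {L : Type u} [CommRing L] [Algebra B L] [IsLocalRing L] (q : PrimeSpectrum B)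
    [IsLocalization.AtPrime L q.asIdeal] (pB : Ideal B) (I : Ideal L) (hI : I = pB.map (algebraMap B L))
    [IsNoetherianRing (L ⧸ I)] [IsLocalRing (L ⧸ I)] (hcm : CommAlgDim.IsCM (L ⧸ I)) :
    ∃ bs : List B, (∀ b ∈ bs, b ∈ q.asIdeal) ∧
      (∀ (i : ℕ) (hi : i < bs.length) (m : B),
      (∃ t ∉ q.asIdeal, t * (bs[i] * m) ∈ Ideal.ofList (bs.take i) ⊔ pB) →
      ∃ t ∉ q.asIdeal, t * m ∈ Ideal.ofList (bs.take i) ⊔ pB) ∧
      ∀ P : PrimeSpectrum B, Ideal.ofList bs ⊔ pB ≤ P.asIdeal → P.asIdeal ≤ q.asIdeal → P = q := by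
  classical
  let G := L ⧸ I
  let π : B →+* G := (Ideal.Quotient.mk I).comp (algebraMap B L)
  have hπ : ∀ (J : Ideal B) (m : B), π m ∈ J.map π ↔ ∃ t ∉ q.asIdeal, t * m ∈ J ⊔ pB := by
    intro J m
    rw [show J.map π = (J.map (algebraMap B L)).map (Ideal.Quotient.mk I) from (Ideal.map_map _ _).symm,
      ← Ideal.mem_comap, ← Ideal.comap_comap, Ideal.comap_map_of_surjective _ Ideal.Quotient.mk_surjective,
      show Ideal.comap (Ideal.Quotient.mk I) ⊥ = I from Ideal.mk_ker, hI, ← Ideal.map_sup, Ideal.mem_comap,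
      IsLocalization.algebraMap_mem_map_algebraMap_iff q.asIdeal.primeCompl]
    rfl
  obtain ⟨rs, hrs, hd⟩ := hcm
  have hlift : ∀ r : G, ∃ b : B, Ideal.span {π b} = Ideal.span {r} := fun r ↦ by
    obtain ⟨l, rfl⟩ := Ideal.Quotient.mk_surjective r
    obtain ⟨b, s, rfl⟩ := IsLocalization.exists_mk'_eq q.asIdeal.primeCompl l
    refine ⟨b, ?_⟩
    rw [show π b = Ideal.Quotient.mk I (IsLocalization.mk' L b s) * π (s : B) from by
      show Ideal.Quotient.mk I (algebraMap B L b) = _ * Ideal.Quotient.mk I (algebraMap B L s)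
      rw [← map_mul, IsLocalization.mk'_spec]]
    exact Ideal.span_singleton_mul_right_unit (show IsUnit (π (s : B)) from (Ideal.Quotient.mk I).isUnit_map (IsLocalization.map_units L s)) (Ideal.Quotient.mk I (IsLocalization.mk' L b s))
  choose lb hlb using hlift
  let bs := rs.map lb
  have hof : ∀ l : List G, Ideal.ofList (l.map fun r ↦ π (lb r)) = Ideal.ofList l := fun l ↦ by
    induction l with
    | nil => rfl
    | cons r l ih => rw [List.map_cons, Ideal.ofList_cons, Ideal.ofList_cons, hlb, ih]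
  have hm : ∀ r ∈ rs.map (fun r ↦ π (lb r)), r ∈ maximalIdeal G := fun r hr ↦ by
    obtain ⟨r₀, hr₀, rfl⟩ := List.mem_map.mp hr
    have h1 : π (lb r₀) ∈ Ideal.span {r₀} := hlb r₀ ▸ Ideal.mem_span_singleton_self _
    exact (Ideal.span_singleton_le_iff_mem _).mpr (CommAlgDim.mem_maximalIdeal_of_isRegular hrs _ hr₀) h1
  have hdim : ringKrullDim (G ⧸ Ideal.ofList rs) + rs.length = ringKrullDim G :=
    ringKrullDim_add_length_eq_ringKrullDim_of_isRegular rs hrs
  have hreg' : IsRegular G (rs.map fun r ↦ π (lb r)) :=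
    CommAlgDim.isRegular_of_dim ⟨rs, hrs, hd⟩ hm (by
      rw [List.length_map, ringKrullDim_eq_of_ringEquiv (Ideal.quotEquivOfEq (hof rs)), hdim])
  have hmap : ∀ i, (Ideal.ofList (bs.take i)).map π = Ideal.ofList ((rs.map fun r ↦ π (lb r)).take i) := fun i ↦ by
    rw [Ideal.map_ofList, List.map_take, List.map_map]
    rfl
  refine ⟨bs, fun b hb ↦ ?_, fun i hi m hm' ↦ ?_, fun P hP hPq ↦ ?_⟩
  · obtain ⟨r, hr, rfl⟩ := List.mem_map.mp hb
    have h1 := hm _ (List.mem_map.mpr ⟨r, hr, rfl⟩)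
    by_contra hbq
    exact h1 ((Ideal.Quotient.mk I).isUnit_map (IsLocalization.map_units L (⟨lb r, hbq⟩ : q.asIdeal.primeCompl)))
  · have hi' : i < (rs.map fun r ↦ π (lb r)).length := by simpa [bs] using hi
    rw [← hπ] at hm' ⊢
    rw [hmap] at hm' ⊢
    have hw := (isWeaklyRegular_iff G _).mp hreg'.toIsWeaklyRegular i hi'
    have h0 : (Submodule.Quotient.mk (π m) : G ⧸ (Ideal.ofList ((rs.map fun r ↦ π (lb r)).take i) • (⊤ : Submodule G G))) = 0 := by
      refine hw (Eq.trans ?_ (smul_zero _).symm)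
      show (rs.map fun r ↦ π (lb r))[i] • Submodule.Quotient.mk (π m) = _
      rw [← Submodule.Quotient.mk_smul, Submodule.Quotient.mk_eq_zero, Ideal.smul_eq_mul, Ideal.mul_top,
        smul_eq_mul, List.getElem_map]
      rw [show π (lb (rs[i]'(by simpa [bs] using hi))) = π bs[i] from by simp [bs], ← map_mul]
      exact hm'
    rwa [Submodule.Quotient.mk_eq_zero, Ideal.smul_eq_mul, Ideal.mul_top] at h0
  · -- the quotient by the sequence is Artinian
    have hz : ringKrullDim (G ⧸ Ideal.ofList rs) = 0 := by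
      have h2 := hdim
      rw [hd] at h2
      haveI : Nontrivial (G ⧸ Ideal.ofList rs) := Ideal.Quotient.nontrivial_iff.mpr
        ((Ideal.span_le.mpr fun r hr ↦ CommAlgDim.mem_maximalIdeal_of_isRegular hrs r hr).trans_lt
          (maximalIdeal.isMaximal G).lt_top).ne
      obtain ⟨k, hk⟩ := CommAlgDim.exists_ringKrullDim_eq (R := G ⧸ Ideal.ofList rs)
      rw [hk] at h2 ⊢
      norm_cast at h2 ⊢
      omega
    haveI : Ring.KrullDimLE 0 (G ⧸ Ideal.ofList rs) := by
      rw [Ring.krullDimLE_iff, hz]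
      exact le_rfl
    -- the prime of `G ⧸ (rs)` given by `P`
    let PL : Ideal L := P.asIdeal.map (algebraMap B L)
    have hdisj : Disjoint (q.asIdeal.primeCompl : Set B) P.asIdeal :=
      Set.disjoint_left.mpr fun x hx hxP ↦ hx (hPq hxP)
    haveI hPL : PL.IsPrime := IsLocalization.isPrime_of_isPrime_disjoint q.asIdeal.primeCompl L _ P.isPrime hdisj
    have hIPL : I ≤ PL := by
      rw [hI]
      exact Ideal.map_mono (le_sup_right.trans hP)
    let PG : Ideal G := PL.map (Ideal.Quotient.mk I)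
    haveI : PG.IsPrime := Ideal.map_isPrime_of_surjective Ideal.Quotient.mk_surjective (by rwa [Ideal.mk_ker])
    have hbsPG : Ideal.ofList rs ≤ PG := by
      rw [← hof rs, show (rs.map fun r ↦ π (lb r)) = bs.map π from (List.map_map ..).symm, ← Ideal.map_ofList]
      refine (Ideal.map_mono (le_sup_left.trans hP)).trans (le_of_eq ?_)
      exact (Ideal.map_map _ _).symm
    let PQ : Ideal (G ⧸ Ideal.ofList rs) := PG.map (Ideal.Quotient.mk (Ideal.ofList rs))
    haveI : PQ.IsPrime := Ideal.map_isPrime_of_surjective Ideal.Quotient.mk_surjective (by rwa [Ideal.mk_ker])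
    haveI hPQmax : PQ.IsMaximal := Ideal.IsPrime.isMaximal' inferInstance
    haveI hPGmax : PG.IsMaximal := by
      have : PG = PQ.comap (Ideal.Quotient.mk _) := by
        rw [Ideal.comap_map_of_surjective _ Ideal.Quotient.mk_surjective,
          show Ideal.comap (Ideal.Quotient.mk (Ideal.ofList rs)) ⊥ = Ideal.ofList rs from Ideal.mk_ker,
          sup_eq_left.mpr hbsPG]
      rw [this]
      exact Ideal.comap_isMaximal_of_surjective _ Ideal.Quotient.mk_surjective
    have hPLmax : PL.IsMaximal := by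
      have : PL = PG.comap (Ideal.Quotient.mk I) := by
        rw [Ideal.comap_map_of_surjective _ Ideal.Quotient.mk_surjective,
          show Ideal.comap (Ideal.Quotient.mk I) ⊥ = I from Ideal.mk_ker, sup_eq_left.mpr hIPL]
      rw [this]
      exact Ideal.comap_isMaximal_of_surjective _ Ideal.Quotient.mk_surjective
    refine PrimeSpectrum.ext ?_
    rw [← IsLocalization.under_map_of_isPrime_disjoint q.asIdeal.primeCompl L P.isPrime hdisj]
    show Ideal.comap (algebraMap B L) PL = _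
    rw [IsLocalRing.eq_maximalIdeal hPLmax]
    exact IsLocalization.AtPrime.under_maximalIdeal L q.asIdeal

theorem exists_lift_regular_seq (q : PrimeSpectrum B) [IsNoetherianRing (Localization.AtPrime q.asIdeal ⧸
      (q.asIdeal.comap (algebraMap R B)).map (algebraMap R (Localization.AtPrime q.asIdeal)))]
    [IsLocalRing (Localization.AtPrime q.asIdeal ⧸
      (q.asIdeal.comap (algebraMap R B)).map (algebraMap R (Localization.AtPrime q.asIdeal)))]
    (hcm : CommAlgDim.IsCM (Localization.AtPrime q.asIdeal ⧸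
      (q.asIdeal.comap (algebraMap R B)).map (algebraMap R (Localization.AtPrime q.asIdeal)))) :
    ∃ bs : List B, (∀ b ∈ bs, b ∈ q.asIdeal) ∧
      (∀ (i : ℕ) (hi : i < bs.length) (m : B),
      (∃ t ∉ q.asIdeal, t * (bs[i] * m) ∈
        Ideal.ofList (bs.take i) ⊔ (q.asIdeal.comap (algebraMap R B)).map (algebraMap R B)) →
      ∃ t ∉ q.asIdeal, t * m ∈ Ideal.ofList (bs.take i) ⊔ (q.asIdeal.comap (algebraMap R B)).map (algebraMap R B)) ∧
      ∀ P : PrimeSpectrum B, Ideal.ofList bs ⊔ (q.asIdeal.comap (algebraMap R B)).map (algebraMap R B) ≤ P.asIdeal →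
        P.asIdeal ≤ q.asIdeal → P = q :=
  exists_lift_regular_seq_aux q _ _ (by rw [Ideal.map_map, ← IsScalarTower.algebraMap_eq]) hcm

/-- Slicing a closed Cohen-Macaulay point of a flat locus. -/
theorem exists_cm_slice (q : PrimeSpectrum B) (hflat : q ∈ flatLocus R B B)
    (hclosed : ∀ P : PrimeSpectrum B,
      P.asIdeal.comap (algebraMap R B) = q.asIdeal.comap (algebraMap R B) → q.asIdeal ≤ P.asIdeal → P = q)
    [IsNoetherianRing (Localization.AtPrime q.asIdeal ⧸
      (q.asIdeal.comap (algebraMap R B)).map (algebraMap R (Localization.AtPrime q.asIdeal)))]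
    [IsLocalRing (Localization.AtPrime q.asIdeal ⧸
      (q.asIdeal.comap (algebraMap R B)).map (algebraMap R (Localization.AtPrime q.asIdeal)))]
    (hcm : CommAlgDim.IsCM (Localization.AtPrime q.asIdeal ⧸
      (q.asIdeal.comap (algebraMap R B)).map (algebraMap R (Localization.AtPrime q.asIdeal)))) :
    ∃ g ∉ q.asIdeal, ∃ bs : List B, (∀ b ∈ bs, b ∈ q.asIdeal) ∧
      (∀ P : PrimeSpectrum B, g ∉ P.asIdeal → Ideal.ofList bs ≤ P.asIdeal →
        P.asIdeal.comap (algebraMap R B) = q.asIdeal.comap (algebraMap R B) → P = q) ∧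
      ∀ (L : Type u) [CommRing L] [Algebra B L] [IsLocalization.Away g L] [Algebra R L] [IsScalarTower R B L],
        IsWeaklyRegular L (bs.map (algebraMap B L)) ∧
        Module.Flat R (L ⧸ (Ideal.ofList bs).map (algebraMap B L)) ∧
        Algebra.QuasiFinite R (L ⧸ (Ideal.ofList bs).map (algebraMap B L)) := by
  classical
  obtain ⟨bs, hb, hreg, hiso⟩ := exists_lift_regular_seq (R := R) q hcm
  obtain ⟨U, hUo, hqU, hUreg, hUflat⟩ := exists_open_slices q bs hb hflat hreg bs.length le_rfl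
  rw [List.take_length] at hUflat
  let p : PrimeSpectrum R := PrimeSpectrum.comap (algebraMap R B) q
  let J := Ideal.ofList bs
  let C := B ⧸ J
  haveI : Algebra.FinitePresentation R C :=
    Algebra.FinitePresentation.quotient (Submodule.fg_span (List.finite_toSet _))
  have hJq : J ≤ q.asIdeal := Ideal.span_le.mpr hb
  let mk := Ideal.Quotient.mk J
  let q₁ : PrimeSpectrum C := ⟨q.asIdeal.map mk,
    Ideal.map_isPrime_of_surjective Ideal.Quotient.mk_surjective (by rwa [Ideal.mk_ker])⟩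
  have hq₁ : PrimeSpectrum.comap mk q₁ = q := PrimeSpectrum.ext (by
    show Ideal.comap mk (q.asIdeal.map mk) = q.asIdeal
    rw [Ideal.comap_map_of_surjective _ Ideal.Quotient.mk_surjective,
      show Ideal.comap mk ⊥ = J from Ideal.mk_ker, sup_eq_left.mpr hJq])
  have hq₁p : PrimeSpectrum.comap (algebraMap R C) q₁ = p := by
    rw [show algebraMap R C = mk.comp (algebraMap R B) from rfl, PrimeSpectrum.comap_comp_apply, hq₁]
  -- separate `q` from the other points of the fibre on `V(J)`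
  let F := p.asIdeal.Fiber C
  haveI : IsNoetherianRing F := Algebra.FiniteType.isNoetherianRing p.asIdeal.ResidueField F
  let E := PrimeSpectrum.preimageHomeomorphFiber R C p
  let Q₁ := E ⟨q₁, hq₁p⟩
  have hEsymm : ∀ Q : PrimeSpectrum F, (E.symm Q).1 =
      PrimeSpectrum.comap (Algebra.TensorProduct.includeRight : C →ₐ[R] F).toRingHom Q := fun _ ↦ rfl
  have hsingle : ∀ Q : PrimeSpectrum F, Q ≤ Q₁ ∨ Q₁ ≤ Q → Q = Q₁ := fun Q hQ ↦ by
    let P := PrimeSpectrum.comap mk (E.symm Q).1
    have hPp : P.asIdeal.comap (algebraMap R B) = p.asIdeal := congrArg PrimeSpectrum.asIdeal (E.symm Q).2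
    have hQ₁ : (E.symm Q₁).1 = q₁ := by rw [E.symm_apply_apply]
    have hP : P = q := by
      rcases hQ with hQ | hQ
      · refine hiso P (sup_le ?_ (Ideal.map_le_iff_le_comap.mpr hPp.ge)) ?_
        · intro j hj
          show mk j ∈ (E.symm Q).1.asIdeal
          rw [show mk j = 0 from Ideal.Quotient.eq_zero_iff_mem.mpr hj]
          exact zero_mem _
        · show (PrimeSpectrum.comap mk (E.symm Q).1).asIdeal ≤ q.asIdeal
          rw [← hq₁, ← hQ₁, hEsymm, hEsymm]
          exact Ideal.comap_mono (Ideal.comap_mono hQ)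
      · refine hclosed P hPp ?_
        show q.asIdeal ≤ (PrimeSpectrum.comap mk (E.symm Q).1).asIdeal
        rw [← hq₁, ← hQ₁, hEsymm, hEsymm]
        exact Ideal.comap_mono (Ideal.comap_mono hQ)
    have h2 : (E.symm Q).1 = q₁ :=
      PrimeSpectrum.comap_injective_of_surjective mk Ideal.Quotient.mk_surjective (hP.trans hq₁.symm)
    exact E.symm.injective (Subtype.ext (h2.trans hQ₁.symm))
  have hopen : IsOpen ({Q₁} : Set (PrimeSpectrum F)) := by
    have hmin : Q₁.asIdeal ∈ minimalPrimes F :=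
      ⟨⟨Q₁.isPrime, bot_le⟩, fun Q hQ hle ↦ (congrArg PrimeSpectrum.asIdeal (hsingle ⟨Q, hQ.1⟩ (Or.inl hle))).ge⟩
    obtain ⟨a, ha, haQ⟩ : ∃ a, (∀ Q ∈ minimalPrimes F, Q ≠ Q₁.asIdeal → a ∈ Q) ∧ a ∉ Q₁.asIdeal := by
      have hfin := minimalPrimes.finite_of_isNoetherianRing F
      let T := hfin.toFinset.erase Q₁.asIdeal
      have : ∀ Q ∈ T, ∃ x ∈ Q, x ∉ Q₁.asIdeal := fun Q hQ ↦ by
        obtain ⟨hne, hQ⟩ := Finset.mem_erase.mp hQ
        rw [Set.Finite.mem_toFinset] at hQ
        by_contra! hle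
        exact hne (hQ.1.1 |> fun hQp ↦ congrArg PrimeSpectrum.asIdeal (hsingle ⟨Q, hQp⟩ (Or.inl hle)))
      choose! x hx hxQ using this
      refine ⟨∏ Q ∈ T, x Q, fun Q hQ hne ↦ ?_, Q₁.asIdeal.primeCompl.prod_mem fun Q hQ ↦ hxQ Q hQ⟩
      exact Ideal.prod_mem Q (Finset.mem_erase.mpr ⟨hne, hfin.mem_toFinset.mpr hQ⟩) (hx Q (Finset.mem_erase.mpr ⟨hne, hfin.mem_toFinset.mpr hQ⟩))
    convert (PrimeSpectrum.basicOpen a).2 using 1
    ext Q
    refine ⟨fun h ↦ h ▸ haQ, fun hQ ↦ ?_⟩
    haveI := Q.isPrime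
    obtain ⟨Q', hQ', hle⟩ := Ideal.exists_minimalPrimes_le (bot_le : ⊥ ≤ Q.asIdeal)
    have hQ'e : Q' = Q₁.asIdeal := by
      by_contra hne
      exact hQ (hle (ha Q' hQ' hne))
    exact hsingle Q (Or.inr (show Q₁.asIdeal ≤ Q.asIdeal from hQ'e ▸ hle))
  haveI : q₁.asIdeal.IsPrime := q₁.isPrime
  haveI hqf : Algebra.QuasiFiniteAt R q₁.asIdeal := by
    refine Algebra.QuasiFiniteAt.of_isOpen_singleton_fiber q₁ ?_
    let g : (PrimeSpectrum.comap (algebraMap R C) ⁻¹' {PrimeSpectrum.comap (algebraMap R C) q₁} :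
        Set (PrimeSpectrum C)) → PrimeSpectrum F := fun z ↦ E ⟨z.1, z.2.trans hq₁p⟩
    have hg : Continuous g := E.continuous.comp (continuous_subtype_val.subtype_mk _)
    convert hopen.preimage hg using 1
    ext z
    constructor
    · rintro rfl; rfl
    · intro h
      have h1 : E ⟨z.1, z.2.trans hq₁p⟩ = E ⟨q₁, hq₁p⟩ := h
      exact Subtype.ext (congrArg Subtype.val (E.injective h1) :)
  obtain ⟨S₀, hS₀, r, hr, hbij⟩ :=
    Algebra.QuasiFiniteAt.exists_fg_and_exists_notMem_and_awayMap_bijective (R := R) q₁.asIdeal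
  haveI : Module.Finite R S₀ := ⟨(Submodule.fg_top _).mpr hS₀⟩
  haveI : Algebra.QuasiFinite R (Localization.Away r) := .trans R S₀ _
  haveI : Algebra.QuasiFinite R (Localization.Away r.1) :=
    .of_surjective_algHom (Localization.awayMapₐ S₀.val r) hbij.2
  obtain ⟨c, hc, hcq⟩ := Ideal.exists_not_mem_forall_mem_of_ne_of_liesOver
    (q₁.asIdeal.comap (algebraMap R C)) q₁.asIdeal
  obtain ⟨b₀, hb₀⟩ := Ideal.Quotient.mk_surjective (r.1 * c)
  obtain ⟨_, ⟨h, rfl⟩, hqh, hhU⟩ := PrimeSpectrum.isTopologicalBasis_basic_opens.exists_subset_of_mem_open hqU hUo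
  have hb₀q : b₀ ∉ q.asIdeal := fun hmem ↦ by
    rw [← hq₁] at hmem
    have h1 : mk b₀ ∈ q₁.asIdeal := hmem
    rw [show mk b₀ = r.1 * c from hb₀] at h1
    exact (q₁.isPrime.mem_or_mem h1).elim hr hc
  let g := b₀ * h
  have hgq : g ∉ q.asIdeal := fun hg ↦ (q.isPrime.mem_or_mem hg).elim hb₀q hqh
  have hgU : ∀ P : PrimeSpectrum B, g ∉ P.asIdeal → P ∈ U := fun P hP ↦
    hhU fun hh ↦ hP (Ideal.mul_mem_left _ _ hh)
  refine ⟨g, hgq, bs, hb, fun P hgP hJP hPp ↦ ?_, fun L _ _ _ _ _ ↦ ⟨?_, ?_, ?_⟩⟩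
  · let P₁ : PrimeSpectrum C := ⟨P.asIdeal.map mk,
      Ideal.map_isPrime_of_surjective Ideal.Quotient.mk_surjective (by rwa [Ideal.mk_ker])⟩
    have hP₁ : PrimeSpectrum.comap mk P₁ = P := PrimeSpectrum.ext (by
      show Ideal.comap mk (P.asIdeal.map mk) = P.asIdeal
      rw [Ideal.comap_map_of_surjective _ Ideal.Quotient.mk_surjective,
        show Ideal.comap mk ⊥ = J from Ideal.mk_ker, sup_eq_left.mpr hJP])
    by_contra hne
    haveI : P₁.asIdeal.LiesOver (q₁.asIdeal.comap (algebraMap R C)) := ⟨by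
      show Ideal.comap (algebraMap R C) q₁.asIdeal = Ideal.comap (algebraMap R C) P₁.asIdeal
      rw [show algebraMap R C = mk.comp (algebraMap R B) from rfl, ← Ideal.comap_comap, ← Ideal.comap_comap]
      show Ideal.comap (algebraMap R B) (PrimeSpectrum.comap mk q₁).asIdeal =
        Ideal.comap (algebraMap R B) (PrimeSpectrum.comap mk P₁).asIdeal
      rw [hq₁, hP₁, hPp]⟩
    have h1 : c ∈ P₁.asIdeal := hcq P₁.asIdeal P₁.isPrime (fun e ↦ hne (by
      rw [← hP₁, ← hq₁, PrimeSpectrum.ext e])) inferInstance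
    have h2 : mk b₀ ∈ P₁.asIdeal := by
      rw [show mk b₀ = r.1 * c from hb₀]
      exact Ideal.mul_mem_left _ _ h1
    refine hgP (Ideal.mul_mem_right _ _ ?_)
    rw [← hP₁]
    exact h2
  · exact isWeaklyRegular_away bs g L fun i hi q' hq' ↦ hUreg i hi hi q' (hgU q' hq')
  all_goals
    let gC : C := mk g
    haveI h3 : IsLocalization (Algebra.algebraMapSubmonoid C (Submonoid.powers g))
        (L ⧸ J.map (algebraMap B L)) := inferInstance
    haveI : IsLocalization.Away gC (L ⧸ J.map (algebraMap B L)) := by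
      show IsLocalization (Submonoid.powers gC) _
      rwa [show Algebra.algebraMapSubmonoid C (Submonoid.powers g) = Submonoid.powers gC from
        Submonoid.map_powers _ g] at h3
    haveI : IsScalarTower R C (L ⧸ J.map (algebraMap B L)) := IsScalarTower.of_algebraMap_eq fun x ↦ by
      show Ideal.Quotient.mk _ (algebraMap R L x) = Ideal.Quotient.mk _ (algebraMap B L (algebraMap R B x))
      rw [IsScalarTower.algebraMap_apply R B L]
    let e := (IsLocalization.algEquiv (Submonoid.powers gC) (Localization.Away gC)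
        (L ⧸ J.map (algebraMap B L))).restrictScalars R
  · haveI : Module.Flat R (Localization.Away gC) := flat_away_of_basicOpen gC fun Q hQ ↦ by
      replace hQ : g ∉ (PrimeSpectrum.comap mk Q).asIdeal := hQ
      refine (flat_localized_iff Q.asIdeal.primeCompl (LocalizedModule.mkLinearMap _ _)).mpr fun P _ _ N x hx ↦ ?_
      obtain ⟨t, ht, htx⟩ := (flat_localized_iff (PrimeSpectrum.comap mk Q).asIdeal.primeCompl
        (LocalizedModule.mkLinearMap _ _)).mp (hUflat _ (hgU _ hQ)) P N x hx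
      refine ⟨mk t, ht, ?_⟩
      rw [← htx]
      exact algebraMap_smul C t x
    exact Module.Flat.of_linearEquiv e.toLinearEquiv.symm
  · haveI : Algebra.QuasiFinite R (Localization.Away gC) := by
      have hu : IsUnit (algebraMap C (Localization.Away gC) r.1) := by
        have h1 : IsUnit (algebraMap C (Localization.Away gC) gC) := IsLocalization.Away.algebraMap_isUnit gC
        have h2 : IsUnit (algebraMap C (Localization.Away gC) (r.1 * c * mk h)) := by
          convert h1 using 2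
          rw [← hb₀]; exact (map_mul mk b₀ h).symm
        rw [map_mul, map_mul] at h2
        exact isUnit_of_mul_isUnit_left (isUnit_of_mul_isUnit_left h2)
      let f : Localization.Away r.1 →ₐ[C] Localization.Away gC :=
        IsLocalization.Away.liftAlgHom r.1 (f := Algebra.ofId C _) hu
      refine .of_forall_exists_mul_mem_range (f.restrictScalars R) fun x ↦ ?_
      obtain ⟨x, ⟨s, hs⟩, rfl⟩ := IsLocalization.exists_mk'_eq (Submonoid.powers gC) x
      exact ⟨algebraMap _ _ s,
        by simpa using IsLocalization.map_units (Localization.Away gC) (⟨s, hs⟩ : Submonoid.powers gC),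
        algebraMap C _ x, by simp⟩
    exact Algebra.QuasiFinite.of_surjective_algHom e.toAlgHom e.surjective

end FlatLib
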