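import Groth.Agent.FlatLib.FibFlat
import Mathlib

/-! Descent of flatness of fibres to a smaller base. -/

set_option autoImplicit false
universe u

open TensorProduct LinearMap

namespace FlatLib

/-- A field over a ring is flat on modules killed by the kernel of its structure map. -/
theorem injective_lTensor_field {R L : Type u} [CommRing R] [Field L] [Algebra R L] {N P : Type u}
    [AddCommGroup N] [Module R N] [AddCommGroup P] [Module R P] (h : N →ₗ[R] P)
    (hh : Function.Injective h)
    (hP : Module.IsTorsionBySet R P (RingHom.ker (algebraMap R L) : Set R)) :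
    Function.Injective (h.lTensor L) := by
  let p := RingHom.ker (algebraMap R L)
  haveI : p.IsPrime := RingHom.ker_isPrime _
  let D := R ⧸ p
  letI : Algebra D L := (RingHom.kerLift (algebraMap R L)).toAlgebra
  haveI : IsScalarTower R D L := IsScalarTower.of_algebraMap_eq fun _ ↦ rfl
  have hinj : Function.Injective (algebraMap D L) := RingHom.kerLift_injective _
  haveI : Module.Flat D L := by
    let K := FractionRing D
    letI : Algebra K L := (IsFractionRing.lift hinj).toAlgebra
    haveI : IsScalarTower D K L := IsScalarTower.of_algebraMap_eq fun d ↦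
      (IsFractionRing.lift_algebraMap hinj d).symm
    haveI : Module.Flat D K := IsLocalization.flat K (nonZeroDivisors D)
    exact Module.Flat.trans D K L
  have hN : Module.IsTorsionBySet R N (p : Set R) := fun x r ↦ hh (by
    rw [map_smul, map_zero]; exact hP (x := h x) (a := r))
  letI := hN.module
  haveI : IsScalarTower R D N := hN.isScalarTower
  letI : Module D P := Module.IsTorsionBySet.module hP
  haveI : IsScalarTower R D P := Module.IsTorsionBySet.isScalarTower hP
  let hD : N →ₗ[D] P := h.extendScalarsOfSurjective Ideal.Quotient.mk_surjective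
  have hcomm : ∀ z, hD.lTensor L (TensorProduct.mapOfCompatibleSMul D R R L N z) =
      TensorProduct.mapOfCompatibleSMul D R R L P (h.lTensor L z) := fun z ↦ by
    induction z using TensorProduct.induction_on with
    | zero => simp
    | add a b ha hb => simp only [map_add, ha, hb]
    | tmul l n => rfl
  have hbij : Function.Injective (TensorProduct.mapOfCompatibleSMul D R R L N) := by
    refine fun a b hab ↦ ?_
    haveI : TensorProduct.CompatibleSMul R D L N := ⟨fun d l n ↦ by
      obtain ⟨r, rfl⟩ := Ideal.Quotient.mk_surjective d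
      rw [← Ideal.Quotient.algebraMap_eq, algebraMap_smul, algebraMap_smul, smul_tmul]⟩
    exact (TensorProduct.equivOfCompatibleSMul D R R L N).injective hab
  intro a b hab
  apply hbij
  apply Module.Flat.lTensor_preserves_injective_linearMap (M := L) hD hh
  rw [hcomm, hcomm, hab]

variable {R₁ R S₁ S S'₁ S' M₁ M : Type u} [CommRing R₁] [CommRing R] [CommRing S₁] [CommRing S]
  [CommRing S'₁] [CommRing S'] [Algebra R₁ S₁] [Algebra R₁ S'₁] [Algebra R₁ S'] [Algebra R S]
  [Algebra R S'] [Algebra S₁ S] [Algebra S'₁ S'] [IsScalarTower R₁ S'₁ S']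
  [AddCommGroup M₁] [Module R₁ M₁] [Module S₁ M₁] [IsScalarTower R₁ S₁ M₁]
  [Module S'₁ M₁] [SMulCommClass S₁ S'₁ M₁] [IsScalarTower R₁ S'₁ M₁]
  [AddCommGroup M] [Module R M] [Module S₁ M] [Module S M] [IsScalarTower S₁ S M]
  [IsScalarTower R S M] [Module S' M] [SMulCommClass S S' M] [IsScalarTower R S' M]

/-- Flatness of the fibre descends. -/
theorem fibFlat_descend (q : Ideal S') [q.IsPrime] (T : Type u) [CommRing T] [Algebra S T]
    [Algebra S₁ T] [IsScalarTower S₁ S T] [Algebra q.ResidueField T] [Algebra R₁ T] [Algebra R T]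
    [IsScalarTower R₁ S₁ T] [IsScalarTower R₁ q.ResidueField T] [IsScalarTower R S T]
    [IsScalarTower R q.ResidueField T]
    (hT : Algebra.IsPushout R₁ q.ResidueField S₁ T)
    (hspan : Submodule.span R (Set.range (algebraMap S'₁ S')) = ⊤)
    (ι : M₁ →ₗ[S₁] M) (hι : IsBaseChange S ι)
    (hsmul : ∀ (s : S'₁) (m : M₁), ι (s • m) = algebraMap S'₁ S' s • ι m)
    (h : FibFlat S S' M ((q.comap (algebraMap R S')).map (algebraMap R S)) q) :
    FibFlat S₁ S'₁ M₁ (((q.comap (algebraMap S'₁ S')).comap (algebraMap R₁ S'₁)).map (algebraMap R₁ S₁))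
      (q.comap (algebraMap S'₁ S')) := by
  intro P _ _ hP N x hx
  let L := q.ResidueField
  letI : Module R₁ P := Module.compHom P (algebraMap R₁ S₁)
  haveI : IsScalarTower R₁ S₁ P := IsScalarTower.of_algebraMap_smul fun _ _ ↦ rfl
  let X := M₁ ⊗[S₁] N
  let XP := M₁ ⊗[S₁] P
  let ΨN := (Algebra.IsPushout.cancelBaseChange R₁ L S₁ T N).symm
  let ΨP := (Algebra.IsPushout.cancelBaseChange R₁ L S₁ T P).symm
  let j : T ⊗[S₁] N →ₗ[S] T ⊗[S₁] P := (AlgebraTensorModule.lTensor T T N.subtype).restrictScalars S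
  have hjΨ : ∀ z, j (ΨN z) = ΨP ((N.subtype.restrictScalars R₁).lTensor L z) := fun z ↦ by
    induction z using TensorProduct.induction_on with
    | zero => simp
    | add a b ha hb => simp only [map_add, ha, hb]
    | tmul l n => simp [j, ΨN, ΨP]
  have hker : ∀ c : R₁, algebraMap R₁ L c = 0 →
      algebraMap R₁ S₁ c ∈ ((q.comap (algebraMap S'₁ S')).comap (algebraMap R₁ S'₁)).map
        (algebraMap R₁ S₁) := fun c hc ↦ Ideal.mem_map_of_mem _ (by
    rw [Ideal.mem_comap, Ideal.mem_comap, ← IsScalarTower.algebraMap_apply R₁ S'₁ S',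
      ← Ideal.algebraMap_residueField_eq_zero (I := q), ← IsScalarTower.algebraMap_apply R₁ S' L]
    exact hc)
  have hPkill : Module.IsTorsionBySet R₁ P (RingHom.ker (algebraMap R₁ L) : Set R₁) := fun y c ↦ by
    show (c : R₁) • y = 0
    rw [← algebraMap_smul S₁ (c : R₁) y]
    exact hP (x := y) (a := ⟨_, hker c c.2⟩)
  have hNkill : Module.IsTorsionBySet R₁ N (RingHom.ker (algebraMap R₁ L) : Set R₁) := fun y c ↦
    Subtype.ext (hPkill (x := (y : P)) (a := c))
  have hXkill : Module.IsTorsionBySet R₁ X (RingHom.ker (algebraMap R₁ L) : Set R₁) := fun y c ↦ by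
    show (c : R₁) • y = 0
    induction y using TensorProduct.induction_on with
    | zero => rw [smul_zero]
    | add a b ha hb => rw [smul_add, ha, hb, add_zero]
    | tmul m n =>
      rw [← algebraMap_smul S₁ (c : R₁), ← tmul_smul, algebraMap_smul, show (c : R₁) • n = 0 from
        hNkill (x := n) (a := c), tmul_zero]
  have hjinj : Function.Injective j := fun a b hab ↦ by
    obtain ⟨a, rfl⟩ := ΨN.surjective a
    obtain ⟨b, rfl⟩ := ΨN.surjective b
    rw [hjΨ, hjΨ] at hab
    exact congr_arg ΨN (injective_lTensor_field (N.subtype.restrictScalars R₁)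
      (fun u v huv ↦ Subtype.ext huv) hPkill (ΨP.injective hab))
  -- the comparison map
  let ΨX := (Algebra.IsPushout.cancelBaseChange R₁ L S₁ T X).symm
  let ΨXP := (Algebra.IsPushout.cancelBaseChange R₁ L S₁ T XP).symm
  let cN := TensorProduct.leftComm S₁ T M₁ N
  let cP := TensorProduct.leftComm S₁ T M₁ P
  let Φ : L ⊗[R₁] X → M ⊗[S] (T ⊗[S₁] N) := fun z ↦ kappa (R' := S) ι _ (cN (ΨX z))
  let ΦP : L ⊗[R₁] XP → M ⊗[S] (T ⊗[S₁] P) := fun z ↦ kappa (R' := S) ι _ (cP (ΨXP z))
  have hΦadd : ∀ a b, Φ (a + b) = Φ a + Φ b := fun a b ↦ by simp [Φ]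
  have hΦ0 : Φ 0 = 0 := by simp [Φ]
  have hΦbij : Function.Bijective Φ :=
    (kappa_bijective ι _ hι).comp (cN.bijective.comp ΨX.bijective)
  have hΦtmul : ∀ l m n, Φ (l ⊗ₜ (m ⊗ₜ n)) = ι m ⊗ₜ (algebraMap L T l ⊗ₜ[S₁] n) := fun l m n ↦ by
    simp [Φ, ΨX, cN]
    rfl
  have hnat : ∀ z : L ⊗[R₁] X, j.lTensor M (Φ z) =
      ΦP (((N.subtype.lTensor M₁).restrictScalars R₁).lTensor L z) := fun z ↦ by
    induction z using TensorProduct.induction_on with
    | zero => simp [Φ, ΦP]
    | add a b ha hb => rw [hΦadd, map_add, ha, hb]; simp [ΦP]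
    | tmul l y =>
      induction y using TensorProduct.induction_on with
      | zero => simp [Φ, ΦP]
      | add a b ha hb => rw [tmul_add, hΦadd, map_add, ha, hb]; simp [ΦP]
      | tmul m n => rw [hΦtmul]; simp [ΦP, ΨXP, cP, j]; rfl
  let R' := LinearMap.range j
  have hR'kill : Module.IsTorsionBySet S (T ⊗[S₁] P)
      ((q.comap (algebraMap R S')).map (algebraMap R S) : Set S) := fun y c ↦ by
    have hc0 : algebraMap S T c.1 = 0 := by
      have hle : (q.comap (algebraMap R S')).map (algebraMap R S) ≤ RingHom.ker (algebraMap S T) :=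
        Ideal.map_le_iff_le_comap.mpr fun r hr ↦ by
          show algebraMap S T (algebraMap R S r) = 0
          rw [← IsScalarTower.algebraMap_apply, IsScalarTower.algebraMap_apply R L T,
            IsScalarTower.algebraMap_apply R S' L,
            (Ideal.algebraMap_residueField_eq_zero (I := q)).mpr hr, map_zero]
      exact hle c.2
    show (c : S) • y = 0
    rw [← algebraMap_smul T (c : S) y, hc0, zero_smul]
  obtain ⟨t, ht, htx⟩ := h (T ⊗[S₁] P) hR'kill R' (j.rangeRestrict.lTensor M (Φ (1 ⊗ₜ x))) (by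
    rw [← LinearMap.lTensor_comp_apply, show R'.subtype ∘ₗ j.rangeRestrict = j from rfl, hnat]
    simp [ΦP, hx])
  have htΦ : t • Φ (1 ⊗ₜ x) = 0 := by
    let e := LinearEquiv.ofInjective j hjinj
    apply (LinearEquiv.lTensor M e).injective
    rw [map_zero, ← htx]
    show e.toLinearMap.lTensor M (t • _) = _
    generalize Φ (1 ⊗ₜ x) = z
    induction z using TensorProduct.induction_on with
    | zero => simp
    | add a b ha hb => simp only [smul_add, map_add, ha, hb]
    | tmul m n => rfl
  let tsp : S'₁ →ₗ[S'₁] X := LinearMap.toSpanSingleton S'₁ X x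
  let J : Ideal S'₁ := LinearMap.ker tsp
  by_cases hJ : J ≤ q.comap (algebraMap S'₁ S')
  swap
  · obtain ⟨u, huJ, hu⟩ := SetLike.not_le_iff_exists.mp hJ
    exact ⟨u, hu, huJ⟩
  exfalso
  let hq : (S'₁ ⧸ J) →ₗ[S'₁] X := Submodule.liftQ (LinearMap.ker tsp) tsp le_rfl
  have hhq : Function.Injective hq :=
    LinearMap.ker_eq_bot.mp (Submodule.ker_liftQ_eq_bot (LinearMap.ker tsp) tsp le_rfl le_rfl)
  let h' : (S'₁ ⧸ J) →ₗ[R₁] X := hq.restrictScalars R₁
  have hh' : Function.Injective h' := hhq
  let χ₀ : (S'₁ ⧸ J) →+* L := Ideal.Quotient.lift J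
    ((algebraMap S' L).comp (algebraMap S'₁ S')) fun a ha ↦
      Ideal.algebraMap_residueField_eq_zero.mpr (hJ ha)
  let χ₁ : (S'₁ ⧸ J) →ₗ[R₁] L :=
    { toFun := χ₀
      map_add' := map_add χ₀
      map_smul' := fun c a ↦ by
        obtain ⟨a, rfl⟩ := Ideal.Quotient.mk_surjective a
        rw [← Ideal.Quotient.mkₐ_eq_mk R₁, ← map_smul, RingHom.id_apply]
        show algebraMap S' L (algebraMap S'₁ S' (c • a)) = c • algebraMap S' L (algebraMap S'₁ S' a)
        rw [Algebra.smul_def, map_mul, map_mul, Algebra.smul_def,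
          ← IsScalarTower.algebraMap_apply R₁ S'₁ S', ← IsScalarTower.algebraMap_apply R₁ S' L] }
  let χ : L ⊗[R₁] (S'₁ ⧸ J) →ₗ[L] L := LinearMap.liftBaseChange L χ₁
  have hstep : ∀ (s : S'₁) (z : L ⊗[R₁] X),
      Φ ((AlgebraTensorModule.lTensor L L (Algebra.lsmul R₁ R₁ X s)) z) =
        algebraMap S'₁ S' s • Φ z := fun s z ↦ by
    induction z using TensorProduct.induction_on with
    | zero => simp [hΦ0]
    | add a b ha hb => rw [map_add, hΦadd, hΦadd, smul_add, ha, hb]
    | tmul l y =>
      induction y using TensorProduct.induction_on with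
      | zero => simp [hΦ0]
      | add a b ha hb => rw [tmul_add, map_add, hΦadd, hΦadd, smul_add, ha, hb]
      | tmul m n =>
        rw [AlgebraTensorModule.lTensor_tmul, show (Algebra.lsmul R₁ R₁ X s) (m ⊗ₜ n) = (s • m) ⊗ₜ n from
          smul_tmul' s m n, hΦtmul, hΦtmul, hsmul, smul_tmul']
  have hsm : ∀ (r : R) (z : L ⊗[R₁] X), Φ (algebraMap R L r • z) = r • Φ z := fun r z ↦ by
    induction z using TensorProduct.induction_on with
    | zero => simp [hΦ0]
    | add a b ha hb => rw [smul_add, hΦadd, hΦadd, smul_add, ha, hb]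
    | tmul l y =>
      induction y using TensorProduct.induction_on with
      | zero => simp [hΦ0]
      | add a b ha hb => rw [tmul_add, smul_add, hΦadd, hΦadd, smul_add, ha, hb]
      | tmul m n =>
        rw [smul_tmul', hΦtmul, hΦtmul, smul_eq_mul, map_mul, ← IsScalarTower.algebraMap_apply R L T,
          IsScalarTower.algebraMap_apply R S T, ← Algebra.smul_def, ← smul_tmul', tmul_smul,
          algebraMap_smul]
  have hclaim : ∀ t : S', ∃ w : L ⊗[R₁] (S'₁ ⧸ J),
      t • Φ (1 ⊗ₜ x) = Φ (h'.lTensor L w) ∧ χ w = algebraMap S' L t := fun t ↦ by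
    have ht : t ∈ Submodule.span R (Set.range (algebraMap S'₁ S')) := hspan ▸ Submodule.mem_top
    induction ht using Submodule.span_induction with
    | mem t ht =>
      obtain ⟨s, rfl⟩ := ht
      refine ⟨1 ⊗ₜ Ideal.Quotient.mk J s, ?_, ?_⟩
      · rw [LinearMap.lTensor_tmul, ← hstep, AlgebraTensorModule.lTensor_tmul]
        rfl
      · simp [χ, χ₁, χ₀]
    | zero => exact ⟨0, by simp [hΦ0], by simp⟩
    | add a b _ _ ha hb =>
      obtain ⟨wa, ha, ha'⟩ := ha
      obtain ⟨wb, hb, hb'⟩ := hb
      exact ⟨wa + wb, by rw [add_smul, ha, hb, map_add, hΦadd],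
        by rw [map_add, ha', hb', map_add]⟩
    | smul r a _ ha =>
      obtain ⟨wa, ha, ha'⟩ := ha
      refine ⟨algebraMap R L r • wa, ?_, ?_⟩
      · rw [smul_assoc, ha, ← hsm]
        congr 1
        exact (map_smul (AlgebraTensorModule.lTensor L L h') _ _).symm
      · rw [map_smul, ha', smul_eq_mul, Algebra.smul_def, map_mul,
          ← IsScalarTower.algebraMap_apply R S' L]
  obtain ⟨w, hw, hw'⟩ := hclaim t
  rw [htΦ, ← hΦ0] at hw
  have hw0 : w = 0 := injective_lTensor_field h' hh' hXkill (by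
    rw [map_zero]; exact (hΦbij.1 hw).symm)
  rw [hw0, map_zero] at hw'
  exact ht (Ideal.algebraMap_residueField_eq_zero.mp hw'.symm)

end FlatLib
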