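import Groth.Agent.FlatLib.OpenFP
import Groth.Agent.FlatLib.FibreLocal
import Mathlib

/-! Consequences of faithful flatness at a point. -/

set_option autoImplicit false
universe u

open TensorProduct

namespace FlatLib

theorem eq_zero_of_smul_eq_zero_of_faithfullyFlat {S M : Type u} [CommRing S] [AddCommGroup M]
    [Module S M] [Module.FaithfullyFlat S M] (a : S) (ha : ∀ m : M, a • m = 0) : a = 0 := by
  let N : Submodule S S := Submodule.span S {a}
  have h : Subsingleton (M ⊗[S] N) := ⟨fun x y ↦ by
    refine Module.Flat.lTensor_preserves_injective_linearMap N.subtype Subtype.val_injective ?_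
    have hz : ∀ z : M ⊗[S] N, N.subtype.lTensor M z = 0 := fun z ↦ by
      induction z using TensorProduct.induction_on with
      | zero => simp
      | add b c hb hc => rw [map_add, hb, hc, add_zero]
      | tmul m n =>
        obtain ⟨c, hc⟩ := Submodule.mem_span_singleton.mp n.2
        apply (TensorProduct.rid S M).injective
        rw [LinearMap.lTensor_tmul, TensorProduct.rid_tmul, map_zero, Submodule.subtype_apply, ← hc,
          smul_eq_mul, mul_smul, ha, smul_zero]
    rw [hz, hz]⟩
  have hN : Subsingleton N := Module.FaithfullyFlat.lTensor_reflects_triviality S M N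
  exact congr_arg Subtype.val (Subsingleton.elim (⟨a, Submodule.mem_span_singleton_self a⟩ : N) 0)

/-- An element killing a module which is flat and non-zero at a point dies near the image point. -/
theorem exists_mul_eq_zero_of_nontrivial {P S' M : Type u} [CommRing P] [CommRing S'] [Algebra P S']
    [AddCommGroup M] [Module S' M] [Module P M] [IsScalarTower P S' M] [Module.Finite S' M]
    (q : PrimeSpectrum S') (hflat : q ∈ flatLocus P S' M)
    (hnt : Nontrivial (LocalizedModule q.asIdeal.primeCompl M)) (j : P) (hj : ∀ m : M, j • m = 0) :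
    ∃ t ∉ (q.asIdeal.comap (algebraMap P S')), t * j = 0 := by
  let T := q.asIdeal.primeCompl
  let Mq := LocalizedModule T M
  let y := q.asIdeal.comap (algebraMap P S')
  let S'q := Localization.AtPrime q.asIdeal
  let Py := Localization.AtPrime y
  have : q.asIdeal.LiesOver y := ⟨rfl⟩
  letI := Localization.AtPrime.algebraOfLiesOver y q.asIdeal
  letI : Module Py Mq := Module.compHom Mq (algebraMap Py S'q)
  haveI : IsScalarTower P S'q Mq := IsScalarTower.of_algebraMap_smul fun r x ↦ by
    rw [IsScalarTower.algebraMap_apply P S' S'q, algebraMap_smul, algebraMap_smul]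
  haveI : IsScalarTower Py S'q Mq := IsScalarTower.of_algebraMap_smul fun _ _ ↦ rfl
  haveI : IsScalarTower P Py Mq := IsScalarTower.of_algebraMap_smul fun s x ↦ by
    show algebraMap Py S'q (algebraMap P Py s) • x = s • x
    rw [← IsScalarTower.algebraMap_apply P Py S'q, algebraMap_smul]
  haveI : Module.Finite S'q Mq := Module.Finite.of_isLocalizedModule T (LocalizedModule.mkLinearMap T M)
  haveI : Module.Flat Py Mq := (Module.flat_iff_of_isLocalization Py y.primeCompl Mq).mpr hflat
  haveI := faithfullyFlat_of_flat_local (S := Py) (S' := S'q) (M := Mq)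
  have h0 : algebraMap P Py j = 0 := eq_zero_of_smul_eq_zero_of_faithfullyFlat (M := Mq) _ fun x ↦ by
    rw [algebraMap_smul]
    induction x using LocalizedModule.induction_on with
    | h m s => rw [LocalizedModule.smul'_mk, hj, LocalizedModule.zero_mk]
  obtain ⟨t, ht⟩ := (IsLocalization.map_eq_zero_iff y.primeCompl Py j).mp h0
  exact ⟨t, t.2, ht⟩

theorem mem_flatLocus_of_torsion_ker {R P S : Type u} [CommRing R] [CommRing P] [CommRing S]
    [Algebra R P] [Algebra R S] [Algebra P S] [IsScalarTower R P S]
    (hsurj : Function.Surjective (algebraMap P S)) (y : PrimeSpectrum S)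
    (hker : ∀ j, algebraMap P S j = 0 → ∃ t ∉ y.asIdeal.comap (algebraMap P S), t * j = 0)
    (h : PrimeSpectrum.comap (algebraMap P S) y ∈ flatLocus R P P) :
    y ∈ flatLocus R S S := by
  rw [flatLocus_comap (P := P) hsurj]
  let T := (PrimeSpectrum.comap (algebraMap P S) y).asIdeal.primeCompl
  let ψ : P →ₗ[P] LocalizedModule T S := LocalizedModule.mkLinearMap T S ∘ₗ Algebra.linearMap P S
  haveI : IsLocalizedModule T ψ :=
    { map_units := IsLocalizedModule.map_units (LocalizedModule.mkLinearMap T S)
      surj := fun z ↦ by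
        obtain ⟨⟨s, t⟩, hst⟩ := IsLocalizedModule.surj T (LocalizedModule.mkLinearMap T S) z
        obtain ⟨p, rfl⟩ := hsurj s
        exact ⟨⟨p, t⟩, hst⟩
      exists_of_eq := fun {a b} hab ↦ by
        obtain ⟨c, hc⟩ := IsLocalizedModule.exists_of_eq (S := T) (f := LocalizedModule.mkLinearMap T S)
          (x₁ := algebraMap P S a) (x₂ := algebraMap P S b) hab
        have hc' : algebraMap P S ((c : P) * a - c * b) = 0 := by
          rw [map_sub, map_mul, map_mul, sub_eq_zero, ← Algebra.smul_def, ← Algebra.smul_def]
          exact hc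
        obtain ⟨t, ht, htc⟩ := hker _ hc'
        refine ⟨⟨t, ht⟩ * c, ?_⟩
        rw [Submonoid.smul_def, Submonoid.smul_def, Submonoid.coe_mul, smul_eq_mul, smul_eq_mul]
        rw [mul_sub, sub_eq_zero, ← mul_assoc, ← mul_assoc] at htc
        exact htc }
  exact flat_of_le T (LocalizedModule.mkLinearMap T P) T ψ le_rfl h

end FlatLib
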