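import Mathlib

/-! Base change along maps spanning the target. -/

set_option autoImplicit false
universe u

open TensorProduct

namespace FlatLib

/-- A base change along `R₁ → R` is one along `S₁ → S` when `S` is spanned over `R` by `S₁`. -/
theorem isBaseChange_of_span {R₁ R S₁ S M₁ M : Type u} [CommRing R₁] [CommRing R] [Algebra R₁ R]
    [CommRing S₁] [CommRing S] [Algebra R₁ S₁] [Algebra S₁ S] [Algebra R S] [Algebra R₁ S]
    [IsScalarTower R₁ R S] [IsScalarTower R₁ S₁ S]
    (hspan : Submodule.span R (Set.range (algebraMap S₁ S)) = ⊤)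
    [AddCommGroup M₁] [Module R₁ M₁] [Module S₁ M₁] [IsScalarTower R₁ S₁ M₁]
    [AddCommGroup M] [Module R₁ M] [Module R M] [Module S₁ M] [Module S M] [IsScalarTower R₁ R M]
    [IsScalarTower R₁ S₁ M] [IsScalarTower S₁ S M] [IsScalarTower R S M]
    (ι : M₁ →ₗ[S₁] M) (hι : IsBaseChange R (ι.restrictScalars R₁)) : IsBaseChange S ι := by
  refine IsBaseChange.of_lift_unique _ fun Q _ _ _ _ g ↦ ?_
  letI : Module R₁ Q := Module.compHom Q (algebraMap R₁ S₁)
  haveI : IsScalarTower R₁ S₁ Q := IsScalarTower.of_algebraMap_smul fun _ _ ↦ rfl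
  letI : Module R Q := Module.compHom Q (algebraMap R S)
  haveI : IsScalarTower R S Q := IsScalarTower.of_algebraMap_smul fun _ _ ↦ rfl
  haveI : IsScalarTower R₁ R Q := IsScalarTower.of_algebraMap_smul fun r x ↦ by
    rw [← algebraMap_smul S (algebraMap R₁ R r) x, ← IsScalarTower.algebraMap_apply,
      IsScalarTower.algebraMap_apply R₁ S₁ S, algebraMap_smul, algebraMap_smul]
  let g' := hι.lift (g.restrictScalars R₁)
  have hg' : ∀ m, g' (ι m) = g m := fun m ↦ hι.lift_eq _ m
  have hlin : ∀ (s : S) (z : M), g' (s • z) = s • g' z := fun s z ↦ by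
    have hs : s ∈ Submodule.span R (Set.range (algebraMap S₁ S)) := hspan ▸ Submodule.mem_top
    induction hs using Submodule.span_induction with
    | mem s hs =>
      obtain ⟨s, rfl⟩ := hs
      induction z using hι.inductionOn with
      | zero => simp
      | tmul m =>
        show g' (algebraMap S₁ S s • ι m) = algebraMap S₁ S s • g' (ι m)
        rw [algebraMap_smul, algebraMap_smul, ← map_smul ι, hg', hg', map_smul]
      | smul r z hz => rw [smul_comm, map_smul, hz, map_smul, smul_comm]
      | add a b ha hb => rw [smul_add, map_add, ha, hb, map_add, smul_add]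
    | zero => simp
    | add a b _ _ ha hb => rw [add_smul, map_add, ha, hb, add_smul]
    | smul r a _ ha => rw [smul_assoc, map_smul, ha, smul_assoc]
  refine ⟨{ toFun := g', map_add' := map_add g', map_smul' := hlin }, LinearMap.ext hg',
    fun h hh ↦ LinearMap.ext fun z ↦ ?_⟩
  have : h.restrictScalars R = g' := hι.algHom_ext _ _ fun m ↦ by
    show h (ι m) = g' (ι m)
    rw [hg']
    exact LinearMap.congr_fun hh m
  exact LinearMap.congr_fun this z

/-- Quotients of polynomial rings by extended ideals are pushouts. -/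
theorem span_range_polyQuotient {σ R₁ R : Type u} [CommRing R₁] [CommRing R] [Algebra R₁ R]
    {S₁ S : Type u} [CommRing S₁] [CommRing S] [Algebra R S] [Algebra S₁ S]
    [Algebra (MvPolynomial σ R₁) S₁] (π : MvPolynomial σ R →ₐ[R] S) (hπ : Function.Surjective π)
    (hcomm : ∀ f, algebraMap S₁ S (algebraMap (MvPolynomial σ R₁) S₁ f) =
      π (MvPolynomial.map (algebraMap R₁ R) f)) :
    Submodule.span R (Set.range (algebraMap S₁ S)) = ⊤ := by
  rw [eq_top_iff]
  rintro s -
  obtain ⟨f, rfl⟩ := hπ s
  induction f using MvPolynomial.induction_on' with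
  | monomial n r =>
    have : π (MvPolynomial.monomial n r) = r • π (MvPolynomial.map (algebraMap R₁ R)
        (MvPolynomial.monomial n 1)) := by
      rw [MvPolynomial.map_monomial, map_one, ← map_smul, MvPolynomial.smul_monomial, smul_eq_mul,
        mul_one]
    rw [this, ← hcomm]
    exact Submodule.smul_mem _ _ (Submodule.subset_span ⟨_, rfl⟩)
  | add a b ha hb => rw [map_add]; exact add_mem ha hb

theorem isBaseChange_polyQuotient {σ R₁ R : Type u} [CommRing R₁] [CommRing R] [Algebra R₁ R]
    (J₁ : Ideal (MvPolynomial σ R₁)) (J : Ideal (MvPolynomial σ R))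
    (hJ : J = J₁.map (MvPolynomial.map (algebraMap R₁ R)))
    (φ : MvPolynomial σ R₁ ⧸ J₁ →ₗ[R₁] MvPolynomial σ R ⧸ J)
    (hφ : ∀ f, φ (Ideal.Quotient.mk J₁ f) = Ideal.Quotient.mk J (MvPolynomial.map (algebraMap R₁ R) f)) :
    IsBaseChange R φ := by
  refine IsBaseChange.of_lift_unique _ fun Q _ _ _ _ g ↦ ?_
  letI : AddCommGroup Q := Module.addCommMonoidToAddCommGroup R
  let b := MvPolynomial.basisMonomials σ R
  let g' : MvPolynomial σ R →ₗ[R] Q :=
    b.constr R fun n ↦ g (Ideal.Quotient.mk J₁ (MvPolynomial.monomial n 1))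
  have hmon : ∀ n, g' (MvPolynomial.monomial n 1) =
      g (Ideal.Quotient.mk J₁ (MvPolynomial.monomial n 1)) := fun n ↦ by
    rw [show MvPolynomial.monomial n (1 : R) = b n from
      (congrFun (MvPolynomial.coe_basisMonomials σ R) n).symm]
    exact b.constr_basis R _ n
  have hg' : ∀ f, g' (MvPolynomial.map (algebraMap R₁ R) f) = g (Ideal.Quotient.mk J₁ f) := by
    intro f
    induction f using MvPolynomial.induction_on' with
    | monomial n r =>
      rw [MvPolynomial.map_monomial, show MvPolynomial.monomial n (algebraMap R₁ R r) =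
          algebraMap R₁ R r • MvPolynomial.monomial n 1 by
          rw [MvPolynomial.smul_monomial, smul_eq_mul, mul_one],
        map_smul, hmon, algebraMap_smul, ← map_smul,
        ← Ideal.Quotient.mkₐ_eq_mk R₁ J₁, ← map_smul, MvPolynomial.smul_monomial, smul_eq_mul,
        mul_one]
    | add a b ha hb => simp only [map_add, ha, hb]
  have hker : (J : Submodule (MvPolynomial σ R) _).restrictScalars R ≤ LinearMap.ker g' := by
    intro z hz
    rw [Submodule.restrictScalars_mem, hJ] at hz
    rw [LinearMap.mem_ker]
    have : ∀ (c : MvPolynomial σ R), g' (c * z) = 0 := by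
      induction hz using Submodule.span_induction with
      | mem z hz =>
        obtain ⟨j, hj, rfl⟩ := hz
        intro c
        induction c using MvPolynomial.induction_on' with
        | monomial n r =>
          rw [show MvPolynomial.monomial n r = r • MvPolynomial.map (algebraMap R₁ R)
              (MvPolynomial.monomial n 1) by
              rw [MvPolynomial.map_monomial, map_one, MvPolynomial.smul_monomial, smul_eq_mul, mul_one],
            smul_mul_assoc, ← map_mul, map_smul, hg',
            show Ideal.Quotient.mk J₁ (MvPolynomial.monomial n 1 * j) = 0 from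
              Ideal.Quotient.eq_zero_iff_mem.mpr (J₁.mul_mem_left _ hj), map_zero, smul_zero]
        | add a b ha hb => rw [add_mul, map_add, ha, hb, add_zero]
      | zero => intro c; rw [mul_zero, map_zero]
      | add a b _ _ ha hb => intro c; rw [mul_add, map_add, ha, hb, add_zero]
      | smul d a _ ha => intro c; rw [smul_eq_mul, ← mul_assoc]; exact ha _
    simpa using this 1
  let gl₀ : (MvPolynomial σ R ⧸ (J : Submodule (MvPolynomial σ R) (MvPolynomial σ R)).restrictScalars R)
      →ₗ[R] Q := Submodule.liftQ _ g' hker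
  let gl : (MvPolynomial σ R ⧸ J) →ₗ[R] Q := gl₀ ∘ₗ
    (Submodule.Quotient.restrictScalarsEquiv R (J : Submodule (MvPolynomial σ R) _)).symm.toLinearMap
  have hgl : ∀ f, gl (Ideal.Quotient.mk J f) = g' f := fun f ↦ rfl
  refine ⟨gl, ?_, fun h hh ↦ ?_⟩
  · refine LinearMap.ext fun z ↦ ?_
    obtain ⟨f, rfl⟩ := Ideal.Quotient.mk_surjective z
    show gl (φ _) = _
    rw [hφ, hgl, hg']
  · refine LinearMap.ext fun z ↦ ?_
    obtain ⟨f, rfl⟩ := Ideal.Quotient.mk_surjective z
    rw [hgl]
    induction f using MvPolynomial.induction_on' with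
    | monomial n r =>
      rw [show MvPolynomial.monomial n r = r • MvPolynomial.monomial n 1 by
          rw [MvPolynomial.smul_monomial, smul_eq_mul, mul_one],
        ← Ideal.Quotient.mkₐ_eq_mk R J, map_smul, map_smul, map_smul, hmon]
      congr 1
      have := LinearMap.congr_fun hh (Ideal.Quotient.mk J₁ (MvPolynomial.monomial n 1))
      rw [LinearMap.comp_apply, LinearMap.restrictScalars_apply, hφ, MvPolynomial.map_monomial,
        map_one] at this
      exact this
    | add a b ha hb => simp only [map_add, ha, hb]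

end FlatLib
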