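import Groth.Agent.FlatLib.FibDescent
import Groth.Agent.FlatLib.FibTorsion
import Groth.Agent.FlatLib.Span
import Mathlib

/-! The fibrewise criterion at a point, by descent to a Noetherian stage. -/

set_option autoImplicit false
universe u

open TensorProduct

attribute [local instance] MvPolynomial.algebraMvPolynomial

namespace FlatLib

theorem map_killCompl {σ τ A B : Type u} [CommRing A] [CommRing B] (f : A →+* B) {e : σ → τ}
    (he : Function.Injective e) (p : MvPolynomial τ A) :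
    MvPolynomial.map f (MvPolynomial.killCompl he p) =
      MvPolynomial.killCompl he (MvPolynomial.map f p) := by
  induction p using MvPolynomial.induction_on with
  | C a => simp [MvPolynomial.killCompl]
  | add a b ha hb => simp only [map_add, ha, hb]
  | mul_X a i ha =>
    simp only [map_mul, ha, MvPolynomial.map_X]
    congr 1
    simp only [MvPolynomial.killCompl, MvPolynomial.aeval_X]
    split_ifs <;> simp

theorem map_smul_bc_eq_zero {ρ A M₀ R : Type u} [CommRing A] [AddCommGroup M₀] [Module A M₀]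
    [Module (MvPolynomial ρ A) M₀] [CommRing R] [Algebra A R] (g : MvPolynomial ρ A)
    (hg : ∀ m : M₀, g • m = 0) (x : BC ρ A M₀ R) :
    MvPolynomial.map (algebraMap A R) g • x = 0 := by
  induction x using TensorProduct.induction_on with
  | zero => exact smul_zero _
  | add a b ha hb => rw [smul_add, ha, hb, add_zero]
  | tmul s m =>
    rw [smul_tmul', smul_eq_mul,
      show MvPolynomial.map (algebraMap A R) g * s = g • s from (Algebra.smul_def g s).symm,
      smul_tmul, hg m, tmul_zero]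

theorem of_stage_abstract {R₁ R S₁ S S'₁ S' St M₁ M : Type u} [CommRing R₁] [CommRing R]
    [CommRing S₁] [CommRing S] [CommRing S'₁] [CommRing S'] [CommRing St] [IsNoetherianRing S₁]
    [IsNoetherianRing S'₁]
    [Algebra R₁ R] [Algebra R₁ S₁] [Algebra R₁ S'₁] [Algebra R₁ S'] [Algebra R₁ St] [Algebra R₁ S]
    [Algebra S₁ S'₁] [Algebra S₁ S] [Algebra S₁ St] [Algebra S₁ S'] [Algebra S'₁ S']
    [Algebra R S] [Algebra R St] [Algebra R S'] [Algebra S S'] [Algebra St S']
    [IsScalarTower R₁ S₁ S'₁] [IsScalarTower R₁ S'₁ S'] [IsScalarTower R₁ R St]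
    [IsScalarTower R₁ S₁ St] [IsScalarTower R₁ R S] [IsScalarTower R₁ S₁ S]
    [IsScalarTower S₁ S'₁ S'] [IsScalarTower S₁ St S']
    [AddCommGroup M₁] [Module R₁ M₁] [Module S₁ M₁] [Module S'₁ M₁] [IsScalarTower R₁ S₁ M₁]
    [IsScalarTower S₁ S'₁ M₁] [IsScalarTower R₁ S'₁ M₁] [Module.Finite S'₁ M₁]
    [AddCommGroup M] [Module R₁ M] [Module R M] [Module S₁ M] [Module S M] [Module St M] [Module S' M]
    [IsScalarTower R₁ R M] [IsScalarTower R₁ S₁ M] [IsScalarTower S₁ S M] [IsScalarTower S₁ St M]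
    [IsScalarTower R S M] [IsScalarTower R St S'] [IsScalarTower S S' M] [IsScalarTower St S' M]
    [IsScalarTower R S' M] (q : PrimeSpectrum S')
    (T : Type u) [CommRing T] [Algebra S T] [Algebra S₁ T] [IsScalarTower S₁ S T]
    [Algebra q.asIdeal.ResidueField T] [Algebra R₁ T] [Algebra R T] [IsScalarTower R₁ S₁ T]
    [IsScalarTower R₁ q.asIdeal.ResidueField T] [IsScalarTower R S T]
    [IsScalarTower R q.asIdeal.ResidueField T]
    (hT : Algebra.IsPushout R₁ q.asIdeal.ResidueField S₁ T)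
    (hspanS : Submodule.span R (Set.range (algebraMap S₁ S)) = ⊤)
    (hspanSt : Submodule.span R (Set.range (algebraMap S₁ St)) = ⊤)
    (hspanS' : Submodule.span R (Set.range (algebraMap S'₁ S')) = ⊤)
    (hbc : IsBaseChange R (IsScalarTower.toAlgHom R₁ S₁ St).toLinearMap)
    (ι : M₁ →ₗ[S₁] M) (hι : IsBaseChange R (ι.restrictScalars R₁))
    (hsmul : ∀ (a : S'₁) (m : M₁), ι (a • m) = algebraMap S'₁ S' a • ι m)
    (hflat₁ : PrimeSpectrum.comap (algebraMap S'₁ S') q ∈ flatLocus R₁ S'₁ M₁)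
    (hfib : FibFlat S S' M ((q.asIdeal.comap (algebraMap R S')).map (algebraMap R S)) q.asIdeal)
    (hnt : Nontrivial (LocalizedModule q.asIdeal.primeCompl M)) :
    q ∈ flatLocus St S' M ∧ PrimeSpectrum.comap (algebraMap St S') q ∈ flatLocus R St St := by
  haveI : IsScalarTower R St M := IsScalarTower.of_algebraMap_smul fun r m ↦ by
    rw [← algebraMap_smul S' (algebraMap R St r) m, ← IsScalarTower.algebraMap_apply, algebraMap_smul]
  let q₁ : PrimeSpectrum S'₁ := PrimeSpectrum.comap (algebraMap S'₁ S') q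
  have hιS : IsBaseChange S ι := isBaseChange_of_span hspanS ι hι
  have hfib₁ : FibFlat S₁ S'₁ M₁
      ((q₁.asIdeal.comap (algebraMap R₁ S'₁)).map (algebraMap R₁ S₁)) q₁.asIdeal :=
    fibFlat_descend q.asIdeal T hT hspanS' ι hιS hsmul hfib
  have hnt₁ : Nontrivial (LocalizedModule q₁.asIdeal.primeCompl M₁) := by
    by_contra hns
    rw [not_nontrivial_iff_subsingleton, LocalizedModule.subsingleton_iff] at hns
    refine not_subsingleton (LocalizedModule q.asIdeal.primeCompl M) ?_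
    rw [LocalizedModule.subsingleton_iff]
    intro z
    induction z using hι.inductionOn with
    | zero => exact ⟨1, q.asIdeal.primeCompl.one_mem, smul_zero _⟩
    | tmul m =>
      obtain ⟨t, ht, htm⟩ := hns m
      exact ⟨algebraMap S'₁ S' t, ht, by
        rw [LinearMap.restrictScalars_apply, ← hsmul, htm, map_zero]⟩
    | smul r z hz =>
      obtain ⟨t, ht, htz⟩ := hz
      exact ⟨t, ht, by rw [smul_comm, htz, smul_zero]⟩
    | add a b ha hb =>
      obtain ⟨ta, hta, ha⟩ := ha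
      obtain ⟨tb, htb, hb⟩ := hb
      exact ⟨ta * tb, q.asIdeal.primeCompl.mul_mem hta htb, by
        rw [smul_add, mul_smul ta tb b, hb, smul_zero, mul_comm, mul_smul, ha, smul_zero, add_zero]⟩
  obtain ⟨hflatS, hflatR⟩ := mem_flatLocus_of_fibFlat_noetherian (R := R₁) (S := S₁) q₁ hflat₁ hfib₁
  constructor
  · exact flat_localized_baseChange q₁.asIdeal.primeCompl (LocalizedModule.mkLinearMap _ M₁)
      q.asIdeal.primeCompl (LocalizedModule.mkLinearMap _ M) (algebraMap S'₁ S') (fun t ht ↦ ht) ι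
      (isBaseChange_of_span hspanSt ι hι) hsmul hflatS
  · let y₁ := PrimeSpectrum.comap (algebraMap S₁ S'₁) q₁
    let y := PrimeSpectrum.comap (algebraMap St S') q
    have hyy : ∀ t ∈ y₁.asIdeal.primeCompl, algebraMap S₁ St t ∈ y.asIdeal.primeCompl :=
      fun t ht h ↦ ht (by
        show algebraMap S'₁ S' (algebraMap S₁ S'₁ t) ∈ q.asIdeal
        rw [← IsScalarTower.algebraMap_apply, IsScalarTower.algebraMap_apply S₁ St S']
        exact h)
    exact flat_localized_baseChange y₁.asIdeal.primeCompl (LocalizedModule.mkLinearMap _ S₁)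
      y.asIdeal.primeCompl (LocalizedModule.mkLinearMap _ St) (algebraMap S₁ St) hyy
      (IsScalarTower.toAlgHom R₁ S₁ St).toLinearMap hbc (fun s m ↦ map_mul (algebraMap S₁ St) s m)
      (hflatR hnt₁)

set_option maxSynthPendingDepth 6 in
theorem exists_residueQuotient {σ R S R₁ : Type u} [CommRing R] [CommRing S] [Algebra R S]
    [CommRing R₁] [Algebra R₁ R] (π : MvPolynomial σ R →ₐ[R] S) (hπ : Function.Surjective π)
    (J₁ : Ideal (MvPolynomial σ R₁)) [Algebra (MvPolynomial σ R₁ ⧸ J₁) S]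
    (hS₁S : ∀ f, algebraMap (MvPolynomial σ R₁ ⧸ J₁) S (Ideal.Quotient.mk J₁ f) =
      π (MvPolynomial.map (algebraMap R₁ R) f))
    (L : Type u) [CommRing L] [Algebra R L] [Algebra R₁ L] [IsScalarTower R₁ R L]
    (G : Finset (MvPolynomial σ R))
    (hGJ : (RingHom.ker π.toRingHom).map (MvPolynomial.map (algebraMap R L)) ≤
      (Ideal.span (G : Set (MvPolynomial σ R))).map (MvPolynomial.map (algebraMap R L)))
    (hJ₁ : J₁.map (MvPolynomial.map ((algebraMap R L).comp (algebraMap R₁ R))) =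
      (Ideal.span (G : Set (MvPolynomial σ R))).map (MvPolynomial.map (algebraMap R L))) :
    ∃ (T : Type u) (_ : CommRing T) (_ : Algebra S T) (_ : Algebra (MvPolynomial σ R₁ ⧸ J₁) T)
      (_ : Algebra L T) (_ : Algebra R₁ T) (_ : Algebra R T)
      (_ : IsScalarTower (MvPolynomial σ R₁ ⧸ J₁) S T)
      (_ : IsScalarTower R₁ (MvPolynomial σ R₁ ⧸ J₁) T) (_ : IsScalarTower R₁ L T)
      (_ : IsScalarTower R S T) (_ : IsScalarTower R L T),
      Algebra.IsPushout R₁ L (MvPolynomial σ R₁ ⧸ J₁) T := by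
  let JL : Ideal (MvPolynomial σ L) := J₁.map (MvPolynomial.map (algebraMap R₁ L))
  letI algS₁ : Algebra (MvPolynomial σ R₁ ⧸ J₁) (MvPolynomial σ L ⧸ JL) :=
    (Ideal.quotientMap JL (MvPolynomial.map (algebraMap R₁ L)) Ideal.le_comap_map).toAlgebra
  have hπT : ∀ f, π f = 0 → Ideal.Quotient.mk JL (MvPolynomial.map (algebraMap R L) f) = 0 := by
    intro f hf
    rw [Ideal.Quotient.eq_zero_iff_mem]
    have := hGJ (Ideal.mem_map_of_mem _ (show f ∈ RingHom.ker π.toRingHom from hf))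
    rw [← hJ₁, ← IsScalarTower.algebraMap_eq] at this
    exact this
  letI algS : Algebra S (MvPolynomial σ L ⧸ JL) := (RingHom.liftOfSurjective π.toRingHom hπ
    ⟨(Ideal.Quotient.mk JL).comp (MvPolynomial.map (algebraMap R L)), hπT⟩).toAlgebra
  have hST : ∀ f, algebraMap S (MvPolynomial σ L ⧸ JL) (π f) =
      Ideal.Quotient.mk JL (MvPolynomial.map (algebraMap R L) f) :=
    fun f ↦ RingHom.liftOfRightInverse_comp_apply _ _ _ _ f
  haveI t1 : IsScalarTower (MvPolynomial σ R₁ ⧸ J₁) S (MvPolynomial σ L ⧸ JL) := by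
    refine IsScalarTower.of_algebraMap_eq fun x ↦ ?_
    obtain ⟨f, rfl⟩ := Ideal.Quotient.mk_surjective x
    rw [hS₁S, hST, MvPolynomial.map_map, ← IsScalarTower.algebraMap_eq]
    rfl
  haveI t2 : IsScalarTower R S (MvPolynomial σ L ⧸ JL) := by
    refine IsScalarTower.of_algebraMap_eq fun r ↦ ?_
    rw [← π.commutes, hST, MvPolynomial.algebraMap_eq, MvPolynomial.map_C]
    rfl
  haveI t3 : IsScalarTower R₁ (MvPolynomial σ R₁ ⧸ J₁) (MvPolynomial σ L ⧸ JL) := by
    refine IsScalarTower.of_algebraMap_eq fun r ↦ ?_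
    show Ideal.Quotient.mk JL (algebraMap R₁ (MvPolynomial σ L) r) =
      Ideal.Quotient.mk JL (MvPolynomial.map (algebraMap R₁ L) (algebraMap R₁ _ r))
    rw [MvPolynomial.algebraMap_eq, MvPolynomial.map_C, MvPolynomial.algebraMap_apply]
  exact ⟨MvPolynomial σ L ⧸ JL, inferInstance, algS, algS₁, inferInstance, inferInstance,
    inferInstance, t1, t3, inferInstance, t2, inferInstance,
    ⟨isBaseChange_polyQuotient J₁ JL rfl _ fun f ↦ rfl⟩⟩

set_option maxSynthPendingDepth 6 in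
theorem of_stage {R S S' M : Type u} [CommRing R] [CommRing S] [CommRing S']
    [Algebra R S] [Algebra S S'] [Algebra R S'] [IsScalarTower R S S'] [AddCommGroup M] [Module R M]
    [Module S M] [Module S' M] [IsScalarTower R S M] [IsScalarTower S S' M] [IsScalarTower R S' M]
    {σ τ : Type u} [Finite σ] [Finite τ]
    (π : MvPolynomial σ R →ₐ[R] S) (hπ : Function.Surjective π)
    (π' : MvPolynomial (σ ⊕ τ) R →ₐ[R] S') (hπ' : Function.Surjective π')
    (hππ : ∀ f, π' (MvPolynomial.rename Sum.inl f) = algebraMap S S' (π f))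
    (q : PrimeSpectrum S') (G : Finset (MvPolynomial σ R)) (hG : ∀ g ∈ G, π g = 0)
    (hGJ : (RingHom.ker π.toRingHom).map (MvPolynomial.map (algebraMap R q.asIdeal.ResidueField)) ≤
      (Ideal.span (G : Set (MvPolynomial σ R))).map
        (MvPolynomial.map (algebraMap R q.asIdeal.ResidueField)))
    {St : Type u} [CommRing St] [Algebra R St] (ρ : MvPolynomial σ R →ₐ[R] St)
    (hρ : Function.Surjective ρ) (hρker : RingHom.ker ρ.toRingHom = Ideal.span (G : Set _))
    [Algebra St S'] (hρS' : ∀ f, algebraMap St S' (ρ f) = algebraMap S S' (π f))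
    [Module St M] [IsScalarTower St S' M]
    {R₁ : Type u} [CommRing R₁] [IsNoetherianRing R₁] [Algebra R₁ R] [Module R₁ M] [IsScalarTower R₁ R M]
    [Algebra R₁ S] [IsScalarTower R₁ R S] [Algebra R₁ St] [IsScalarTower R₁ R St] [Algebra R₁ S']
    [IsScalarTower R₁ R S']
    (J₁ : Ideal (MvPolynomial σ R₁))
    (hJ₁ : ∀ {B : Type u} [CommRing B] (φ : R →+* B),
      J₁.map (MvPolynomial.map (φ.comp (algebraMap R₁ R))) =
        (Ideal.span (G : Set (MvPolynomial σ R))).map (MvPolynomial.map φ))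
    {M₁ : Type u} [AddCommGroup M₁] [Module R₁ M₁] [Module (MvPolynomial (σ ⊕ τ) R₁) M₁]
    [IsScalarTower R₁ (MvPolynomial (σ ⊕ τ) R₁) M₁] [Module.Finite (MvPolynomial (σ ⊕ τ) R₁) M₁]
    (hkill : J₁.map (MvPolynomial.rename (R := R₁) (Sum.inl : σ → σ ⊕ τ)).toRingHom ≤
      Module.annihilator (MvPolynomial (σ ⊕ τ) R₁) M₁)
    (ι₀' : M₁ →ₗ[R₁] M) (hι₀' : IsBaseChange R ι₀')
    (hι₀smul : ∀ (f : MvPolynomial (σ ⊕ τ) R₁) (m : M₁),
      ι₀' (f • m) = π' (MvPolynomial.map (algebraMap R₁ R) f) • ι₀' m)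
    (hF : PrimeSpectrum.comap (π'.toRingHom.comp (MvPolynomial.map (algebraMap R₁ R))) q ∈
      flatLocus R₁ (MvPolynomial (σ ⊕ τ) R₁) M₁)
    (hfib : FibFlat S S' M ((q.asIdeal.comap (algebraMap R S')).map (algebraMap R S)) q.asIdeal)
    (hnt : Nontrivial (LocalizedModule q.asIdeal.primeCompl M)) :
    q ∈ flatLocus St S' M ∧ PrimeSpectrum.comap (algebraMap St S') q ∈ flatLocus R St St := by
  have hJ₁R : J₁.map (MvPolynomial.map (algebraMap R₁ R)) = Ideal.span (G : Set _) := by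
    have := hJ₁ (RingHom.id R)
    rwa [RingHom.id_comp, show MvPolynomial.map (RingHom.id R) = RingHom.id (MvPolynomial σ R) from
      RingHom.ext MvPolynomial.map_id, Ideal.map_id] at this
  let S₁ := MvPolynomial σ R₁ ⧸ J₁
  let J₁' : Ideal (MvPolynomial (σ ⊕ τ) R₁) :=
    J₁.map (MvPolynomial.rename (R := R₁) (Sum.inl : σ → σ ⊕ τ)).toRingHom
  let S'₁ := MvPolynomial (σ ⊕ τ) R₁ ⧸ J₁'
  letI : Algebra S₁ S'₁ :=
    (Ideal.quotientMap J₁' (MvPolynomial.rename (R := R₁) (Sum.inl : σ → σ ⊕ τ)).toRingHom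
      Ideal.le_comap_map).toAlgebra
  have hS₁S'₁ : ∀ f, algebraMap S₁ S'₁ (Ideal.Quotient.mk J₁ f) =
      Ideal.Quotient.mk J₁' (MvPolynomial.rename Sum.inl f) := fun f ↦ rfl
  haveI : IsScalarTower R₁ S₁ S'₁ := IsScalarTower.of_algebraMap_eq fun r ↦ by
    show Ideal.Quotient.mk J₁' (algebraMap R₁ _ r) =
      Ideal.Quotient.mk J₁' (MvPolynomial.rename Sum.inl (algebraMap R₁ (MvPolynomial σ R₁) r))
    rw [AlgHom.commutes]
  have hker : ∀ j ∈ J₁, MvPolynomial.map (algebraMap R₁ R) j ∈ Ideal.span (G : Set _) := fun j hj ↦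
    hJ₁R ▸ Ideal.mem_map_of_mem _ hj
  have hspanπ : Ideal.span (G : Set (MvPolynomial σ R)) ≤ RingHom.ker π.toRingHom :=
    Ideal.span_le.mpr hG
  letI : Algebra S₁ S := (Ideal.Quotient.lift J₁
    (π.toRingHom.comp (MvPolynomial.map (algebraMap R₁ R))) fun j hj ↦ hspanπ (hker j hj)).toAlgebra
  have hS₁S : ∀ f, algebraMap S₁ S (Ideal.Quotient.mk J₁ f) =
      π (MvPolynomial.map (algebraMap R₁ R) f) := fun f ↦ rfl
  letI : Algebra S₁ St := (Ideal.Quotient.lift J₁
    (ρ.toRingHom.comp (MvPolynomial.map (algebraMap R₁ R))) fun j hj ↦ by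
      have := hker j hj; rw [← hρker] at this; exact this).toAlgebra
  have hS₁St : ∀ f, algebraMap S₁ St (Ideal.Quotient.mk J₁ f) =
      ρ (MvPolynomial.map (algebraMap R₁ R) f) := fun f ↦ rfl
  letI : Algebra S'₁ S' := (Ideal.Quotient.lift J₁'
    (π'.toRingHom.comp (MvPolynomial.map (algebraMap R₁ R))) fun j hj ↦ by
      have : J₁' ≤ RingHom.ker (π'.toRingHom.comp (MvPolynomial.map (algebraMap R₁ R))) :=
        Ideal.map_le_iff_le_comap.mpr fun j hj ↦ by
          show π' (MvPolynomial.map (algebraMap R₁ R) (MvPolynomial.rename Sum.inl j)) = 0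
          rw [MvPolynomial.map_rename, hππ, show π (MvPolynomial.map (algebraMap R₁ R) j) = 0 from
            hspanπ (hker j hj), map_zero]
      exact this hj).toAlgebra
  have hS'₁S' : ∀ f, algebraMap S'₁ S' (Ideal.Quotient.mk J₁' f) =
      π' (MvPolynomial.map (algebraMap R₁ R) f) := fun f ↦ rfl
  letI : Algebra S₁ S' := ((algebraMap S'₁ S').comp (algebraMap S₁ S'₁)).toAlgebra
  haveI : IsScalarTower S₁ S'₁ S' := IsScalarTower.of_algebraMap_eq fun _ ↦ rfl
  haveI : IsScalarTower S₁ S S' := IsScalarTower.of_algebraMap_eq fun x ↦ by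
    obtain ⟨f, rfl⟩ := Ideal.Quotient.mk_surjective x
    show algebraMap S'₁ S' (Ideal.Quotient.mk J₁' (MvPolynomial.rename Sum.inl f)) = _
    rw [hS'₁S', hS₁S, MvPolynomial.map_rename, hππ]
  haveI : IsScalarTower S₁ St S' := IsScalarTower.of_algebraMap_eq fun x ↦ by
    obtain ⟨f, rfl⟩ := Ideal.Quotient.mk_surjective x
    show algebraMap S'₁ S' (Ideal.Quotient.mk J₁' (MvPolynomial.rename Sum.inl f)) = _
    rw [hS'₁S', hS₁St, MvPolynomial.map_rename, hππ, hρS']
  letI : Module S₁ M := Module.compHom M (algebraMap S₁ S')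
  haveI : IsScalarTower S₁ S M := IsScalarTower.of_algebraMap_smul fun c m ↦ by
    rw [← algebraMap_smul S' (algebraMap S₁ S c) m, ← IsScalarTower.algebraMap_apply]
    rfl
  haveI : IsScalarTower S₁ St M := IsScalarTower.of_algebraMap_smul fun c m ↦ by
    rw [← algebraMap_smul S' (algebraMap S₁ St c) m, ← IsScalarTower.algebraMap_apply]
    rfl
  haveI : IsScalarTower R₁ S'₁ S' := IsScalarTower.of_algebraMap_eq fun r ↦ by
    rw [IsScalarTower.algebraMap_apply R₁ R S']
    show algebraMap R S' (algebraMap R₁ R r) =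
      algebraMap S'₁ S' (Ideal.Quotient.mk J₁' (algebraMap R₁ _ r))
    rw [hS'₁S', MvPolynomial.algebraMap_eq, MvPolynomial.map_C, ← MvPolynomial.algebraMap_eq,
      π'.commutes]
  haveI : IsScalarTower R₁ S₁ S := IsScalarTower.of_algebraMap_eq fun r ↦ by
    rw [IsScalarTower.algebraMap_apply R₁ R S]
    show algebraMap R S (algebraMap R₁ R r) =
      algebraMap S₁ S (Ideal.Quotient.mk J₁ (algebraMap R₁ _ r))
    rw [hS₁S, MvPolynomial.algebraMap_eq, MvPolynomial.map_C, ← MvPolynomial.algebraMap_eq,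
      π.commutes]
  haveI : IsScalarTower R₁ S₁ St := IsScalarTower.of_algebraMap_eq fun r ↦ by
    rw [IsScalarTower.algebraMap_apply R₁ R St]
    show algebraMap R St (algebraMap R₁ R r) =
      algebraMap S₁ St (Ideal.Quotient.mk J₁ (algebraMap R₁ _ r))
    rw [hS₁St, MvPolynomial.algebraMap_eq, MvPolynomial.map_C, ← MvPolynomial.algebraMap_eq,
      ρ.commutes]
  haveI : IsScalarTower R₁ S₁ S' := IsScalarTower.to₁₂₄ R₁ S₁ S'₁ S'
  -- the descended module
  have hkill₁ : Module.IsTorsionBySet (MvPolynomial (σ ⊕ τ) R₁) M₁ (J₁' : Set _) := fun x c ↦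
    Module.mem_annihilator.mp (hkill c.2) x
  letI : Module S'₁ M₁ := hkill₁.module
  haveI : IsScalarTower (MvPolynomial (σ ⊕ τ) R₁) S'₁ M₁ := hkill₁.isScalarTower
  haveI : IsScalarTower R₁ S'₁ M₁ := IsScalarTower.of_algebraMap_smul fun r m ↦ by
    rw [IsScalarTower.algebraMap_apply R₁ (MvPolynomial (σ ⊕ τ) R₁) S'₁, algebraMap_smul,
      algebraMap_smul]
  letI : Module S₁ M₁ := Module.compHom M₁ (algebraMap S₁ S'₁)
  haveI : IsScalarTower S₁ S'₁ M₁ := IsScalarTower.of_algebraMap_smul fun _ _ ↦ rfl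
  haveI : IsScalarTower R₁ S₁ M₁ := IsScalarTower.of_algebraMap_smul fun r m ↦ by
    show algebraMap S₁ S'₁ (algebraMap R₁ S₁ r) • m = r • m
    rw [← IsScalarTower.algebraMap_apply, algebraMap_smul]
  haveI : Module.Finite S'₁ M₁ := Module.Finite.of_restrictScalars_finite (MvPolynomial (σ ⊕ τ) R₁) _ _
  have hsmul : ∀ (a : S'₁) (m : M₁), ι₀' (a • m) = algebraMap S'₁ S' a • ι₀' m := fun a m ↦ by
    obtain ⟨f, rfl⟩ := Ideal.Quotient.mk_surjective a
    rw [← Ideal.Quotient.algebraMap_eq, algebraMap_smul, Ideal.Quotient.algebraMap_eq, hS'₁S']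
    exact hι₀smul f m
  let ι : M₁ →ₗ[S₁] M :=
    { toFun := ι₀'
      map_add' := map_add ι₀'
      map_smul' := fun c m ↦ by
        rw [RingHom.id_apply, ← algebraMap_smul S'₁ c m, hsmul, ← IsScalarTower.algebraMap_apply]
        rfl }
  haveI : IsScalarTower R₁ S₁ M := IsScalarTower.of_algebraMap_smul fun r m ↦ by
    show algebraMap S₁ S' (algebraMap R₁ S₁ r) • m = r • m
    rw [← IsScalarTower.algebraMap_apply, IsScalarTower.algebraMap_apply R₁ R S', algebraMap_smul,
      algebraMap_smul]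
  have hιR : IsBaseChange R (ι.restrictScalars R₁) := hι₀'
  have hspanS : Submodule.span R (Set.range (algebraMap S₁ S)) = ⊤ :=
    span_range_polyQuotient π hπ hS₁S
  have hspanSt : Submodule.span R (Set.range (algebraMap S₁ St)) = ⊤ :=
    span_range_polyQuotient ρ hρ hS₁St
  have hspanS' : Submodule.span R (Set.range (algebraMap S'₁ S')) = ⊤ :=
    span_range_polyQuotient π' hπ' hS'₁S'
  -- the residue field side
  obtain ⟨T, _, _, _, _, _, _, _, _, _, _, _, hT⟩ := exists_residueQuotient π hπ J₁ hS₁S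
    q.asIdeal.ResidueField G hGJ (hJ₁ (algebraMap R q.asIdeal.ResidueField))
  have hbc : IsBaseChange R (IsScalarTower.toAlgHom R₁ S₁ St).toLinearMap := by
    let ρe : (MvPolynomial σ R ⧸ Ideal.span (G : Set (MvPolynomial σ R))) ≃ₐ[R] St :=
      (Ideal.quotientEquivAlgOfEq R hρker.symm).trans (Ideal.quotientKerAlgEquivOfSurjective hρ)
    let φ₀ : S₁ →ₗ[R₁] MvPolynomial σ R ⧸ Ideal.span (G : Set (MvPolynomial σ R)) :=
      ρe.symm.toLinearMap.restrictScalars R₁ ∘ₗ (IsScalarTower.toAlgHom R₁ S₁ St).toLinearMap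
    have hφ₀ : IsBaseChange R φ₀ := isBaseChange_polyQuotient J₁ _ hJ₁R.symm φ₀ fun f ↦
      ρe.symm_apply_eq.mpr rfl
    have heq : (IsScalarTower.toAlgHom R₁ S₁ St).toLinearMap =
        ρe.toLinearEquiv.toLinearMap.restrictScalars R₁ ∘ₗ φ₀ :=
      LinearMap.ext fun x ↦ (ρe.apply_symm_apply _).symm
    rw [heq]
    exact hφ₀.comp (IsBaseChange.ofEquiv ρe.toLinearEquiv)
  have hflat₁ : PrimeSpectrum.comap (algebraMap S'₁ S') q ∈ flatLocus R₁ S'₁ M₁ := by
    rw [flatLocus_comap (P := MvPolynomial (σ ⊕ τ) R₁) Ideal.Quotient.mk_surjective]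
    exact hF
  haveI : IsScalarTower R St S' := IsScalarTower.of_algebraMap_eq fun r ↦ by
    rw [← ρ.commutes, hρS', π.commutes, ← IsScalarTower.algebraMap_apply]
  exact of_stage_abstract q T hT hspanS hspanSt hspanS' hbc ι hιR hsmul hflat₁ hfib hnt

set_option maxSynthPendingDepth 6 in
theorem mem_flatLocus_of_fibFlat_point {R S S' M : Type u} [CommRing R] [CommRing S] [CommRing S']
    [Algebra R S] [Algebra S S'] [Algebra R S'] [IsScalarTower R S S'] [AddCommGroup M] [Module R M]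
    [Module S M] [Module S' M] [IsScalarTower R S M] [IsScalarTower S S' M] [IsScalarTower R S' M]
    [Module.FinitePresentation S' M] {σ τ : Type u} [Finite σ] [Finite τ]
    (π : MvPolynomial σ R →ₐ[R] S) (hπ : Function.Surjective π)
    (π' : MvPolynomial (σ ⊕ τ) R →ₐ[R] S') (hπ' : Function.Surjective π')
    (hπ'fg : (RingHom.ker π'.toRingHom).FG)
    (hππ : ∀ f, π' (MvPolynomial.rename Sum.inl f) = algebraMap S S' (π f))
    (q : PrimeSpectrum S') (G : Finset (MvPolynomial σ R)) (hG : ∀ g ∈ G, π g = 0)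
    (hGJ : (RingHom.ker π.toRingHom).map (MvPolynomial.map (algebraMap R q.asIdeal.ResidueField)) ≤
      (Ideal.span (G : Set (MvPolynomial σ R))).map
        (MvPolynomial.map (algebraMap R q.asIdeal.ResidueField)))
    {St : Type u} [CommRing St] [Algebra R St] (ρ : MvPolynomial σ R →ₐ[R] St)
    (hρ : Function.Surjective ρ) (hρker : RingHom.ker ρ.toRingHom = Ideal.span (G : Set _))
    [Algebra St S'] (hρS' : ∀ f, algebraMap St S' (ρ f) = algebraMap S S' (π f))
    [Module St M] [IsScalarTower St S' M]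
    (hq : q ∈ flatLocus R S' M)
    (hfib : FibFlat S S' M ((q.asIdeal.comap (algebraMap R S')).map (algebraMap R S)) q.asIdeal)
    (hnt : Nontrivial (LocalizedModule q.asIdeal.primeCompl M)) :
    q ∈ flatLocus St S' M ∧ PrimeSpectrum.comap (algebraMap St S') q ∈ flatLocus R St St := by
  classical
  let P := MvPolynomial (σ ⊕ τ) R
  letI : Algebra P S' := π'.toRingHom.toAlgebra
  haveI : IsScalarTower R P S' := IsScalarTower.of_algebraMap_eq fun r ↦ (π'.commutes r).symm
  letI : Module P M := Module.compHom M π'.toRingHom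
  haveI : IsScalarTower P S' M := IsScalarTower.of_algebraMap_smul fun _ _ ↦ rfl
  haveI : IsScalarTower R P M := IsScalarTower.of_algebraMap_smul fun r m ↦ by
    show π' (algebraMap R P r) • m = r • m
    rw [π'.commutes, algebraMap_smul]
  haveI : Module.FinitePresentation P S' :=
    Module.finitePresentation_of_surjective (Algebra.linearMap P S') hπ' hπ'fg
  haveI : Module.FinitePresentation P M := Module.FinitePresentation.trans P M S'
  let G' : Finset P := G.image (MvPolynomial.rename Sum.inl)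
  have hG' : ∀ g ∈ G', ∀ m : M, g • m = 0 := fun g hg m ↦ by
    obtain ⟨g, hgG, rfl⟩ := Finset.mem_image.mp hg
    show π' (MvPolynomial.rename Sum.inl g) • m = 0
    rw [hππ, hG g hgG, map_zero, zero_smul]
  obtain ⟨A, M₀, _, _, _, _, hA, _, ⟨e⟩, hG₀⟩ := exists_model G' hG'
  haveI : IsNoetherianRing A := isNoetherianRing_of_fg hA
  have hq' : PrimeSpectrum.comap (algebraMap P S') q ∈ flatLocus R P (BC (σ ⊕ τ) A M₀ R) := by
    rw [flatLocus_congr e]
    rw [flatLocus_comap (P := P) hπ'] at hq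
    exact hq
  obtain ⟨F, hF⟩ := exists_stage_mem_flatLocus (σ ⊕ τ) M₀ _ hq'
  let R₁ := Algebra.adjoin A (F : Set R)
  haveI : IsNoetherianRing R₁ := isNoetherianRing_of_fg ⟨F, rfl⟩
  -- the descended ideal
  let G₀ : Set (MvPolynomial σ A) := {g₀ | MvPolynomial.map (algebraMap A R) g₀ ∈ G ∧
    ∀ m : M₀, MvPolynomial.rename (Sum.inl : σ → σ ⊕ τ) g₀ • m = 0}
  have hG₀img : MvPolynomial.map (algebraMap A R) '' G₀ = (G : Set (MvPolynomial σ R)) := by
    refine Set.Subset.antisymm (by rintro _ ⟨g₀, hg₀, rfl⟩; exact hg₀.1) fun g hg ↦ ?_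
    obtain ⟨h₀, hh₀, hkill⟩ := hG₀ _ (Finset.mem_image_of_mem _ hg)
    have h1 : MvPolynomial.map (algebraMap A R) (MvPolynomial.killCompl Sum.inl_injective h₀) = g := by
      rw [map_killCompl, hh₀, MvPolynomial.killCompl_rename_app]
    refine ⟨_, ⟨h1 ▸ hg, fun m ↦ ?_⟩, h1⟩
    have h2 : MvPolynomial.rename Sum.inl (MvPolynomial.killCompl Sum.inl_injective h₀) = h₀ :=
      MvPolynomial.map_injective (algebraMap A R) Subtype.val_injective (by
        rw [MvPolynomial.map_rename, h1, hh₀])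
    rw [h2]
    exact hkill m
  let J₁ : Ideal (MvPolynomial σ R₁) :=
    (Ideal.span G₀).map (MvPolynomial.map (algebraMap A R₁))
  have hJ₁ : ∀ {B : Type u} [CommRing B] (φ : R →+* B),
      J₁.map (MvPolynomial.map (φ.comp (algebraMap R₁ R))) =
        (Ideal.span (G : Set (MvPolynomial σ R))).map (MvPolynomial.map φ) := fun {B} _ φ ↦ by
    rw [show J₁ = (Ideal.span G₀).map (MvPolynomial.map (algebraMap A R₁)) from rfl, Ideal.map_map,
      ← hG₀img, ← Ideal.map_span (MvPolynomial.map (algebraMap A R)), Ideal.map_map]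
    congr 1
    refine RingHom.ext fun f ↦ ?_
    simp only [RingHom.comp_apply, MvPolynomial.map_map]
    congr 1
  let M₁ := BC (σ ⊕ τ) A M₀ R₁
  have hkill : J₁.map (MvPolynomial.rename (R := R₁) (Sum.inl : σ → σ ⊕ τ)).toRingHom ≤
      Module.annihilator (MvPolynomial (σ ⊕ τ) R₁) M₁ := by
    simp only [J₁, Ideal.map_map, Ideal.map_span, Ideal.span_le]
    rintro _ ⟨_, ⟨g₀, hg₀, rfl⟩, rfl⟩
    rw [SetLike.mem_coe, Module.mem_annihilator]
    intro m
    show MvPolynomial.rename Sum.inl (MvPolynomial.map (algebraMap A R₁) g₀) • m = 0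
    rw [← MvPolynomial.map_rename]
    exact map_smul_bc_eq_zero (MvPolynomial.rename Sum.inl g₀) hg₀.2 m
  obtain ⟨ι₀, hι₀, hι₀smul⟩ := exists_isBaseChange_bcMap (σ ⊕ τ) M₀ R₁
  let eR : BC (σ ⊕ τ) A M₀ R ≃ₗ[R] M := e.restrictScalars R
  refine of_stage π hπ π' hπ' hππ q G hG hGJ ρ hρ hρker hρS' J₁ hJ₁ hkill
    ((eR.toLinearMap.restrictScalars R₁) ∘ₗ ι₀) (hι₀.comp (IsBaseChange.ofEquiv eR))
    (fun f m ↦ ?_) hF hfib hnt
  show e (ι₀ (f • m)) = _
  rw [hι₀smul, map_smul]
  rfl

end FlatLib
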