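import Groth.Agent.FlatLib.StageFlat
import Mathlib

/-! A faithfully flat finitely presented algebra comes from one over a Noetherian base. -/

set_option autoImplicit false
universe u

open TensorProduct

attribute [local instance] MvPolynomial.algebraMvPolynomial

namespace FlatLib

/-- the image of `Spec` is stable under base change -/
theorem mem_range_comap_baseChange {R₁ R₂ B : Type u} [CommRing R₁] [CommRing R₂] [CommRing B]
    [Algebra R₁ R₂] [Algebra R₁ B] (q : PrimeSpectrum R₂)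
    (h : PrimeSpectrum.comap (algebraMap R₁ R₂) q ∈ Set.range (PrimeSpectrum.comap (algebraMap R₁ B))) :
    q ∈ Set.range (PrimeSpectrum.comap (algebraMap R₂ (R₂ ⊗[R₁] B))) := by
  rw [← PrimeSpectrum.nontrivial_iff_mem_rangeComap] at h ⊢
  let p := (PrimeSpectrum.comap (algebraMap R₁ R₂) q).asIdeal
  let φ : p.ResidueField →ₐ[R₁] q.asIdeal.ResidueField :=
    Ideal.ResidueField.mapₐ p q.asIdeal (Algebra.ofId R₁ R₂) rfl
  letI : Algebra p.ResidueField q.asIdeal.ResidueField := φ.toRingHom.toAlgebra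
  haveI : IsScalarTower R₁ p.ResidueField q.asIdeal.ResidueField :=
    IsScalarTower.of_algebraMap_eq fun r ↦ (φ.commutes r).symm
  haveI := h
  haveI : Nontrivial (q.asIdeal.ResidueField ⊗[p.ResidueField] (p.ResidueField ⊗[R₁] B)) :=
    inferInstance
  exact ((AlgebraTensorModule.cancelBaseChange R₁ R₂ q.asIdeal.ResidueField q.asIdeal.ResidueField B).trans
    (AlgebraTensorModule.cancelBaseChange R₁ p.ResidueField q.asIdeal.ResidueField
      q.asIdeal.ResidueField B).symm).toEquiv.nontrivial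

set_option synthInstance.maxHeartbeats 200000 in
set_option maxHeartbeats 2000000 in
/-- the quotient by equations defined over a stage -/
theorem quotient_step {σ A R₁ R : Type u} [CommRing A] [CommRing R₁] [CommRing R] [Finite σ]
    [Algebra A R₁] [Algebra A R] [Algebra R₁ R] [IsScalarTower A R₁ R]
    (I₀ : Ideal (MvPolynomial σ A)) (hI₀ : I₀.FG) {I : Ideal (MvPolynomial σ R)}
    (hI : I₀.map (algebraMap (MvPolynomial σ A) (MvPolynomial σ R)) = I)
    (hflat : Module.Flat R₁ (BC σ A (MvPolynomial σ A ⧸ I₀) R₁)) :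
    ∃ (B₁ : Type u) (_ : CommRing B₁) (_ : Algebra R₁ B₁),
      Algebra.FinitePresentation R₁ B₁ ∧ Module.Flat R₁ B₁ ∧
        Nonempty (R ⊗[R₁] B₁ ≃ₐ[R] MvPolynomial σ R ⧸ I) := by
  let J : Ideal (MvPolynomial σ R₁) := I₀.map (algebraMap (MvPolynomial σ A) (MvPolynomial σ R₁))
  refine ⟨MvPolynomial σ R₁ ⧸ J, inferInstance, inferInstance,
    Algebra.FinitePresentation.quotient (hI₀.map _),
    Module.Flat.of_linearEquiv
      ((Algebra.TensorProduct.quotIdealMapEquivTensorQuot (MvPolynomial σ R₁) I₀).restrictScalars R₁).toLinearEquiv,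
    ⟨?_⟩⟩
  haveI : IsScalarTower (MvPolynomial σ A) (MvPolynomial σ R₁) (MvPolynomial σ R) :=
    IsScalarTower.of_algebraMap_eq fun x ↦ by
      show MvPolynomial.map _ x = MvPolynomial.map _ (MvPolynomial.map _ x)
      rw [MvPolynomial.map_map, ← IsScalarTower.algebraMap_eq]
  exact ((Algebra.IsPushout.cancelBaseChangeAlg R₁ R (MvPolynomial σ R₁) (MvPolynomial σ R)
      (MvPolynomial σ R₁ ⧸ J)).symm.trans
    (((Algebra.TensorProduct.quotIdealMapEquivTensorQuot (MvPolynomial σ R) J).symm).restrictScalars R)).trans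
      ((Ideal.quotientEquivAlgOfEq R (by rw [Ideal.map_map, ← IsScalarTower.algebraMap_eq, hI])))

set_option synthInstance.maxHeartbeats 200000 in
set_option maxHeartbeats 1000000 in
/-- a flat algebra `R[X]/(G)` comes from a flat finitely presented algebra over a Noetherian subring -/
theorem exists_noetherian_model {σ R : Type u} [CommRing R] [Finite σ] (G : Finset (MvPolynomial σ R))
    (hflat : Module.Flat R (MvPolynomial σ R ⧸ Ideal.span (G : Set (MvPolynomial σ R)))) :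
    ∃ (R₁ B₁ : Type u) (_ : CommRing R₁) (_ : Algebra R₁ R) (_ : CommRing B₁) (_ : Algebra R₁ B₁),
      IsNoetherianRing R₁ ∧ Algebra.FinitePresentation ℤ R₁ ∧ Algebra.FinitePresentation R₁ B₁ ∧
        Module.Flat R₁ B₁ ∧
        Nonempty (R ⊗[R₁] B₁ ≃ₐ[R] MvPolynomial σ R ⧸ Ideal.span (G : Set (MvPolynomial σ R))) := by
  classical
  let C : Finset R := G.biUnion fun g ↦ g.support.image g.coeff
  let A := Algebra.adjoin ℤ (C : Set R)
  haveI : IsNoetherianRing A := isNoetherianRing_of_fg ⟨C, rfl⟩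
  have hlift : ∀ g ∈ G, ∃ g₀ : MvPolynomial σ A, MvPolynomial.map (algebraMap A R) g₀ = g := fun g hg ↦ by
    refine MvPolynomial.mem_range_map_iff_coeffs_subset.mpr fun c hc ↦ ?_
    rw [Finset.mem_coe, MvPolynomial.mem_coeffs_iff] at hc
    obtain ⟨n, hn, rfl⟩ := hc
    exact ⟨⟨_, Algebra.subset_adjoin (Finset.mem_coe.mpr
      (Finset.mem_biUnion.mpr ⟨g, hg, Finset.mem_image_of_mem _ hn⟩))⟩, rfl⟩
  choose g₀ hg₀ using hlift
  let G₀ : Finset (MvPolynomial σ A) := G.attach.image fun g ↦ g₀ g.1 g.2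
  let I₀ := Ideal.span (G₀ : Set (MvPolynomial σ A))
  have hI : I₀.map (algebraMap (MvPolynomial σ A) (MvPolynomial σ R)) =
      Ideal.span (G : Set (MvPolynomial σ R)) := by
    rw [Ideal.map_span]
    congr 1
    ext g
    constructor
    · rintro ⟨x, hx, rfl⟩
      obtain ⟨h, -, rfl⟩ := Finset.mem_image.mp (Finset.mem_coe.mp hx)
      show MvPolynomial.map (algebraMap A R) (g₀ h.1 h.2) ∈ _
      rw [hg₀]
      exact h.2
    · intro hg
      exact ⟨g₀ g hg, Finset.mem_coe.mpr (Finset.mem_image.mpr ⟨⟨g, hg⟩, Finset.mem_attach _ _, rfl⟩), hg₀ g hg⟩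
  let M₀ := MvPolynomial σ A ⧸ I₀
  let eR : BC σ A M₀ R ≃ₐ[MvPolynomial σ R] MvPolynomial σ R ⧸ Ideal.span (G : Set (MvPolynomial σ R)) :=
    (Algebra.TensorProduct.quotIdealMapEquivTensorQuot (MvPolynomial σ R) I₀).symm.trans
      (Ideal.quotientEquivAlgOfEq (MvPolynomial σ R) hI)
  haveI : Module.Flat R (BC σ A M₀ R) :=
    Module.Flat.of_linearEquiv (eR.restrictScalars R).toLinearEquiv
  obtain ⟨F, hF⟩ := exists_flat_stage (σ := σ) (A := A) (M₀ := M₀) (R := R)
  haveI hAft : Algebra.FiniteType ℤ A := (Subalgebra.fg_iff_finiteType A).mp ⟨C, rfl⟩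
  haveI hFt : Algebra.FiniteType A (stg A F) := (Subalgebra.fg_iff_finiteType (stg A F)).mp ⟨F, rfl⟩
  have hfp : Algebra.FinitePresentation ℤ (stg A F) :=
    Algebra.FinitePresentation.of_finiteType.mp (Algebra.FiniteType.trans (R := ℤ) (S := A) (A := stg A F) hAft hFt)
  obtain ⟨B₁, i1, i2, h1, h2, ⟨e⟩⟩ := quotient_step (R₁ := stg A F) (I := Ideal.span (G : Set (MvPolynomial σ R)))
    I₀ ⟨G₀, rfl⟩ hI hF
  exact ⟨stg A F, B₁, inferInstance, inferInstance, i1, i2, isNoetherianRing_of_fg ⟨F, rfl⟩, hfp, h1, h2, ⟨e⟩⟩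

/-- base change of a flat finitely presented algebra to a ring whose spectrum lands in its image -/
theorem exists_ff_baseChange {R₁ A₀ A B₁ B : Type u} [CommRing R₁] [CommRing A₀] [CommRing A] [CommRing B₁]
    [CommRing B] [Algebra R₁ A] [Algebra R₁ B₁] [Algebra.FinitePresentation R₁ B₁] [Module.Flat R₁ B₁]
    [Algebra A₀ A] [Algebra A B] (e : A ⊗[R₁] B₁ ≃ₐ[A] B) (ψ : R₁ →+* A₀)
    (hψ : ∀ r, algebraMap A₀ A (ψ r) = algebraMap R₁ A r)
    (h : ∀ q : PrimeSpectrum A₀, PrimeSpectrum.comap ψ q ∈ Set.range (PrimeSpectrum.comap (algebraMap R₁ B₁))) :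
    ∃ (B₀ : Type u) (_ : CommRing B₀) (_ : Algebra A₀ B₀),
      Algebra.FinitePresentation A₀ B₀ ∧ Module.FaithfullyFlat A₀ B₀ ∧ Nonempty (B ≃ₐ[A] A ⊗[A₀] B₀) := by
  letI : Algebra R₁ A₀ := ψ.toAlgebra
  haveI : IsScalarTower R₁ A₀ A := IsScalarTower.of_algebraMap_eq fun r ↦ (hψ r).symm
  exact ⟨A₀ ⊗[R₁] B₁, inferInstance, inferInstance, inferInstance,
    Module.FaithfullyFlat.of_comap_surjective fun q ↦ mem_range_comap_baseChange q (h q),
    ⟨e.symm.trans (Algebra.TensorProduct.cancelBaseChange R₁ A₀ A A B₁).symm⟩⟩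

/-- the universal finitely presented base in which `J` becomes the unit ideal -/
theorem exists_unit_base {R₁ A : Type u} [CommRing R₁] [CommRing A] [Algebra R₁ A]
    [Algebra.FinitePresentation ℤ R₁] (J : Ideal R₁) (hJ : (1 : A) ∈ J.map (algebraMap R₁ A)) :
    ∃ (A₂ : Type u) (_ : CommRing A₂) (φ : R₁ →+* A₂) (θ : A₂ →+* A),
      θ.comp φ = algebraMap R₁ A ∧ J.map φ = ⊤ ∧ (Int.castRingHom A₂).FinitePresentation := by
  classical
  obtain ⟨c, hc, hsum⟩ := Finsupp.mem_span_image_iff_linearCombination A |>.mp hJ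
  let T := c.support
  have hTJ : ∀ t ∈ T, t ∈ J := fun t ht ↦ (Finsupp.mem_supported A c).mp hc ht
  let rel : MvPolynomial T R₁ := 1 - ∑ t : T, MvPolynomial.C t.1 * MvPolynomial.X t
  let A₂ := MvPolynomial T R₁ ⧸ Ideal.span ({rel} : Set (MvPolynomial T R₁))
  have h0 : (MvPolynomial.aeval (R := R₁) fun t : T ↦ c t.1) rel = 0 := by
    simp only [rel, map_sub, map_one, map_sum, map_mul, MvPolynomial.aeval_C, MvPolynomial.aeval_X]
    rw [sub_eq_zero, Finset.sum_coe_sort T (fun t ↦ algebraMap R₁ A t * c t)]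
    conv_lhs => rw [← hsum, Finsupp.linearCombination_apply, Finsupp.sum]
    exact Finset.sum_congr rfl fun t _ ↦ by rw [smul_eq_mul, mul_comm]
  let θ : A₂ →ₐ[R₁] A := Ideal.Quotient.liftₐ _ (MvPolynomial.aeval fun t : T ↦ c t.1) fun a ha ↦ by
    obtain ⟨b, rfl⟩ := Ideal.mem_span_singleton'.mp ha
    rw [map_mul, h0, mul_zero]
  refine ⟨A₂, inferInstance, algebraMap R₁ A₂, θ.toRingHom, θ.comp_algebraMap, ?_, ?_⟩
  · rw [Ideal.eq_top_iff_one]
    have h1 : Ideal.Quotient.mk (Ideal.span ({rel} : Set (MvPolynomial T R₁))) rel = 0 :=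
      Ideal.Quotient.eq_zero_iff_mem.mpr (Ideal.mem_span_singleton_self rel)
    simp only [rel, map_sub, map_one, map_sum, map_mul, sub_eq_zero] at h1
    show (1 : A₂) ∈ _
    rw [h1]
    exact Ideal.sum_mem _ fun t _ ↦ Ideal.mul_mem_right _ _
      (show Ideal.Quotient.mk _ (MvPolynomial.C t.1) ∈ J.map (algebraMap R₁ A₂) from
        Ideal.mem_map_of_mem (algebraMap R₁ A₂) (hTJ t.1 t.2))
  · haveI : Algebra.FinitePresentation R₁ A₂ :=
      Algebra.FinitePresentation.quotient ⟨{rel}, by simp⟩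
    have h1 : (algebraMap R₁ A₂).FinitePresentation := RingHom.finitePresentation_algebraMap.mpr inferInstance
    have h2 : (Int.castRingHom R₁).FinitePresentation := by
      rw [← algebraMap_int_eq]; exact RingHom.finitePresentation_algebraMap.mpr inferInstance
    have h3 := h1.comp h2
    rwa [Subsingleton.elim ((algebraMap R₁ A₂).comp (Int.castRingHom R₁)) (Int.castRingHom A₂)] at h3

/-- the same base made into an algebra over `R` -/
theorem exists_unit_base_over (R : Type u) {R₁ A : Type u} [CommRing R] [CommRing R₁] [CommRing A] [Algebra R A]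
    [Algebra R₁ A] [Algebra.FinitePresentation ℤ R₁] (J : Ideal R₁) (hJ : (1 : A) ∈ J.map (algebraMap R₁ A)) :
    ∃ (A₀ : Type u) (_ : CommRing A₀) (_ : Algebra R A₀) (_ : Algebra A₀ A) (_ : IsScalarTower R A₀ A)
      (ψ : R₁ →+* A₀), Algebra.FinitePresentation R A₀ ∧ (∀ r, algebraMap A₀ A (ψ r) = algebraMap R₁ A r) ∧
        J.map ψ = ⊤ := by
  obtain ⟨A₂, iA₂, φ, θ, hθ, htop, hfp⟩ := exists_unit_base J hJ
  haveI : Algebra.FinitePresentation ℤ A₂ := by
    rw [← algebraMap_int_eq] at hfp; exact RingHom.finitePresentation_algebraMap.mp hfp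
  let Θ : R ⊗[ℤ] A₂ →ₐ[R] A :=
    Algebra.TensorProduct.lift (Algebra.ofId R A) θ.toIntAlgHom fun _ _ ↦ Commute.all _ _
  letI : Algebra (R ⊗[ℤ] A₂) A := Θ.toRingHom.toAlgebra
  let ψ : R₁ →+* R ⊗[ℤ] A₂ := (Algebra.TensorProduct.includeRight (R := ℤ) (A := R) (B := A₂)).toRingHom.comp φ
  refine ⟨R ⊗[ℤ] A₂, inferInstance, inferInstance, inferInstance,
    IsScalarTower.of_algebraMap_eq fun r ↦ (Θ.commutes r).symm, ψ, inferInstance, fun r ↦ ?_, ?_⟩
  · show Θ ((1 : R) ⊗ₜ[ℤ] φ r) = _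
    rw [Algebra.TensorProduct.lift_tmul, map_one, one_mul]
    exact RingHom.congr_fun hθ r
  · rw [← Ideal.map_map, htop, Ideal.map_top]

end FlatLib
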