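import Groth.Agent.FlatLib.Stage
import Mathlib

/-! Descent of flatness to Noetherian stages, and openness of the flat locus. -/

set_option autoImplicit false
universe u

open TensorProduct LinearMap

attribute [local instance] MvPolynomial.algebraMvPolynomial

namespace FlatLib

variable (σ : Type u) (A : Type u) [CommRing A] (M₀ : Type u) [AddCommGroup M₀] [Module A M₀]
  [Module (MvPolynomial σ A) M₀] [IsScalarTower A (MvPolynomial σ A) M₀]

/-- The base change of a module over a polynomial ring. -/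
abbrev BC (R : Type u) [CommRing R] [Algebra A R] : Type u :=
  MvPolynomial σ R ⊗[MvPolynomial σ A] M₀

variable (R : Type u) [CommRing R] [Algebra A R]

/-- The canonical map to the base change. -/
noncomputable def inc : M₀ →ₗ[A] BC σ A M₀ R :=
  (TensorProduct.mk (MvPolynomial σ A) (MvPolynomial σ R) M₀ 1).restrictScalars A

theorem isBaseChange_inc : IsBaseChange R (inc σ A M₀ R) :=
  IsBaseChange.of_equiv
    (Algebra.IsPushout.cancelBaseChange A R (MvPolynomial σ A) (MvPolynomial σ R) M₀).symm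
    fun m ↦ by simp [inc]

theorem inc_smul (s : MvPolynomial σ A) (m : M₀) :
    inc σ A M₀ R (s • m) = algebraMap (MvPolynomial σ A) (MvPolynomial σ R) s • inc σ A M₀ R m := by
  rw [algebraMap_smul]
  exact tmul_smul s _ m

variable {A} {R} {R₁ R₂ : Type u} [CommRing R₁] [Algebra A R₁] [CommRing R₂] [Algebra A R₂]

/-- Coefficient change as an algebra map. -/
noncomputable def polyMap (φ : R₁ →ₐ[A] R₂) :
    MvPolynomial σ R₁ →ₐ[MvPolynomial σ A] MvPolynomial σ R₂ :=
  { MvPolynomial.map φ.toRingHom with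
    commutes' := fun s ↦ by
      show MvPolynomial.map φ.toRingHom (MvPolynomial.map (algebraMap A R₁) s) =
        MvPolynomial.map (algebraMap A R₂) s
      rw [MvPolynomial.map_map, AlgHom.toRingHom_eq_coe, φ.comp_algebraMap] }

@[simp]
theorem polyMap_apply (φ : R₁ →ₐ[A] R₂) (t : MvPolynomial σ R₁) :
    polyMap σ φ t = MvPolynomial.map φ.toRingHom t := rfl

theorem polyMap_algebraMap (φ : R₁ →ₐ[A] R₂) (r : R₁) :
    polyMap σ φ (algebraMap R₁ (MvPolynomial σ R₁) r) = algebraMap R₂ _ (φ r) := by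
  simp [MvPolynomial.algebraMap_eq]

/-- The map between base changes. -/
noncomputable def bcMap (φ : R₁ →ₐ[A] R₂) : BC σ A M₀ R₁ →ₛₗ[φ.toRingHom] BC σ A M₀ R₂ where
  toFun := (polyMap σ φ).toLinearMap.rTensor M₀
  map_add' := map_add _
  map_smul' r x := by
    induction x using TensorProduct.induction_on with
    | zero => simp
    | add a b ha hb => simp only [smul_add, map_add, ha, hb]
    | tmul s m =>
      simp only [smul_tmul', LinearMap.rTensor_tmul, AlgHom.toLinearMap_apply, Algebra.smul_def,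
        map_mul, polyMap_algebraMap, AlgHom.toRingHom_eq_coe, RingHom.coe_coe]

theorem bcMap_smul (φ : R₁ →ₐ[A] R₂) (t : MvPolynomial σ R₁) (x : BC σ A M₀ R₁) :
    bcMap σ M₀ φ (t • x) = (polyMap σ φ).toRingHom t • bcMap σ M₀ φ x := by
  induction x using TensorProduct.induction_on with
  | zero => simp
  | add a b ha hb => simp only [smul_add, map_add, ha, hb]
  | tmul s m =>
    show (polyMap σ φ).toLinearMap.rTensor M₀ _ = _ • (polyMap σ φ).toLinearMap.rTensor M₀ _
    simp [smul_tmul', smul_eq_mul]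

theorem bcMap_inc (φ : R₁ →ₐ[A] R₂) (m : M₀) :
    bcMap σ M₀ φ (inc σ A M₀ R₁ m) = inc σ A M₀ R₂ m := by
  show (polyMap σ φ).toLinearMap.rTensor M₀ _ = _
  simp [inc]

section pI

variable {σ M₀} (p : Ideal A)

theorem map_mem_pI (φ : R₁ →ₐ[A] R₂) {x : R₁} (hx : x ∈ pI R₁ p) : φ x ∈ pI R₂ p := by
  have := Ideal.mem_map_of_mem φ.toRingHom hx
  rwa [Ideal.map_map, AlgHom.toRingHom_eq_coe, φ.comp_algebraMap] at this

/-- Functoriality of `pR`. -/
noncomputable def pMap (φ : R₁ →ₐ[A] R₂) : pI R₁ p →ₛₗ[φ.toRingHom] pI R₂ p where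
  toFun x := ⟨φ x, map_mem_pI p φ x.2⟩
  map_add' a b := Subtype.ext (map_add φ _ _)
  map_smul' r a := Subtype.ext (map_mul φ _ _)

/-- Functoriality of `pR`, linear version. -/
noncomputable def pMapA (φ : R₁ →ₐ[A] R₂) : pI R₁ p →ₗ[A] pI R₂ p where
  toFun x := ⟨φ x, map_mem_pI p φ x.2⟩
  map_add' a b := Subtype.ext (map_add φ _ _)
  map_smul' r a := Subtype.ext (by simp)

theorem pMapA_gam (φ : R₁ →ₐ[A] R₂) : pMapA p φ ∘ₗ gam R₁ p = gam R₂ p :=
  LinearMap.ext fun _ ↦ Subtype.ext (φ.commutes _)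

/-- `pR'` inside the top ring. -/
noncomputable def pVal (φ : R₁ →ₐ[A] R₂) : pI R₁ p →ₗ[A] R₂ :=
  φ.toLinearMap ∘ₗ (pI R₁ p).subtype.restrictScalars A

theorem exists_finset_mem_range {x : R} (hx : x ∈ pI R p) :
    ∃ F : Finset R, ∀ R' : Subalgebra A R, (F : Set R) ⊆ R' →
      x ∈ LinearMap.range (pVal p R'.val) := by
  classical
  induction hx using Submodule.span_induction with
  | mem x hx =>
    obtain ⟨c, hc, rfl⟩ := hx
    exact ⟨∅, fun R' _ ↦ ⟨⟨_, Ideal.mem_map_of_mem (algebraMap A R') hc⟩, rfl⟩⟩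
  | zero => exact ⟨∅, fun R' _ ↦ zero_mem _⟩
  | add a b _ _ ha hb =>
    obtain ⟨Fa, ha⟩ := ha
    obtain ⟨Fb, hb⟩ := hb
    refine ⟨Fa ∪ Fb, fun R' h ↦ ?_⟩
    rw [Finset.coe_union, Set.union_subset_iff] at h
    exact add_mem (ha R' h.1) (hb R' h.2)
  | smul r a _ ha =>
    obtain ⟨Fa, ha⟩ := ha
    refine ⟨insert r Fa, fun R' h ↦ ?_⟩
    rw [Finset.coe_insert, Set.insert_subset_iff] at h
    obtain ⟨y, hy⟩ := ha R' h.2
    exact ⟨(⟨r, h.1⟩ : R') • y, by rw [← hy]; rfl⟩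

end pI

theorem tmap_bc (p : Ideal A) (φ : R₁ →ₐ[A] R₂) (y : M₀ ⊗[A] pI R₁ p) :
    tmap (bcMap σ M₀ φ) (pMap p φ) (kappa (R' := R₁) (inc σ A M₀ R₁) (pI R₁ p) y) =
      kappa (R' := R₂) (inc σ A M₀ R₂) (pI R₂ p) ((pMapA p φ).lTensor M₀ y) :=
  tmap_kappa _ _ _ _ (bcMap_inc σ M₀ φ) _ (fun _ ↦ rfl) y

variable [Finite σ] [IsNoetherianRing A] [Module.Finite (MvPolynomial σ A) M₀]

/-- Flatness descends to a finitely generated subalgebra. -/
theorem exists_stage_mem_flatLocus (q : PrimeSpectrum (MvPolynomial σ R))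
    (hq : q ∈ flatLocus R (MvPolynomial σ R) (BC σ A M₀ R)) :
    ∃ F : Finset R, PrimeSpectrum.comap (polyMap σ (Algebra.adjoin A (F : Set R)).val).toRingHom q ∈
      flatLocus (Algebra.adjoin A (F : Set R)) (MvPolynomial σ (Algebra.adjoin A (F : Set R)))
        (BC σ A M₀ (Algebra.adjoin A (F : Set R))) := by
  classical
  let S := MvPolynomial σ R
  let S₀ := MvPolynomial σ A
  let p : Ideal A := q.asIdeal.comap (algebraMap A S)
  haveI : p.IsPrime := Ideal.IsPrime.comap _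
  obtain ⟨f, hfp, hfree⟩ := exists_free_away (S := S₀) (M := M₀) p
  have : Module.Finite A p := Module.Finite.iff_fg.mpr (IsNoetherian.noetherian _)
  have : IsNoetherianRing S₀ := MvPolynomial.isNoetherianRing
  have : Module.Finite S₀ (M₀ ⊗[A] p) := FlatCrit.finite_tensor_fg
  let jl : M₀ ⊗[A] p →ₗ[S₀] M₀ := (AlgebraTensorModule.rid A S₀ M₀).toLinearMap ∘ₗ
    AlgebraTensorModule.lTensor S₀ M₀ (Submodule.subtype (p : Submodule A A))
  have hjl : ∀ k, jl k = jmap p M₀ k := fun k ↦ by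
    induction k using TensorProduct.induction_on with
    | zero => simp
    | add a b ha hb => simp only [map_add, ha, hb]
    | tmul m c => simp [jl, jmap_tmul]
  obtain ⟨gen, hgen⟩ : (LinearMap.ker jl).FG := IsNoetherian.noetherian _
  -- a common killer over `R`
  let X : M₀ ⊗[A] p → BC σ A M₀ R ⊗[R] pI R p := fun k ↦
    kappa (R' := R) (inc σ A M₀ R) (pI R p) ((gam R p).lTensor M₀ k)
  have hX : ∀ k ∈ LinearMap.ker jl, ∃ t ∈ q.asIdeal.primeCompl, t • X k = 0 := by
    intro k hk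
    refine (flat_localized_iff q.asIdeal.primeCompl (LocalizedModule.mkLinearMap _ (BC σ A M₀ R))).mp
      hq R (pI R p) (X k) ?_
    have h0 : (Submodule.subtype (p : Submodule A A)).lTensor M₀ k = 0 := by
      apply (TensorProduct.rid A M₀).injective
      rw [map_zero]
      exact (hjl k).symm.trans (LinearMap.mem_ker.mp hk)
    rw [← kappa_lTensor, ← LinearMap.lTensor_comp_apply,
      show (pI R p).subtype.restrictScalars A ∘ₗ gam R p =
        Algebra.linearMap A R ∘ₗ Submodule.subtype (p : Submodule A A) from LinearMap.ext fun _ ↦ rfl,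
      LinearMap.lTensor_comp_apply, h0, map_zero, map_zero]
  choose! t ht htX using hX
  let τ : S := ∏ k ∈ gen, t k
  have hτ : τ ∉ q.asIdeal := fun hmem ↦ by
    obtain ⟨k, hk, hkq⟩ := Ideal.IsPrime.prod_mem_iff.mp hmem
    exact ht k (hgen ▸ Submodule.subset_span hk) hkq
  have hτX : ∀ k ∈ gen, τ • X k = 0 := fun k hk ↦ by
    obtain ⟨d, hd⟩ := Finset.dvd_prod_of_mem t hk
    simp only [τ, hd]
    rw [mul_comm, mul_smul, htX k (hgen ▸ Submodule.subset_span hk), smul_zero]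
  -- the first stage
  let F₁ : Finset R := τ.support.image τ.coeff
  let R₁ := Algebra.adjoin A (F₁ : Set R)
  obtain ⟨τ₁, hτ₁⟩ : ∃ τ₁ : MvPolynomial σ R₁, MvPolynomial.map R₁.val.toRingHom τ₁ = τ := by
    refine MvPolynomial.mem_range_map_iff_coeffs_subset.mpr fun c hc ↦ ?_
    rw [Finset.mem_coe, MvPolynomial.mem_coeffs_iff] at hc
    obtain ⟨n, hn, rfl⟩ := hc
    exact ⟨⟨_, Algebra.subset_adjoin (Finset.mem_coe.mpr (Finset.mem_image_of_mem _ hn))⟩, rfl⟩
  have hY : ∀ k, ∃ y : M₀ ⊗[A] pI R₁ p, kappa (R' := R₁) (inc σ A M₀ R₁) (pI R₁ p) y =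
      τ₁ • kappa (R' := R₁) (inc σ A M₀ R₁) (pI R₁ p) ((gam R₁ p).lTensor M₀ k) := fun k ↦
    (kappa_bijective _ _ (isBaseChange_inc σ A M₀ R₁)).2 _
  choose y hy using hY
  have htrans : ∀ {R' : Subalgebra A R} (φ : R₁ →ₐ[A] R') (k),
      kappa (R' := R') (inc σ A M₀ R') (pI R' p) ((pMapA p φ).lTensor M₀ (y k)) =
      (polyMap σ φ).toRingHom τ₁ •
        kappa (R' := R') (inc σ A M₀ R') (pI R' p) ((gam R' p).lTensor M₀ k) := fun {R'} φ k ↦ by
    rw [← tmap_bc, hy, tmap_smul _ _ (polyMap σ φ).toRingHom (bcMap_smul σ M₀ φ), tmap_bc,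
      ← LinearMap.lTensor_comp_apply, pMapA_gam]
  have hy0 : ∀ k ∈ gen, (pMapA p R₁.val).lTensor M₀ (y k) = 0 := fun k hk ↦ by
    apply (kappa_bijective (R' := R) _ _ (isBaseChange_inc σ A M₀ R)).1
    rw [map_zero, ← tmap_bc, hy, tmap_smul _ _ (polyMap σ R₁.val).toRingHom (bcMap_smul σ M₀ R₁.val),
      tmap_bc, ← LinearMap.lTensor_comp_apply, pMapA_gam,
      show (polyMap σ R₁.val).toRingHom τ₁ = τ from hτ₁]
    exact hτX k hk
  let J := LinearMap.range (pVal p R₁.val)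
  let I : Submodule A R := (pI R p).restrictScalars A
  have hJI : J ≤ I := by
    rintro _ ⟨x, rfl⟩
    exact map_mem_pI p R₁.val x.2
  have hstage : ∀ k ∈ gen, ∃ J' : Submodule A R, J'.FG ∧ J' ≤ I ∧
      ∀ (K : Submodule A R) (hJK : J ≤ K), J' ≤ K →
        (Submodule.inclusion hJK).lTensor M₀ ((pVal p R₁.val).rangeRestrict.lTensor M₀ (y k)) = 0 :=
    fun k hk ↦ exists_stage_eq_zero hJI _ (by
      rw [← LinearMap.lTensor_comp_apply,
        show Submodule.inclusion hJI ∘ₗ (pVal p R₁.val).rangeRestrict =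
          (LinearMap.codRestrict I ((pI R p).subtype.restrictScalars A) fun x ↦ x.2) ∘ₗ
            pMapA p R₁.val from LinearMap.ext fun _ ↦ rfl,
        LinearMap.lTensor_comp_apply, hy0 k hk, map_zero])
  choose! J' hJfg hJI' hJzero using hstage
  obtain ⟨G, hG⟩ : (gen.sup J').FG := Finset.sup_induction Submodule.fg_bot
    (fun a ha b hb ↦ ha.sup hb) hJfg
  have hGI : ∀ z ∈ G, z ∈ pI R p := fun z hz ↦ by
    have : gen.sup J' ≤ I := Finset.sup_le hJI'
    exact this (hG ▸ Submodule.subset_span hz)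
  choose! Fz hFz using fun z (hz : z ∈ pI R p) ↦ exists_finset_mem_range p hz
  let F : Finset R := F₁ ∪ G.biUnion Fz
  let R₂ := Algebra.adjoin A (F : Set R)
  have h12 : R₁ ≤ R₂ := Algebra.adjoin_mono (Finset.coe_subset.mpr Finset.subset_union_left)
  let φ : R₁ →ₐ[A] R₂ := Subalgebra.inclusion h12
  haveI : IsNoetherianRing R₂ := isNoetherianRing_of_fg ⟨F, rfl⟩
  let K := LinearMap.range (pVal p R₂.val)
  have hJK : J ≤ K := by
    rintro _ ⟨x, rfl⟩
    exact ⟨pMapA p φ x, rfl⟩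
  have hGK : gen.sup J' ≤ K := by
    rw [← hG, Submodule.span_le]
    intro z hz
    refine hFz z (hGI z hz) R₂ (fun w hw ↦ Algebra.subset_adjoin ?_)
    exact Finset.mem_coe.mpr (Finset.mem_union_right _ (Finset.mem_biUnion.mpr ⟨z, hz, hw⟩))
  have hy2 : ∀ k ∈ gen, (pMapA p φ).lTensor M₀ (y k) = 0 := fun k hk ↦ by
    have hinj : Function.Injective (pVal p R₂.val) := fun a b h ↦ Subtype.ext (Subtype.ext h)
    let e := LinearEquiv.ofInjective _ hinj
    apply (LinearEquiv.lTensor M₀ e).injective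
    rw [map_zero, ← hJzero k hk K hJK ((Finset.le_sup hk).trans hGK)]
    rw [← LinearMap.lTensor_comp_apply]
    show e.toLinearMap.lTensor M₀ _ = _
    rw [← LinearMap.lTensor_comp_apply]
    rfl
  refine ⟨F, mem_flatLocus_of_kill (inc σ A M₀ R₂) (isBaseChange_inc σ A M₀ R₂) p f hfree _ ?_ ?_
    ((polyMap σ φ).toRingHom τ₁) ?_ ?_⟩
  · refine Ideal.map_le_iff_le_comap.mpr fun c hc ↦ ?_
    show MvPolynomial.map R₂.val.toRingHom (algebraMap R₂ _ (algebraMap A R₂ c)) ∈ q.asIdeal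
    rw [MvPolynomial.algebraMap_eq, MvPolynomial.map_C]
    exact hc
  · show MvPolynomial.map R₂.val.toRingHom (algebraMap A (MvPolynomial σ R₂) f) ∉ q.asIdeal
    rw [MvPolynomial.algebraMap_apply, MvPolynomial.map_C]
    exact hfp
  · show MvPolynomial.map R₂.val.toRingHom (MvPolynomial.map φ.toRingHom τ₁) ∉ q.asIdeal
    rw [MvPolynomial.map_map, show (R₂.val.toRingHom.comp φ.toRingHom) = R₁.val.toRingHom from rfl,
      hτ₁]
    exact hτ
  · intro k hk
    have hk' : k ∈ Submodule.span S₀ (gen : Set (M₀ ⊗[A] p)) := by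
      rw [hgen]
      exact LinearMap.mem_ker.mpr ((hjl k).trans hk)
    clear hk
    induction hk' using Submodule.span_induction with
    | mem k hk => rw [← htrans φ k, hy2 k hk, map_zero]
    | zero => simp
    | add a b _ _ ha hb => rw [map_add, map_add, smul_add, ha, hb, add_zero]
    | smul c a _ ha =>
      rw [show (gam R₂ p).lTensor M₀ (c • a) = c • (gam R₂ p).lTensor M₀ a from
        map_smul (AlgebraTensorModule.lTensor S₀ M₀ (gam R₂ p)) c a,
        kappa_smul (inc σ A M₀ R₂) _ (algebraMap S₀ (MvPolynomial σ R₂)) (inc_smul σ A M₀ R₂),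
        smul_comm, ha, smul_zero]

/-- The base change map is a base change. -/
theorem exists_isBaseChange_bcMap (R₁ : Subalgebra A R) :
    ∃ ι : BC σ A M₀ R₁ →ₗ[R₁] BC σ A M₀ R, IsBaseChange R ι ∧
      ∀ (t : MvPolynomial σ R₁) (x : BC σ A M₀ R₁),
        ι (t • x) = (polyMap σ R₁.val).toRingHom t • ι x := by
  let ι : BC σ A M₀ R₁ →ₗ[R₁] BC σ A M₀ R :=
    { toFun := bcMap σ M₀ R₁.val
      map_add' := map_add _
      map_smul' := fun r x ↦ by
        rw [LinearMap.map_smulₛₗ, RingHom.id_apply, ← algebraMap_smul R r]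
        rfl }
  have hcomp : ι.restrictScalars A ∘ₗ inc σ A M₀ R₁ = inc σ A M₀ R :=
    LinearMap.ext fun m ↦ bcMap_inc σ M₀ R₁.val m
  exact ⟨ι, IsBaseChange.of_comp (isBaseChange_inc σ A M₀ R₁) (hcomp ▸ isBaseChange_inc σ A M₀ R),
    bcMap_smul σ M₀ R₁.val⟩

theorem isOpen_flatLocus_bc : IsOpen (flatLocus R (MvPolynomial σ R) (BC σ A M₀ R)) := by
  rw [isOpen_iff_forall_mem_open]
  intro q hq
  obtain ⟨F, hF⟩ := exists_stage_mem_flatLocus σ M₀ q hq
  let R₁ := Algebra.adjoin A (F : Set R)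
  haveI : IsNoetherianRing R₁ := isNoetherianRing_of_fg ⟨F, rfl⟩
  let π := PrimeSpectrum.comap (polyMap σ R₁.val).toRingHom
  refine ⟨π ⁻¹' flatLocus R₁ (MvPolynomial σ R₁) (BC σ A M₀ R₁), fun q' hq' ↦ ?_,
    isOpen_flatLocus.preimage (PrimeSpectrum.continuous_comap _), hF⟩
  obtain ⟨ι, hι, hsmul⟩ := exists_isBaseChange_bcMap σ M₀ R₁
  exact flat_localized_baseChange (π q').asIdeal.primeCompl (LocalizedModule.mkLinearMap _ _)
    q'.asIdeal.primeCompl (LocalizedModule.mkLinearMap _ _) (polyMap σ R₁.val).toRingHom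
    (fun t ht ↦ ht) ι hι hsmul hq'

end FlatLib
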