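import Groth.Agent.FlatLib.FibMaster
import Mathlib

/-! Flatness of the fibre in terms of a field over the base. -/

set_option autoImplicit false
universe u

open TensorProduct

namespace FlatLib

theorem algebraMap_eq_zero_iff_comap {A C K : Type u} [CommRing A] [CommRing C] [Field K]
    [Algebra A C] [Algebra A K] (a : PrimeSpectrum (K ⊗[A] C)) (r : A) :
    algebraMap A C r ∈ (PrimeSpectrum.comap
      (Algebra.TensorProduct.includeRight : C →ₐ[A] K ⊗[A] C).toRingHom a).asIdeal ↔
      algebraMap A K r = 0 := by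
  show Algebra.TensorProduct.includeRight (R := A) (A := K) (algebraMap A C r) ∈ a.asIdeal ↔ _
  rw [AlgHom.commutes, IsScalarTower.algebraMap_apply A K (K ⊗[A] C)]
  constructor
  · intro h
    by_contra hne
    exact a.isPrime.ne_top (Ideal.eq_top_of_isUnit_mem _ h ((IsUnit.mk0 _ hne).map _))
  · intro h
    rw [h, map_zero]
    exact zero_mem _

variable {A B C K : Type u} [CommRing A] [CommRing B] [CommRing C] [Field K] [Algebra A B]
  [Algebra B C] [Algebra A C] [IsScalarTower A B C] [Algebra A K]

attribute [local instance] Algebra.TensorProduct.rightAlgebra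

theorem exists_tensorField {A B K L : Type u} [CommRing A] [CommRing B] [CommRing K] [CommRing L]
    [Algebra A B] [Algebra A K] [Algebra A L] [Algebra K L] [IsScalarTower A K L] :
    ∃ (T : Type u) (_ : CommRing T) (_ : Algebra (K ⊗[A] B) T) (_ : Algebra B T) (_ : Algebra L T)
      (_ : Algebra A T) (_ : Algebra K T) (_ : IsScalarTower B (K ⊗[A] B) T)
      (_ : IsScalarTower A B T) (_ : IsScalarTower A L T) (_ : IsScalarTower K (K ⊗[A] B) T)
      (_ : IsScalarTower K L T), Algebra.IsPushout A L B T := by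
  letI algB' : Algebra (K ⊗[A] B) (L ⊗[A] B) :=
    (Algebra.TensorProduct.map (IsScalarTower.toAlgHom A K L) (AlgHom.id A B)).toRingHom.toAlgebra
  haveI t1 : IsScalarTower B (K ⊗[A] B) (L ⊗[A] B) := IsScalarTower.of_algebraMap_eq fun b ↦ by
    show (1 : L) ⊗ₜ[A] b = Algebra.TensorProduct.map _ _ ((1 : K) ⊗ₜ[A] b)
    rw [Algebra.TensorProduct.map_tmul, map_one]
    rfl
  haveI t2 : IsScalarTower K (K ⊗[A] B) (L ⊗[A] B) := IsScalarTower.of_algebraMap_eq fun k ↦ by
    show algebraMap K L k ⊗ₜ[A] (1 : B) = Algebra.TensorProduct.map _ _ (k ⊗ₜ[A] (1 : B))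
    rw [Algebra.TensorProduct.map_tmul, map_one]
    rfl
  exact ⟨L ⊗[A] B, inferInstance, algB', inferInstance, inferInstance, inferInstance, inferInstance,
    t1, inferInstance, inferInstance, t2, inferInstance, inferInstance⟩

set_option maxSynthPendingDepth 6 in
theorem fibre_flat_iff (a : PrimeSpectrum (K ⊗[A] C)) [Algebra (K ⊗[A] B) (K ⊗[A] C)]
    (hξ : algebraMap (K ⊗[A] B) (K ⊗[A] C) =
      (Algebra.TensorProduct.map (AlgHom.id A K) (IsScalarTower.toAlgHom A B C)).toRingHom) :
    a ∈ flatLocus (K ⊗[A] B) (K ⊗[A] C) (K ⊗[A] C) ↔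
      FibFlat B C C
        (((PrimeSpectrum.comap (Algebra.TensorProduct.includeRight : C →ₐ[A] K ⊗[A] C).toRingHom
          a).asIdeal.comap (algebraMap A C)).map (algebraMap A B))
        (PrimeSpectrum.comap (Algebra.TensorProduct.includeRight : C →ₐ[A] K ⊗[A] C).toRingHom
          a).asIdeal := by
  let B' := K ⊗[A] B
  let C' := K ⊗[A] C
  let q := PrimeSpectrum.comap (Algebra.TensorProduct.includeRight : C →ₐ[A] C').toRingHom a
  let I := (q.asIdeal.comap (algebraMap A C)).map (algebraMap A B)
  have hK : ∀ r : A, algebraMap A C r ∈ q.asIdeal ↔ algebraMap A K r = 0 :=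
    algebraMap_eq_zero_iff_comap a
  haveI hKt : IsScalarTower K B' C' := IsScalarTower.of_algebraMap_eq fun k ↦ by
    rw [hξ]
    show algebraMap K C' k = Algebra.TensorProduct.map _ _ (k ⊗ₜ[A] (1 : B))
    rw [Algebra.TensorProduct.map_tmul, map_one]
    rfl
  have hBC' : ∀ b : B, algebraMap B' C' (1 ⊗ₜ b) = (1 : K) ⊗ₜ[A] algebraMap B C b := fun b ↦ by
    rw [hξ]
    show Algebra.TensorProduct.map _ _ ((1 : K) ⊗ₜ[A] b) = _
    rw [Algebra.TensorProduct.map_tmul]
    rfl
  letI : Algebra B C' := ((algebraMap C C').comp (algebraMap B C)).toAlgebra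
  haveI : IsScalarTower B C C' := IsScalarTower.of_algebraMap_eq fun _ ↦ rfl
  haveI hBt : IsScalarTower B B' C' := IsScalarTower.of_algebraMap_eq fun b ↦ by
    show (1 : K) ⊗ₜ[A] algebraMap B C b = algebraMap B' C' ((1 : K) ⊗ₜ b)
    rw [hBC']
  haveI : IsScalarTower A B C' := IsScalarTower.of_algebraMap_eq fun r ↦ by
    show algebraMap A C' r = algebraMap C C' (algebraMap B C (algebraMap A B r))
    rw [← IsScalarTower.algebraMap_apply A B C, ← IsScalarTower.algebraMap_apply A C C']
  let ι : C →ₗ[B] C' := (IsScalarTower.toAlgHom B C C').toLinearMap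
  have hιK : IsBaseChange K (ι.restrictScalars A) := TensorProduct.isBaseChange A C K
  have hspanB : Submodule.span K (Set.range (algebraMap B B')) = ⊤ := by
    rw [eq_top_iff]
    rintro z -
    induction z using TensorProduct.induction_on with
    | zero => exact zero_mem _
    | add x y hx hy => exact add_mem hx hy
    | tmul k b =>
      rw [show (k ⊗ₜ[A] b : B') = k • ((1 : K) ⊗ₜ[A] b) by rw [smul_tmul', smul_eq_mul, mul_one]]
      exact Submodule.smul_mem _ _ (Submodule.subset_span ⟨b, rfl⟩)
  have hspanC : Submodule.span K (Set.range (algebraMap C C')) = ⊤ := by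
    rw [eq_top_iff]
    rintro z -
    induction z using TensorProduct.induction_on with
    | zero => exact zero_mem _
    | add x y hx hy => exact add_mem hx hy
    | tmul k b =>
      rw [show (k ⊗ₜ[A] b : C') = k • ((1 : K) ⊗ₜ[A] b) by rw [smul_tmul', smul_eq_mul, mul_one]]
      exact Submodule.smul_mem _ _ (Submodule.subset_span ⟨b, rfl⟩)
  have hιB : IsBaseChange B' ι := isBaseChange_of_span hspanB ι hιK
  have hIB : ∀ c ∈ I, algebraMap B B' c = 0 := fun c hc ↦
    (Ideal.map_le_iff_le_comap.mpr fun r hr ↦ by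
      show algebraMap B B' (algebraMap A B r) = 0
      rw [← IsScalarTower.algebraMap_apply, IsScalarTower.algebraMap_apply A K B', (hK r).mp hr,
        map_zero] : I ≤ RingHom.ker (algebraMap B B')) hc
  constructor
  · intro h
    let L := a.asIdeal.ResidueField
    obtain ⟨T, _, _, _, _, _, _, _, _, _, _, _, hT⟩ := exists_tensorField (A := A) (B := B) (K := K) (L := L)
    have h2 := fibFlat_descend (R₁ := A) (R := K) (S₁ := B) (S := B') (S'₁ := C) (S' := C')
      (M₁ := C) (M := C') a.asIdeal T hT hspanC ι hιB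
      (fun s m ↦ map_mul (algebraMap C C') s m) (fibFlat_of_flat a h)
    exact h2
  · intro h
    refine (flat_localized_iff a.asIdeal.primeCompl (LocalizedModule.mkLinearMap _ C')).mpr
      fun P _ _ N x hx ↦ ?_
    letI : Module B P := Module.compHom P (algebraMap B B')
    haveI : IsScalarTower B B' P := IsScalarTower.of_algebraMap_smul fun _ _ ↦ rfl
    have hP : Module.IsTorsionBySet B P (I : Set B) := fun y c ↦ by
      show algebraMap B B' c.1 • y = 0
      rw [hIB _ c.2, zero_smul]
    obtain ⟨y, rfl⟩ := (kappa_bijective ι N hιB).2 x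
    rw [← kappa_lTensor] at hx
    have hy := (kappa_bijective ι P hιB).1 (hx.trans (map_zero _).symm)
    obtain ⟨t, ht, hty⟩ := h P hP (N.restrictScalars B) y hy
    refine ⟨algebraMap C C' t, ht, ?_⟩
    rw [← kappa_smul ι N (algebraMap C C') (fun s m ↦ map_mul (algebraMap C C') s m),
      show t • y = 0 from hty, map_zero]

end FlatLib
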