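import Groth.Agent.FlatLib.BaseChange
import Groth.Agent.FlatLib.FibreLocal
import Groth.Agent.FlatLib.Openness
import Mathlib

/-! Flatness of fibres at a point, and the fibrewise criterion for Noetherian rings. -/

set_option autoImplicit false
universe u

open TensorProduct LinearMap

namespace FlatLib

/-- `M / I M` is flat over `S / I` at `q`, stated through kernels. -/
def FibFlat (S S' M : Type u) [CommRing S] [CommRing S'] [AddCommGroup M] [Module S M] [Module S' M]
    [SMulCommClass S S' M] (I : Ideal S) (q : Ideal S') : Prop :=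
  ∀ (P : Type u) [AddCommGroup P] [Module S P], Module.IsTorsionBySet S P (I : Set S) →
    ∀ (N : Submodule S P) (x : M ⊗[S] N), N.subtype.lTensor M x = 0 → ∃ t ∉ q, t • x = 0

variable {R S S' M : Type u} [CommRing R] [CommRing S] [CommRing S'] [Algebra S S']
  [AddCommGroup M] [Module S M] [Module S' M] [IsScalarTower S S' M]
  {Mq : Type u} [AddCommGroup Mq] [Module S Mq] [Module S' Mq] [IsScalarTower S S' Mq]
  {I : Ideal S} (q : Ideal S') [q.IsPrime] (ψ : M →ₗ[S'] Mq) [IsLocalizedModule q.primeCompl ψ]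

theorem injective_lTensor_quotient_iff {X : Type u} [AddCommGroup X] [Module S X] {N P : Type u}
    [AddCommGroup N] [Module S N] [Module (S ⧸ I) N] [IsScalarTower S (S ⧸ I) N]
    [AddCommGroup P] [Module S P] [Module (S ⧸ I) P] [IsScalarTower S (S ⧸ I) P] (h : N →ₗ[S ⧸ I] P) :
    Function.Injective (h.lTensor ((S ⧸ I) ⊗[S] X)) ↔
      Function.Injective ((h.restrictScalars S).lTensor X) := by
  let e₁ := TensorProduct.comm (S ⧸ I) ((S ⧸ I) ⊗[S] X) N
  let e₂ := TensorProduct.comm (S ⧸ I) ((S ⧸ I) ⊗[S] X) P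
  let f₁ := AlgebraTensorModule.cancelBaseChange S (S ⧸ I) (S ⧸ I) N X
  let f₂ := AlgebraTensorModule.cancelBaseChange S (S ⧸ I) (S ⧸ I) P X
  let g₁ := TensorProduct.comm S N X
  let g₂ := TensorProduct.comm S P X
  have hcomm : ∀ z, g₂ (f₂ (e₂ (h.lTensor _ z))) =
      (h.restrictScalars S).lTensor X (g₁ (f₁ (e₁ z))) := fun z ↦ by
    induction z using TensorProduct.induction_on with
    | zero => simp
    | add a b ha hb => simp only [map_add, ha, hb]
    | tmul w n =>
      induction w using TensorProduct.induction_on with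
      | zero => simp
      | add a b ha hb => simp only [add_tmul, map_add, ha, hb]
      | tmul c m => simp [e₁, e₂, f₁, f₂, g₁, g₂]
  let E : (S ⧸ I) ⊗[S] X ⊗[S ⧸ I] N ≃ X ⊗[S] N :=
    (e₁.toEquiv.trans f₁.toEquiv).trans g₁.toEquiv
  let E' : (S ⧸ I) ⊗[S] X ⊗[S ⧸ I] P ≃ X ⊗[S] P :=
    (e₂.toEquiv.trans f₂.toEquiv).trans g₂.toEquiv
  have heq : (h.restrictScalars S).lTensor X ∘ E = E' ∘ h.lTensor ((S ⧸ I) ⊗[S] X) :=
    funext fun z ↦ (hcomm z).symm
  rw [← E'.comp_injective, ← heq, E.injective_comp]

include ψ in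
theorem fibFlat_iff : FibFlat S S' M I q ↔ Module.Flat (S ⧸ I) ((S ⧸ I) ⊗[S] Mq) := by
  constructor
  · intro h
    refine Module.Flat.iff_lTensor_injectiveₛ.mpr fun P _ _ N ↦ ?_
    letI : AddCommGroup P := Module.addCommMonoidToAddCommGroup (S ⧸ I)
    letI : Module S P := Module.compHom P (Ideal.Quotient.mk I)
    haveI : IsScalarTower S (S ⧸ I) P := IsScalarTower.of_algebraMap_smul fun _ _ ↦ rfl
    have hP : Module.IsTorsionBySet S P (I : Set S) := fun x r ↦ by
      show Ideal.Quotient.mk I r.1 • x = 0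
      rw [Ideal.Quotient.eq_zero_iff_mem.mpr r.2, zero_smul]
    rw [injective_lTensor_quotient_iff]
    exact (injective_lTensor_localized_iff q.primeCompl ψ (N.subtype.restrictScalars S)).mpr
      fun x hx ↦ h P hP (N.restrictScalars S) x hx
  · intro h P _ _ hP N x hx
    letI := hP.module
    haveI : IsScalarTower S (S ⧸ I) P := hP.isScalarTower
    let N' : Submodule (S ⧸ I) P :=
      { N.toAddSubmonoid with
        smul_mem' := fun c y hy ↦ by
          obtain ⟨c, rfl⟩ := Ideal.Quotient.mk_surjective c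
          rw [← Ideal.Quotient.algebraMap_eq, algebraMap_smul]
          exact N.smul_mem c hy }
    refine (injective_lTensor_localized_iff q.primeCompl ψ N.subtype).mp ?_ x hx
    let eN : N ≃ₗ[S] N' :=
      { toFun := fun y ↦ ⟨y.1, y.2⟩
        invFun := fun y ↦ ⟨y.1, y.2⟩
        map_add' := fun _ _ ↦ rfl
        map_smul' := fun _ _ ↦ rfl }
    rw [show N.subtype = (N'.subtype.restrictScalars S) ∘ₗ eN.toLinearMap from rfl,
      LinearMap.lTensor_comp]
    exact ((injective_lTensor_quotient_iff N'.subtype).mp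
      (Module.Flat.lTensor_preserves_injective_linearMap (M := (S ⧸ I) ⊗[S] Mq) N'.subtype
        Subtype.val_injective)).comp (LinearEquiv.lTensor Mq eN).injective

variable [Algebra R S] [Algebra R S'] [IsScalarTower R S S'] [Module R M] [IsScalarTower R S M]
  [IsScalarTower R S' M]

/-- The fibrewise criterion at a prime, Noetherian case. -/
theorem mem_flatLocus_of_fibFlat_noetherian [IsNoetherianRing S] [IsNoetherianRing S']
    [Module.Finite S' M] (q : PrimeSpectrum S') (hflat : q ∈ flatLocus R S' M)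
    (hfib : FibFlat S S' M ((q.asIdeal.comap (algebraMap R S')).map (algebraMap R S)) q.asIdeal) :
    q ∈ flatLocus S S' M ∧ (Nontrivial (LocalizedModule q.asIdeal.primeCompl M) →
      PrimeSpectrum.comap (algebraMap S S') q ∈ flatLocus R S S) := by
  let T := q.asIdeal.primeCompl
  let Mq := LocalizedModule T M
  let S'q := Localization.AtPrime q.asIdeal
  let p := q.asIdeal.comap (algebraMap R S')
  let I := p.map (algebraMap R S)
  haveI : IsScalarTower S S'q Mq := IsScalarTower.of_algebraMap_smul fun r x ↦ by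
    rw [IsScalarTower.algebraMap_apply S S' S'q, algebraMap_smul, algebraMap_smul]
  haveI : Module.Finite S'q Mq := Module.Finite.of_isLocalizedModule T (LocalizedModule.mkLinearMap T M)
  haveI : Module.Flat R Mq := hflat
  have hflatS : Module.Flat S Mq := by
    refine FlatCrit.flat_of_injective_of_flat_quotient (S := S'q) I ?_
      (injective_lTensor_map p) ((fibFlat_iff q.asIdeal (LocalizedModule.mkLinearMap T M)).mp hfib)
    rw [IsLocalRing.jacobson_eq_maximalIdeal _ bot_ne_top, ← Localization.AtPrime.map_eq_maximalIdeal,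
      IsScalarTower.algebraMap_eq S S' S'q, ← Ideal.map_map]
    refine Ideal.map_mono (Ideal.map_le_iff_le_comap.mpr (Ideal.map_le_iff_le_comap.mpr fun r hr ↦ ?_))
    show algebraMap S S' (algebraMap R S r) ∈ q.asIdeal
    rw [← IsScalarTower.algebraMap_apply]
    exact hr
  refine ⟨hflatS, fun _ ↦ ?_⟩
  let y := PrimeSpectrum.comap (algebraMap S S') q
  have : q.asIdeal.LiesOver y.asIdeal := ⟨rfl⟩
  let Sy := Localization.AtPrime y.asIdeal
  letI := Localization.AtPrime.algebraOfLiesOver y.asIdeal q.asIdeal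
  letI : Module Sy Mq := Module.compHom Mq (algebraMap Sy S'q)
  haveI : IsScalarTower Sy S'q Mq := IsScalarTower.of_algebraMap_smul fun _ _ ↦ rfl
  haveI : IsScalarTower S Sy Mq := IsScalarTower.of_algebraMap_smul fun s x ↦ by
    show algebraMap Sy S'q (algebraMap S Sy s) • x = s • x
    rw [← IsScalarTower.algebraMap_apply S Sy S'q, algebraMap_smul]
  haveI : IsScalarTower R Sy Mq := IsScalarTower.of_algebraMap_smul fun r x ↦ by
    rw [IsScalarTower.algebraMap_apply R S Sy, algebraMap_smul, algebraMap_smul]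
  haveI : Module.Flat Sy Mq := (Module.flat_iff_of_isLocalization Sy y.asIdeal.primeCompl Mq).mpr hflatS
  haveI := faithfullyFlat_of_flat_local (S := Sy) (S' := S'q) (M := Mq)
  have : Module.Flat R Sy := flat_of_faithfullyFlat_module (M := Mq)
  exact flat_of_le y.asIdeal.primeCompl (Algebra.linearMap S Sy) y.asIdeal.primeCompl
    (LocalizedModule.mkLinearMap _ S) le_rfl this

end FlatLib
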