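import Groth.Agent.FlatLib.FibAlg
import Groth.Prelude.Def_MoreMor
import Mathlib

/-! Flatness of maps of fibres at a point. -/

set_option autoImplicit false
universe u

open AlgebraicGeometry CategoryTheory Limits TensorProduct

namespace FlatLib

theorem flat_stalkMap_iff_of_openImmersions {P Q P' Q' : Scheme.{u}} (i : P ⟶ P') (j : Q ⟶ Q')
    [IsOpenImmersion i] [IsOpenImmersion j] (k : P ⟶ Q) (h : P' ⟶ Q') (w : i ≫ h = k ≫ j) (a : P) :
    (h.stalkMap (i a)).hom.Flat ↔ (k.stalkMap a).hom.Flat := by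
  have e1 : (h.stalkMap (i a)).hom.Flat ↔ ((i ≫ h).stalkMap a).hom.Flat := by
    rw [Scheme.Hom.stalkMap_comp]
    exact (RingHom.Flat.respectsIso.cancel_right_isIso _ _).symm
  have e2 : (k.stalkMap a).hom.Flat ↔ ((k ≫ j).stalkMap a).hom.Flat := by
    rw [Scheme.Hom.stalkMap_comp]
    exact (RingHom.Flat.respectsIso.cancel_left_isIso _ _).symm
  rw [e1, e2]
  haveI := RingHom.toMorphismProperty_respectsIso_iff.mp RingHom.Flat.respectsIso
  exact (RingHom.toMorphismProperty RingHom.Flat).arrow_mk_iso_iff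
    (Arrow.isoMk (Q'.presheaf.stalkCongr (.of_eq (by rw [w]))) (Iso.refl _)
      (by simp [Scheme.Hom.stalkMap_congr_hom _ _ w]))

theorem flat_specMap_stalkMap_iff {B C : Type u} [CommRing B] [CommRing C] [Algebra B C]
    (a : PrimeSpectrum C) :
    ((Spec.map (CommRingCat.ofHom (algebraMap B C))).stalkMap a).hom.Flat ↔
      a ∈ flatLocus B C C := by
  let p := a.asIdeal.comap (algebraMap B C)
  have : a.asIdeal.LiesOver p := ⟨rfl⟩
  let := Localization.AtPrime.algebraOfLiesOver p a.asIdeal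
  refine Iff.trans ?_ (mem_flatLocus_self_iff _).symm
  trans Module.Flat (Localization.AtPrime p) (Localization.AtPrime a.asIdeal)
  · rw [← RingHom.flat_algebraMap_iff]
    exact RingHom.Flat.respectsIso.arrow_mk_iso_iff
      (Scheme.arrowStalkMapSpecIso (CommRingCat.ofHom (algebraMap B C)) a)
  · exact Module.flat_iff_of_isLocalization (Localization.AtPrime p) p.primeCompl _

variable {A B C K : Type u} [CommRing A] [CommRing B] [CommRing C] [Field K] [Algebra A B]
  [Algebra B C] [Algebra A C] [IsScalarTower A B C] [Algebra A K]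

/-- A chart of a fibre. -/
theorem exists_fibre_chart {Y S : Scheme.{u}} (g : Y ⟶ S) (jV : Spec (.of B) ⟶ Y)
    (jW : Spec (.of A) ⟶ S) [IsOpenImmersion jV] [Mono jW]
    (hg : jV ≫ g = Spec.map (CommRingCat.ofHom (algebraMap A B)) ≫ jW) (s : S)
    (eK : Spec (.of K) ≅ Spec (S.residueField s))
    (hs : eK.hom ≫ S.fromSpecResidueField s = Spec.map (CommRingCat.ofHom (algebraMap A K)) ≫ jW) :
    ∃ θ : Spec (.of (K ⊗[A] B)) ⟶ g.fiber s, IsOpenImmersion θ ∧
      θ ≫ g.fiberι s = Spec.map (CommRingCat.ofHom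
        (Algebra.TensorProduct.includeRight : B →ₐ[A] K ⊗[A] B).toRingHom) ≫ jV ∧
      θ ≫ g.fiberToSpecResidueField s = Spec.map (CommRingCat.ofHom
        (Algebra.TensorProduct.includeLeftRingHom : K →+* K ⊗[A] B)) ≫ eK.hom ∧
      ∀ z : g.fiber s, g.fiberι s z ∈ Set.range jV → z ∈ Set.range θ := by
  let inl : K →+* K ⊗[A] B := Algebra.TensorProduct.includeLeftRingHom
  let inr : B →+* K ⊗[A] B := (Algebra.TensorProduct.includeRight : B →ₐ[A] K ⊗[A] B).toRingHom
  have hbig₀ : IsPullback (Spec.map (CommRingCat.ofHom inr)) (Spec.map (CommRingCat.ofHom inl))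
      (Spec.map (CommRingCat.ofHom (algebraMap A B))) (Spec.map (CommRingCat.ofHom (algebraMap A K))) :=
    (IsPullback.of_iso_pullback ⟨by
      rw [← Spec.map_comp, ← Spec.map_comp]
      congr 1
      ext r
      show algebraMap A K r ⊗ₜ[A] (1 : B) = (1 : K) ⊗ₜ[A] algebraMap A B r
      rw [Algebra.algebraMap_eq_smul_one, Algebra.algebraMap_eq_smul_one, smul_tmul]⟩
      (pullbackSpecIso A K B).symm (pullbackSpecIso_inv_fst A K B)
      (pullbackSpecIso_inv_snd A K B)).flip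
  have hbig₁ : IsPullback (Spec.map (CommRingCat.ofHom inr)) (Spec.map (CommRingCat.ofHom inl))
      (Spec.map (CommRingCat.ofHom (algebraMap A B)) ≫ jW)
      (Spec.map (CommRingCat.ofHom (algebraMap A K)) ≫ jW) := by
    have h := hbig₀.paste_horiz
      (IsPullback.of_id_fst (f := Spec.map (CommRingCat.ofHom (algebraMap A B))))
    refine ⟨⟨by rw [← Category.assoc, hbig₀.w, Category.assoc]⟩, ⟨?_⟩⟩
    exact PullbackCone.IsLimit.mk _
      (fun c ↦ hbig₀.lift c.fst c.snd ((cancel_mono jW).mp (by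
        simp only [Category.assoc]; exact c.condition)))
      (fun c ↦ hbig₀.lift_fst _ _ _) (fun c ↦ hbig₀.lift_snd _ _ _)
      (fun c m h1 h2 ↦ hbig₀.hom_ext (h1.trans (hbig₀.lift_fst _ _ _).symm)
        (h2.trans (hbig₀.lift_snd _ _ _).symm))
  have hbig : IsPullback (Spec.map (CommRingCat.ofHom inr))
      (Spec.map (CommRingCat.ofHom inl) ≫ eK.hom) (jV ≫ g) (S.fromSpecResidueField s) := by
    refine hbig₁.of_iso (Iso.refl _) (Iso.refl _) eK (Iso.refl _) (by simp) (by simp) ?_ ?_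
    · simp [hg]
    · simp [hs]
  let θ : Spec (.of (K ⊗[A] B)) ⟶ g.fiber s := pullback.lift
    (Spec.map (CommRingCat.ofHom inr) ≫ jV) (Spec.map (CommRingCat.ofHom inl) ≫ eK.hom) (by
      rw [Category.assoc, hbig.w])
  have hfst : θ ≫ g.fiberι s = Spec.map (CommRingCat.ofHom inr) ≫ jV := pullback.lift_fst _ _ _
  have hsnd : θ ≫ g.fiberToSpecResidueField s = Spec.map (CommRingCat.ofHom inl) ≫ eK.hom :=
    pullback.lift_snd _ _ _
  have hsq : IsPullback (Spec.map (CommRingCat.ofHom inr)) θ jV (g.fiberι s) :=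
    IsPullback.of_bot (v₂₁ := g.fiberToSpecResidueField s) (by rw [hsnd]; exact hbig) hfst.symm
      (IsPullback.of_hasPullback g (S.fromSpecResidueField s))
  refine ⟨θ, MorphismProperty.of_isPullback hsq inferInstance, hfst, hsnd, fun z hz ↦ ?_⟩
  obtain ⟨y, hy⟩ := hz
  obtain ⟨p, -, hp⟩ := Scheme.exists_preimage_of_isPullback hsq y z hy
  exact ⟨p, hp⟩

set_option maxSynthPendingDepth 6 in
theorem flat_fiberMap_stalkMap_iff {X Y S : Scheme.{u}} (f : X ⟶ Y) (g : Y ⟶ S)
    (jU : Spec (.of C) ⟶ X) (jV : Spec (.of B) ⟶ Y) (jW : Spec (.of A) ⟶ S) [IsOpenImmersion jU]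
    [IsOpenImmersion jV] [Mono jW]
    (hf : jU ≫ f = Spec.map (CommRingCat.ofHom (algebraMap B C)) ≫ jV)
    (hg : jV ≫ g = Spec.map (CommRingCat.ofHom (algebraMap A B)) ≫ jW)
    (s : S) (eK : Spec (.of K) ≅ Spec (S.residueField s))
    (hs : eK.hom ≫ S.fromSpecResidueField s = Spec.map (CommRingCat.ofHom (algebraMap A K)) ≫ jW)
    (c : PrimeSpectrum C) (z : (f ≫ g).fiber s) (hz : (f ≫ g).fiberι s z = jU c) :
    ((MoreMor.fiberMap f g s).stalkMap z).hom.Flat ↔
      FibFlat B C C ((c.asIdeal.comap (algebraMap A C)).map (algebraMap A B)) c.asIdeal := by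
  have hgf : jU ≫ (f ≫ g) = Spec.map (CommRingCat.ofHom (algebraMap A C)) ≫ jW := by
    rw [reassoc_of% hf, hg, ← Category.assoc, ← Spec.map_comp, ← CommRingCat.ofHom_comp,
      ← IsScalarTower.algebraMap_eq]
  obtain ⟨θY, hθY, hYfst, hYsnd, -⟩ := exists_fibre_chart g jV jW hg s eK hs
  obtain ⟨θX, hθX, hXfst, hXsnd, hXrange⟩ := exists_fibre_chart (f ≫ g) jU jW hgf s eK hs
  let ξ := Algebra.TensorProduct.map (AlgHom.id A K) (IsScalarTower.toAlgHom A B C)
  letI : Algebra (K ⊗[A] B) (K ⊗[A] C) := ξ.toRingHom.toAlgebra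
  have hw : θX ≫ MoreMor.fiberMap f g s =
      Spec.map (CommRingCat.ofHom (algebraMap (K ⊗[A] B) (K ⊗[A] C))) ≫ θY := by
    have hfm1 : MoreMor.fiberMap f g s ≫ g.fiberι s = (f ≫ g).fiberι s ≫ f := pullback.lift_fst _ _ _
    have hfm2 : MoreMor.fiberMap f g s ≫ g.fiberToSpecResidueField s =
        (f ≫ g).fiberToSpecResidueField s := pullback.lift_snd _ _ _
    have e1 : (θX ≫ MoreMor.fiberMap f g s) ≫ g.fiberι s =
        (Spec.map (CommRingCat.ofHom (algebraMap (K ⊗[A] B) (K ⊗[A] C))) ≫ θY) ≫ g.fiberι s := by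
      rw [Category.assoc, hfm1, reassoc_of% hXfst, hf, Category.assoc, hYfst, ← Category.assoc,
        ← Category.assoc, ← Spec.map_comp, ← Spec.map_comp]
      congr 2
    have e2 : (θX ≫ MoreMor.fiberMap f g s) ≫ g.fiberToSpecResidueField s =
        (Spec.map (CommRingCat.ofHom (algebraMap (K ⊗[A] B) (K ⊗[A] C))) ≫ θY) ≫
          g.fiberToSpecResidueField s := by
      rw [Category.assoc, hfm2, hXsnd, Category.assoc, hYsnd, ← Category.assoc (Spec.map _),
        ← Spec.map_comp]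
      congr 2
      ext k
      show k ⊗ₜ[A] (1 : C) = ξ (k ⊗ₜ (1 : B))
      simp [ξ]
    exact pullback.hom_ext e1 e2
  obtain ⟨a, rfl⟩ := hXrange z ⟨c, hz.symm⟩
  have hac : PrimeSpectrum.comap
      (Algebra.TensorProduct.includeRight : C →ₐ[A] K ⊗[A] C).toRingHom a = c := by
    apply jU.isOpenEmbedding.injective
    rw [← hz, ← Scheme.Hom.comp_apply, hXfst, Scheme.Hom.comp_apply]
    rfl
  rw [flat_stalkMap_iff_of_openImmersions θX θY _ _ hw a, flat_specMap_stalkMap_iff,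
    fibre_flat_iff a rfl, hac]

end FlatLib
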