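import Groth.Agent.FlatLib.FibreFlatScheme
import Groth.Agent.AlgSpLib.LocP
import Groth.Agent.AlgSpLib.Reduced

/-! Flatness from flatness of the fibres, for algebraic spaces. -/

set_option autoImplicit false
universe u

open AlgebraicGeometry CategoryTheory Limits AlgSp AlgSpLib

namespace FlatLib

variable {S : Scheme.{u}}

/-- Fibres of morphisms of sheaves: every base change to a field is flat. -/
def FibresFlat {X Y Z : Sp S} (f : X ⟶ Y) (h : Y ⟶ Z) : Prop :=
  ∀ (K : Type u) [Field K] (sK : Spec (CommRingCat.of K) ⟶ S)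
    (z : (yon S).obj (Over.mk sK) ⟶ Z) (Xz Yz : Sp S) (pX : Xz ⟶ X)
    (qX : Xz ⟶ (yon S).obj (Over.mk sK)) (pY : Yz ⟶ Y) (qY : Yz ⟶ (yon S).obj (Over.mk sK))
    (fz : Xz ⟶ Yz), IsPullback pX qX (f ≫ h) z → IsPullback pY qY h z → fz ≫ pY = pX ≫ f →
      fz ≫ qY = qX → LocP @Flat fz

/-- The fibre of a scheme chart, as a pullback of sheaves. -/
theorem fibre_isPullback {A B : Over S} (g : A ⟶ B) (s : ↥B.left) :
    IsPullback
      ((yon S).map (Over.homMk (g.left.fiberι s)
        (by
          rw [← Over.w g]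
          exact (Category.assoc _ _ _).symm.trans
            ((congrArg (· ≫ B.hom) (g.left.fiber_fac s)).trans (Category.assoc _ _ _))) :
        (Over.mk (g.left.fiberToSpecResidueField s ≫ B.left.fromSpecResidueField s ≫ B.hom) : Over S) ⟶ A))
      ((yon S).map (Over.homMk (g.left.fiberToSpecResidueField s) rfl :
        (Over.mk (g.left.fiberToSpecResidueField s ≫ B.left.fromSpecResidueField s ≫ B.hom) : Over S) ⟶
          Over.mk (B.left.fromSpecResidueField s ≫ B.hom)))
      ((yon S).map g)
      ((yon S).map (Over.homMk (B.left.fromSpecResidueField s) rfl :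
        (Over.mk (B.left.fromSpecResidueField s ≫ B.hom) : Over S) ⟶ B)) := by
  refine IsPullback.map (yon S) (IsPullback.of_map (Over.forget S) ?_ ?_)
  · ext
    exact g.left.fiber_fac s
  · exact IsPullback.of_hasPullback _ _

theorem flat_chart_of_fibresFlat {X Y Z : Sp S} (hZ : IsAlgSpace Z) {f : X ⟶ Y} {h : Y ⟶ Z}
    (hfib : FibresFlat f h) {U V : Over S} {a : (yon S).obj U ⟶ X} {b : (yon S).obj V ⟶ Y}
    {k : U ⟶ V} (ha : RepWith @Etale a) (hb : RepWith @Etale b) (e : a ≫ f = (yon S).map k ≫ b)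
    (hflat : LocP @Flat (f ≫ h))
    (crit : ∀ (U' V' W : Over S) (a' : (yon S).obj U' ⟶ X) (b' : (yon S).obj V' ⟶ Y)
      (w : (yon S).obj W ⟶ Z) (k' : U' ⟶ V') (q : V' ⟶ W), RepWith @Etale a' → RepWith @Etale b' →
      RepWith @Etale w → a' ≫ f = (yon S).map k' ≫ b' → b' ≫ h = (yon S).map q ≫ w →
      Flat (k'.left ≫ q.left) → (∀ s, Flat (MoreMor.fiberMap k'.left q.left s)) → Flat k'.left) :
    Flat k.left := by
  obtain ⟨W, w, hw, hws⟩ := hZ.atlas
  obtain ⟨V', q, p, sqV⟩ := exists_isPullback_yon w (b ≫ h) hw.rep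
  have : Etale p.left := etale_left (repWith_of_isPullback sqV hw)
  have : Surjective p.left := surjective_left (repWith_of_isPullback sqV hws)
  let U' : Over S := pullback k p
  let rU : U' ⟶ U := pullback.fst k p
  let k' : U' ⟶ V' := pullback.snd k p
  have sqU : IsPullback ((yon S).map rU) ((yon S).map k') ((yon S).map k) ((yon S).map p) :=
    IsPullback.map (yon S) (IsPullback.of_hasPullback k p)
  have sqUs := isPullback_left sqU
  refine EtLocProp.targetDescent (P := @Flat) sqUs ?_
  let a' := (yon S).map rU ≫ a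
  let b' := (yon S).map p ≫ b
  have : Etale rU.left := MorphismProperty.of_isPullback (P := @Etale) sqUs.flip ‹_›
  have ha' : RepWith @Etale a' := repWith_comp ((repWith_yon_map_iff _ _).2 ‹Etale rU.left›) ha
  have hb' : RepWith @Etale b' := repWith_comp ((repWith_yon_map_iff _ _).2 ‹Etale p.left›) hb
  have e' : a' ≫ f = (yon S).map k' ≫ b' := by
    simp only [a', b', Category.assoc, e]
    rw [← Category.assoc, sqU.w, Category.assoc]
  have e'' : b' ≫ h = (yon S).map q ≫ w := by
    simp only [b', Category.assoc]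
    exact sqV.w.symm
  have sqU' : IsPullback ((yon S).map rU) ((yon S).map (k' ≫ q)) (a ≫ (f ≫ h)) w := by
    have := sqU.paste_vert sqV.flip
    rwa [← Functor.map_comp, show (yon S).map k ≫ b ≫ h = a ≫ f ≫ h by
      rw [← Category.assoc a, e, Category.assoc]] at this
  refine crit U' V' W a' b' w k' q ha' hb' hw e' e'' ?_ fun s ↦ ?_
  · rw [← Over.comp_left]
    exact hflat a' w (k' ≫ q) ha' hw (by
      rw [← Category.assoc, e', Category.assoc, e'', ← Category.assoc, ← Functor.map_comp])
  let T : Over S := Over.mk (W.left.fromSpecResidueField s ≫ W.hom)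
  let ιT : T ⟶ W := Over.homMk (W.left.fromSpecResidueField s) rfl
  let z : (yon S).obj T ⟶ Z := (yon S).map ιT ≫ w
  let Xz := pullback (f ≫ h) z
  let Yz := pullback h z
  let fz : Xz ⟶ Yz := pullback.lift (pullback.fst _ _ ≫ f) (pullback.snd _ _)
    (by rw [Category.assoc, pullback.condition])
  have hfz : LocP @Flat fz := hfib _ (W.left.fromSpecResidueField s ≫ W.hom) z Xz Yz _ _ _ _ fz
    (IsPullback.of_hasPullback _ _) (IsPullback.of_hasPullback _ _)
    (pullback.lift_fst _ _ _) (pullback.lift_snd _ _ _)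
  have sqX := fibre_isPullback (k' ≫ q) s
  have sqY := fibre_isPullback q s
  have bigX := sqX.paste_horiz sqU'
  have bigY := sqY.paste_horiz sqV.flip
  let aX := pullback.lift (f := f ≫ h) (g := z) _ _ ((Category.assoc _ _ _).trans bigX.w)
  let aY := pullback.lift (f := h) (g := z) _ _ ((Category.assoc _ _ _).trans bigY.w)
  have haX : RepWith @Etale aX := repWith_of_isPullback
    (IsPullback.of_bot (v₁₁ := aX) (v₂₁ := pullback.snd (f ≫ h) z)
      (by rw [pullback.lift_snd]; exact bigX) (pullback.lift_fst _ _ _).symm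
      (IsPullback.of_hasPullback _ _)) ha
  have haY : RepWith @Etale aY := repWith_of_isPullback
    (IsPullback.of_bot (v₁₁ := aY) (v₂₁ := pullback.snd h z)
      (by rw [pullback.lift_snd]; exact bigY) (pullback.lift_fst _ _ _).symm
      (IsPullback.of_hasPullback _ _)) hb
  let kF : (Over.mk ((k' ≫ q).left.fiberToSpecResidueField s ≫ W.left.fromSpecResidueField s ≫ W.hom) : Over S) ⟶
      Over.mk (q.left.fiberToSpecResidueField s ≫ W.left.fromSpecResidueField s ≫ W.hom) :=
    Over.homMk (MoreMor.fiberMap k'.left q.left s)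
      ((Category.assoc _ _ _).symm.trans (congrArg (· ≫ _) (pullback.lift_snd _ _ _)))
  refine hfz aX aY kF haX haY (pullback.hom_ext ?_ ?_)
  · simp only [fz, Category.assoc, pullback.lift_fst]
    rw [pullback.lift_fst_assoc, pullback.lift_fst]
    simp only [Category.assoc]
    have h2 : (yon S).map rU ≫ a ≫ f = (yon S).map k' ≫ (yon S).map p ≫ b := by
      rw [e, ← Category.assoc, sqU.w, Category.assoc]
    refine (congrArg (_ ≫ ·) h2).trans ?_
    refine (Category.assoc _ _ _).symm.trans (Eq.trans ?_ (Category.assoc _ _ _))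
    refine congrArg (· ≫ (yon S).map p ≫ b)
      (((yon S).map_comp _ _).symm.trans ((congrArg (yon S).map ?_).trans ((yon S).map_comp _ _)))
    ext
    exact (pullback.lift_fst _ _ _).symm
  · simp only [fz, Category.assoc, pullback.lift_snd]
    rw [pullback.lift_snd, pullback.lift_snd, ← Functor.map_comp]
    refine congrArg (yon S).map ?_
    ext
    exact (pullback.lift_snd _ _ _).symm

theorem flat_pair_of_chartwise {X Y Z : Sp S} (hX : IsAlgSpace X) (hY : IsAlgSpace Y)
    {f : X ⟶ Y} {h : Y ⟶ Z} (hflat : LocP @Flat (f ≫ h))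
    (hchart : ∀ {U V : Over S} {a : (yon S).obj U ⟶ X} {b : (yon S).obj V ⟶ Y} {k : U ⟶ V},
      RepWith @Etale a → RepWith @Etale b → a ≫ f = (yon S).map k ≫ b → Flat k.left) :
    LocP @Flat f ∧ (IsSurjectiveMor f → LocP @Flat h) := by
  refine ⟨fun U V a b k ha hb e ↦ hchart ha hb e, fun hs V W b w g hb hw e ↦ ?_⟩
  obtain ⟨U, a, k, ha, hks, e'⟩ := exists_surjective_chart hX hY hs b hb
  have : Flat k.left := hchart ha hb e'
  have : Flat (k.left ≫ g.left) := by
    rw [← Over.comp_left]
    exact hflat a w (k ≫ g) ha hw (by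
      rw [← Category.assoc, e', Category.assoc, e, ← Category.assoc, ← Functor.map_comp])
  exact flat_of_flat_surjective_comp k.left g.left

end FlatLib
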