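import Groth.Agent.FlatLib.Stage
import Groth.Agent.FlatLib.Span
import Mathlib

/-! Generic freeness over a reduced base. -/

set_option autoImplicit false
universe u

open TensorProduct

namespace FlatLib

theorem exists_minimalPrime_notMem {R : Type u} [CommRing R] [IsReduced R] {g : R} (hg : g ≠ 0) :
    ∃ p ∈ minimalPrimes R, g ∉ p := by
  obtain ⟨q, hq, -, hdis⟩ := Ideal.exists_le_prime_disjoint (⊥ : Ideal R) (Submonoid.powers g)
    (Set.disjoint_left.mpr fun x hx hxg ↦ by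
      obtain ⟨k, rfl⟩ := hxg
      exact hg (IsReduced.eq_zero g ⟨k, hx⟩))
  obtain ⟨p, hp, hpq⟩ := Ideal.exists_minimalPrimes_le (bot_le : (⊥ : Ideal R) ≤ q)
  exact ⟨p, hp, fun hgp ↦ Set.disjoint_left.mp hdis (hpq hgp) (Submonoid.mem_powers g)⟩

theorem exists_mul_eq_zero_of_minimalPrime {R : Type u} [CommRing R] [IsReduced R] {p : Ideal R}
    (hp : p ∈ minimalPrimes R) {a : R} (ha : a ∈ p) : ∃ s ∉ p, s * a = 0 := by
  haveI : p.IsPrime := hp.1.1
  by_contra! h
  let T : Submonoid R :=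
    { carrier := {x | ∃ (s : R) (k : ℕ), s ∉ p ∧ x = s * a ^ k}
      one_mem' := ⟨1, 0, Ideal.IsPrime.one_notMem inferInstance, by rw [pow_zero, one_mul]⟩
      mul_mem' := by
        rintro _ _ ⟨s, k, hs, rfl⟩ ⟨s', k', hs', rfl⟩
        exact ⟨s * s', k + k', Ideal.IsPrime.mul_notMem inferInstance hs hs', by rw [pow_add]; ring⟩ }
  obtain ⟨q, hq, -, hdis⟩ := Ideal.exists_le_prime_disjoint (⊥ : Ideal R) T
    (Set.disjoint_left.mpr fun x hx ↦ by
      rintro ⟨s, k, hs, rfl⟩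
      rw [SetLike.mem_coe, Ideal.mem_bot] at hx
      refine h s hs (IsReduced.eq_zero (s * a) ⟨k + 1, ?_⟩)
      rw [mul_pow, pow_succ, pow_succ, show s ^ k * s * (a ^ k * a) = s ^ k * a * (s * a ^ k) by ring,
        hx, mul_zero])
  have hqp : q ≤ p := fun x hx ↦ by
    by_contra hxp
    exact Set.disjoint_left.mp hdis hx ⟨x, 0, hxp, by rw [pow_zero, mul_one]⟩
  exact Set.disjoint_left.mp hdis (hp.2 ⟨hq, bot_le⟩ hqp ha)
    ⟨1, 1, Ideal.IsPrime.one_notMem inferInstance, by rw [one_mul, pow_one]⟩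

set_option maxSynthPendingDepth 6 in
/-- Generic freeness of a finitely presented quotient of a polynomial ring over a reduced ring. -/
theorem exists_free_fp_quotient {σ R : Type u} [Finite σ] [CommRing R] [IsReduced R]
    (I : Ideal (MvPolynomial σ R)) (hI : I.FG) {g : R} (hg : g ≠ 0) :
    ∃ f : R, f ≠ 0 ∧ g ∣ f ∧
      Module.Free (Localization.Away f) (Localization.Away f ⊗[R] (MvPolynomial σ R ⧸ I)) := by
  classical
  obtain ⟨p, hp, hgp⟩ := exists_minimalPrime_notMem hg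
  haveI : p.IsPrime := hp.1.1
  obtain ⟨G, rfl⟩ := hI
  let F : Finset R := insert g (G.biUnion fun P ↦ P.coeffs)
  let R₀ := Algebra.adjoin ℤ (F : Set R)
  haveI : Algebra.FiniteType ℤ R₀ :=
    Subalgebra.fg_iff_finiteType _ |>.mp (Subalgebra.fg_adjoin_finset _)
  haveI : IsNoetherianRing R₀ := Algebra.FiniteType.isNoetherianRing ℤ R₀
  have hlift : ∀ P ∈ G, ∃ P₀ : MvPolynomial σ R₀, MvPolynomial.map (algebraMap R₀ R) P₀ = P := by
    intro P hP
    refine MvPolynomial.mem_range_map_iff_coeffs_subset.mpr fun c hc ↦ ?_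
    exact ⟨⟨c, Algebra.subset_adjoin (Finset.mem_coe.mpr (Finset.mem_insert_of_mem
      (Finset.mem_biUnion.mpr ⟨P, hP, hc⟩)))⟩, rfl⟩
  choose! L hL using hlift
  let I₀ : Ideal (MvPolynomial σ R₀) := Ideal.span (L '' G)
  have hI₀ : Ideal.span (G : Set (MvPolynomial σ R)) = I₀.map (MvPolynomial.map (algebraMap R₀ R)) := by
    rw [Ideal.map_span, Set.image_image]
    congr 1
    ext P
    refine ⟨fun h ↦ ⟨P, h, hL P h⟩, ?_⟩
    rintro ⟨Q, hQ, rfl⟩
    show MvPolynomial.map _ (L Q) ∈ _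
    rwa [hL Q hQ]
  let M₀ := MvPolynomial σ R₀ ⧸ I₀
  let M := MvPolynomial σ R ⧸ Ideal.span (G : Set (MvPolynomial σ R))
  let φ : M₀ →ₗ[R₀] M :=
    { toFun := Ideal.quotientMap _ (MvPolynomial.map (algebraMap R₀ R))
        (Ideal.le_comap_map.trans_eq (by rw [← hI₀]))
      map_add' := map_add _
      map_smul' := fun r y ↦ by
        obtain ⟨y, rfl⟩ := Ideal.Quotient.mk_surjective y
        show Ideal.Quotient.mk _ (MvPolynomial.map (algebraMap R₀ R) (r • y)) =
          Ideal.Quotient.mk _ (r • MvPolynomial.map (algebraMap R₀ R) y)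
        congr 1
        rw [Algebra.smul_def, map_mul, MvPolynomial.algebraMap_eq, MvPolynomial.map_C,
          ← algebraMap_smul R r, Algebra.smul_def, MvPolynomial.algebraMap_eq] }
  have hφ : IsBaseChange R φ := isBaseChange_polyQuotient I₀ _ hI₀ φ fun _ ↦ rfl
  let p₀ : Ideal R₀ := p.comap (algebraMap R₀ R)
  obtain ⟨t, ht⟩ := (IsNoetherian.noetherian p₀ : p₀.FG)
  have hs : ∀ a ∈ t, ∃ s ∉ p, s * algebraMap R₀ R a = 0 := fun a ha ↦
    exists_mul_eq_zero_of_minimalPrime hp (show a ∈ p₀ from ht ▸ Ideal.subset_span ha)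
  choose! s hsp hs using hs
  obtain ⟨f₀, hf₀, hfree⟩ := exists_free_away (R := R₀) (S := MvPolynomial σ R₀) (M := M₀) p₀
  let f := g * algebraMap R₀ R f₀ * ∏ a ∈ t, s a
  have hfp : f ∉ p := by
    intro hf
    rcases Ideal.IsPrime.mem_or_mem inferInstance hf with h | h
    · rcases Ideal.IsPrime.mem_or_mem inferInstance h with h | h
      exacts [hgp h, hf₀ h]
    · obtain ⟨a, ha, hsa⟩ := ((inferInstance : p.IsPrime).prod_mem_iff).mp h
      exact hsp a ha hsa
  refine ⟨f, fun h ↦ hfp (h ▸ zero_mem p), ⟨_, mul_assoc _ _ _⟩, ?_⟩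
  let Lf := Localization.Away f
  have hu := IsLocalization.Away.algebraMap_isUnit (S := Lf) f
  rw [map_mul, map_mul, IsUnit.mul_iff, IsUnit.mul_iff] at hu
  have hkill : ∀ a ∈ p₀, algebraMap R₀ Lf a = 0 := by
    intro a ha
    rw [← ht] at ha
    induction ha using Submodule.span_induction with
    | mem a ha =>
      have hua : IsUnit (algebraMap R Lf (s a)) :=
        isUnit_of_dvd_unit (map_dvd _ (Finset.dvd_prod_of_mem s ha)) hu.2
      rw [IsScalarTower.algebraMap_apply R₀ R Lf]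
      refine hua.mul_right_eq_zero.mp ?_
      rw [← map_mul, hs a ha, map_zero]
    | zero => exact map_zero _
    | add a b _ _ ha hb => rw [map_add, ha, hb, add_zero]
    | smul c a _ ha => rw [smul_eq_mul, map_mul, ha, mul_zero]
  let θ : (R₀ ⧸ p₀) →+* Lf := Ideal.Quotient.lift p₀ (algebraMap R₀ Lf) hkill
  letI : Algebra (R₀ ⧸ p₀) Lf := θ.toAlgebra
  haveI : IsScalarTower R₀ (R₀ ⧸ p₀) Lf := IsScalarTower.of_algebraMap_eq fun _ ↦ rfl
  let K := Localization.Away (Ideal.Quotient.mk p₀ f₀)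
  have hu₀ : IsUnit (algebraMap (R₀ ⧸ p₀) Lf (Ideal.Quotient.mk p₀ f₀)) := by
    show IsUnit (algebraMap R₀ Lf f₀)
    rw [IsScalarTower.algebraMap_apply R₀ R Lf]
    exact hu.1.2
  letI : Algebra K Lf := (IsLocalization.Away.lift (Ideal.Quotient.mk p₀ f₀) hu₀).toAlgebra
  haveI : IsScalarTower (R₀ ⧸ p₀) K Lf := IsScalarTower.of_algebraMap_eq fun r ↦
    (IsLocalization.Away.lift_eq (Ideal.Quotient.mk p₀ f₀) hu₀ r).symm
  haveI : IsScalarTower R₀ K Lf := IsScalarTower.of_algebraMap_eq fun r ↦ by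
    rw [IsScalarTower.algebraMap_apply R₀ (R₀ ⧸ p₀) K, ← IsScalarTower.algebraMap_apply (R₀ ⧸ p₀) K Lf,
      ← IsScalarTower.algebraMap_apply]
  have := hfree
  exact Module.Free.of_equiv (((AlgebraTensorModule.cancelBaseChange R₀ K Lf Lf M₀).trans
    (AlgebraTensorModule.cancelBaseChange R₀ R Lf Lf M₀).symm).trans
      (AlgebraTensorModule.congr (LinearEquiv.refl Lf Lf) hφ.equiv))

open MvPolynomial in
/-- An element of `J` which survives in a free `R_f ⊗ P/I` survives in every fibre over some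
nonempty basic open. -/
theorem exists_strict_step {σ R : Type u} [CommRing R] (I : Ideal (MvPolynomial σ R)) (f : R)
    [Module.Free (Localization.Away f) (Localization.Away f ⊗[R] (MvPolynomial σ R ⧸ I))]
    (x : MvPolynomial σ R)
    (hx : (1 : Localization.Away f) ⊗ₜ[R] Ideal.Quotient.mk I x ≠ 0) :
    ∃ c : R, f * c ≠ 0 ∧ ∀ (K : Type u) [Field K] [Algebra R K], algebraMap R K (f * c) ≠ 0 →
      MvPolynomial.map (algebraMap R K) x ∉ I.map (MvPolynomial.map (algebraMap R K)) := by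
  let L := Localization.Away f
  let b := Module.Free.chooseBasis L (L ⊗[R] (MvPolynomial σ R ⧸ I))
  obtain ⟨i, hi⟩ : ∃ i, b.repr ((1 : L) ⊗ₜ[R] Ideal.Quotient.mk I x) i ≠ 0 := by
    by_contra! h
    exact hx (b.repr.injective (by rw [map_zero]; exact Finsupp.ext h))
  obtain ⟨k, c, hc⟩ := IsLocalization.Away.surj f (b.repr ((1 : L) ⊗ₜ[R] Ideal.Quotient.mk I x) i)
  have hfu : IsUnit (algebraMap R L f) := IsLocalization.Away.algebraMap_isUnit f
  refine ⟨c, fun h ↦ ?_, fun K _ _ hK hmem ↦ ?_⟩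
  · have : algebraMap R L f * algebraMap R L c = 0 := by rw [← map_mul, h, map_zero]
    rw [hfu.mul_right_eq_zero] at this
    rw [this] at hc
    exact hi ((hfu.pow k).mul_left_eq_zero.mp hc)
  · rw [map_mul, mul_ne_zero_iff] at hK
    have hKu : IsUnit (algebraMap R K f) := isUnit_iff_ne_zero.mpr hK.1
    letI : Algebra L K := (IsLocalization.Away.lift f hKu).toAlgebra
    haveI : IsScalarTower R L K := IsScalarTower.of_algebraMap_eq fun r ↦
      (IsLocalization.Away.lift_eq f hKu r).symm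
    let φ : (MvPolynomial σ R ⧸ I) →ₗ[R] MvPolynomial σ K ⧸ I.map (MvPolynomial.map (algebraMap R K)) :=
      { toFun := Ideal.quotientMap _ (MvPolynomial.map (algebraMap R K)) Ideal.le_comap_map
        map_add' := map_add _
        map_smul' := fun r y ↦ by
          obtain ⟨y, rfl⟩ := Ideal.Quotient.mk_surjective y
          show Ideal.Quotient.mk _ (MvPolynomial.map (algebraMap R K) (r • y)) =
            Ideal.Quotient.mk _ (r • MvPolynomial.map (algebraMap R K) y)
          congr 1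
          rw [Algebra.smul_def, map_mul, MvPolynomial.algebraMap_eq, MvPolynomial.map_C,
            ← algebraMap_smul K r, Algebra.smul_def, MvPolynomial.algebraMap_eq] }
    have hφ : IsBaseChange K φ := isBaseChange_polyQuotient I _ rfl φ fun _ ↦ rfl
    have h0 : φ (Ideal.Quotient.mk I x) = 0 := Ideal.Quotient.eq_zero_iff_mem.mpr hmem
    have h1 : (1 : K) ⊗ₜ[R] Ideal.Quotient.mk I x = 0 :=
      hφ.equiv.injective (by rw [hφ.equiv_tmul, one_smul, h0, map_zero])
    let bK := b.baseChange K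
    let e := AlgebraTensorModule.cancelBaseChange R L K K (MvPolynomial σ R ⧸ I)
    have h2 : (1 : K) ⊗ₜ[L] ((1 : L) ⊗ₜ[R] Ideal.Quotient.mk I x) = 0 :=
      e.injective (by rw [AlgebraTensorModule.cancelBaseChange_tmul, one_smul, h1, map_zero])
    have h3 := congr_arg (fun z ↦ bK.repr z i) h2
    simp only [bK, Module.Basis.baseChange_repr_tmul, map_zero, Finsupp.coe_zero, Pi.zero_apply] at h3
    rw [Algebra.smul_def, mul_one] at h3
    have := congr_arg (algebraMap L K) hc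
    rw [map_mul, h3, zero_mul, ← IsScalarTower.algebraMap_apply] at this
    exact hK.2 this.symm

open MvPolynomial in
/-- Generic freeness over a reduced ring. -/
theorem exists_free_reduced {σ R : Type u} [Finite σ] [CommRing R] [IsReduced R]
    (J : Ideal (MvPolynomial σ R)) {g : R} (hg : g ≠ 0) :
    ∃ (I : Ideal (MvPolynomial σ R)) (f : R), I ≤ J ∧ I.FG ∧ f ≠ 0 ∧ g ∣ f ∧
      Module.Free (Localization.Away f) (Localization.Away f ⊗[R] (MvPolynomial σ R ⧸ I)) ∧
      ∀ x ∈ J, (1 : Localization.Away f) ⊗ₜ[R] Ideal.Quotient.mk I x = 0 := by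
  classical
  let Stage := {s : Ideal (MvPolynomial σ R) × R // s.1 ≤ J ∧ s.1.FG ∧ s.2 ≠ 0 ∧ g ∣ s.2 ∧
    Module.Free (Localization.Away s.2) (Localization.Away s.2 ⊗[R] (MvPolynomial σ R ⧸ s.1))}
  suffices ∃ s : Stage, ∀ x ∈ J, (1 : Localization.Away s.1.2) ⊗ₜ[R] Ideal.Quotient.mk s.1.1 x = 0 by
    obtain ⟨⟨⟨I, f⟩, h1, h2, h3, h4, h5⟩, h⟩ := this
    exact ⟨I, f, h1, h2, h3, h4, h5, h⟩
  by_contra! hcon
  have hnext : ∀ s : Stage, ∃ s' : Stage, s.1.1 ≤ s'.1.1 ∧ s.1.2 ∣ s'.1.2 ∧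
      ∀ (K : Type u) [Field K] [Algebra R K], algebraMap R K s'.1.2 ≠ 0 →
        s.1.1.map (MvPolynomial.map (algebraMap R K)) ≠ s'.1.1.map (MvPolynomial.map (algebraMap R K)) := by
    rintro ⟨⟨I, f⟩, hIJ, hIfg, hf, hgf, hfree⟩
    obtain ⟨x, hxJ, hx⟩ := hcon ⟨⟨I, f⟩, hIJ, hIfg, hf, hgf, hfree⟩
    obtain ⟨c, hc, hcx⟩ := @exists_strict_step σ R _ I f hfree x hx
    obtain ⟨f', hf', hdvd, hfree'⟩ :=
      exists_free_fp_quotient (I ⊔ Ideal.span {x}) (Submodule.FG.sup hIfg (Submodule.fg_span_singleton x)) hc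
    refine ⟨⟨⟨I ⊔ Ideal.span {x}, f'⟩, sup_le hIJ ((Ideal.span_singleton_le_iff_mem _).mpr hxJ),
      Submodule.FG.sup hIfg (Submodule.fg_span_singleton x), hf', (hgf.trans (dvd_mul_right f c)).trans hdvd, hfree'⟩,
      le_sup_left, (dvd_mul_right f c).trans hdvd, fun K _ _ hK heq ↦ hcx K ?_ ?_⟩
    · intro h0
      obtain ⟨d, hd⟩ := hdvd
      refine hK ?_
      show algebraMap R K f' = 0
      rw [hd, map_mul, h0, zero_mul]
    · rw [heq]
      exact Ideal.mem_map_of_mem _ (Ideal.mem_sup_right (Ideal.mem_span_singleton_self x))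
  obtain ⟨f₀, hf₀, hgf₀, hfree₀⟩ := exists_free_fp_quotient (σ := σ) (⊥ : Ideal (MvPolynomial σ R))
    Submodule.fg_bot hg
  choose next hle hdvd hne using hnext
  let seq : ℕ → Stage := fun n ↦ n.rec ⟨(⊥, f₀), bot_le, Submodule.fg_bot, hf₀, hgf₀, hfree₀⟩
    (fun _ s ↦ next s)
  have hdvd' : ∀ m n, m ≤ n → (seq m).1.2 ∣ (seq n).1.2 := fun m n h ↦ by
    induction h with
    | refl => exact dvd_refl _
    | step h ih => exact ih.trans (hdvd _)
  let T : Submonoid R :=
    { carrier := {r | ∃ i k : ℕ, r ∣ (seq i).1.2 ^ k}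
      one_mem' := ⟨0, 0, by rw [pow_zero]⟩
      mul_mem' := by
        rintro a b ⟨i, k, ha⟩ ⟨j, l, hb⟩
        exact ⟨max i j, k + l, by
          rw [pow_add]
          exact mul_dvd_mul (ha.trans (pow_dvd_pow_of_dvd (hdvd' _ _ (le_max_left i j)) k))
            (hb.trans (pow_dvd_pow_of_dvd (hdvd' _ _ (le_max_right i j)) l))⟩ }
  obtain ⟨q, hq, -, hdis⟩ := Ideal.exists_le_prime_disjoint (⊥ : Ideal R) T
    (Set.disjoint_left.mpr fun x hx ↦ by
      rintro ⟨i, k, hk⟩
      rw [SetLike.mem_coe, Ideal.mem_bot] at hx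
      rw [hx, zero_dvd_iff] at hk
      exact (seq i).2.2.2.1 (IsReduced.eq_zero _ ⟨k, hk⟩))
  let K := q.ResidueField
  let IK : ℕ →o Ideal (MvPolynomial σ K) :=
    ⟨fun n ↦ (seq n).1.1.map (MvPolynomial.map (algebraMap R K)),
      monotone_nat_of_le_succ fun n ↦ Ideal.map_mono (hle _)⟩
  obtain ⟨n, hn⟩ := monotone_stabilizes_iff_noetherian.mpr (inferInstance : IsNoetherianRing (MvPolynomial σ K)) IK
  refine hne (seq n) K (fun h0 ↦ ?_) (hn (n + 1) (Nat.le_succ n))
  rw [← RingHom.mem_ker, Ideal.ker_algebraMap_residueField] at h0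
  exact Set.disjoint_left.mp hdis h0 ⟨n + 1, 1, by rw [pow_one]⟩

theorem free_fp_of_kill {σ R S : Type u} [Finite σ] [CommRing R] [CommRing S] [Algebra R S]
    (p : MvPolynomial σ R →ₐ[R] S) (hp : Function.Surjective p) (I : Ideal (MvPolynomial σ R))
    (hI : I ≤ RingHom.ker p.toRingHom) (hfg : I.FG) (L : Type u) [CommRing L] [Algebra R L]
    (hfree : Module.Free L (L ⊗[R] (MvPolynomial σ R ⧸ I)))
    (hkill : ∀ x, p x = 0 → (1 : L) ⊗ₜ[R] Ideal.Quotient.mk I x = 0) :
    Module.Free L (L ⊗[R] S) ∧ Algebra.FinitePresentation L (L ⊗[R] S) := by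
  let S' := MvPolynomial σ R ⧸ I
  let q : S' →ₐ[R] S := Ideal.Quotient.liftₐ I p fun a ha ↦ hI ha
  have hq : Function.Surjective q := fun s ↦ by
    obtain ⟨a, rfl⟩ := hp s
    exact ⟨Ideal.Quotient.mk I a, rfl⟩
  haveI : Algebra.FinitePresentation R S' := Algebra.FinitePresentation.quotient hfg
  let φ : L ⊗[R] S' →ₐ[L] L ⊗[R] S := Algebra.TensorProduct.map (AlgHom.id L L) q
  have hbij : Function.Bijective φ := by
    refine ⟨(injective_iff_map_eq_zero φ).mpr fun z hz ↦ ?_, LinearMap.lTensor_surjective L hq⟩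
    have hex' := lTensor_exact L (LinearMap.exact_subtype_ker_map q.toLinearMap) hq
    obtain ⟨w, rfl⟩ := (hex' z).mp hz
    clear hz
    induction w using TensorProduct.induction_on with
    | zero => exact map_zero _
    | add a b ha hb => rw [map_add, ha, hb, add_zero]
    | tmul l y =>
      obtain ⟨y, hy⟩ := y
      obtain ⟨w, rfl⟩ := Ideal.Quotient.mk_surjective y
      rw [LinearMap.lTensor_tmul, show l = l • (1 : L) by rw [smul_eq_mul, mul_one],
        ← TensorProduct.smul_tmul']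
      show l • ((1 : L) ⊗ₜ[R] Ideal.Quotient.mk I w) = 0
      rw [hkill w hy, smul_zero]
  exact ⟨Module.Free.of_equiv (LinearEquiv.ofBijective φ.toLinearMap hbij),
    @Algebra.FinitePresentation.equiv L (L ⊗[R] S') (L ⊗[R] S) _ _ _ _ _ inferInstance
      (@AlgEquiv.ofBijective L (L ⊗[R] S') (L ⊗[R] S) _ _ _ _ _ φ hbij)⟩

/-- Generic freeness and finite presentation of an algebra over a reduced ring. -/
theorem exists_free_fp_algebra {R S : Type u} [CommRing R] [IsReduced R] [CommRing S] [Algebra R S]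
    [Algebra.FiniteType R S] {g : R} (hg : g ≠ 0) :
    ∃ f : R, f ≠ 0 ∧ g ∣ f ∧ ∀ (L : Type u) [CommRing L] [Algebra R L], IsUnit (algebraMap R L f) →
      Module.Free L (L ⊗[R] S) ∧ Algebra.FinitePresentation L (L ⊗[R] S) := by
  obtain ⟨σ, hσ, p, hp⟩ := Algebra.FiniteType.iff_quotient_mvPolynomial'.mp
    (inferInstance : Algebra.FiniteType R S)
  haveI : Finite σ := Finite.of_fintype σ
  obtain ⟨I, f, hI, hfg, hf, hgf, hfree, hkill⟩ := exists_free_reduced (RingHom.ker p.toRingHom) hg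
  refine ⟨f, hf, hgf, fun L _ _ hu ↦ free_fp_of_kill p hp I hI hfg L (free_tensor_of_isUnit L hu hfree)
    fun x hx ↦ ?_⟩
  let Lf := Localization.Away f
  letI : Algebra Lf L := (IsLocalization.Away.lift f hu).toAlgebra
  haveI : IsScalarTower R Lf L := IsScalarTower.of_algebraMap_eq fun r ↦
    (IsLocalization.Away.lift_eq f hu r).symm
  have h := congr_arg (LinearMap.rTensor (MvPolynomial σ R ⧸ I)
    ((Algebra.linearMap Lf L).restrictScalars R)) (hkill x hx)
  rw [map_zero, LinearMap.rTensor_tmul] at h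
  simpa using h

end FlatLib
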