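import Groth.Agent.FlatLib.GenericFree
import Groth.Agent.FlatLib.OpenFP
import Mathlib

/-! Flattening by a nilpotent ideal over a dense open of an irreducible base. -/

set_option autoImplicit false
universe u

open TensorProduct

attribute [local instance] MvPolynomial.algebraMvPolynomial

namespace FlatLib

/-- Generators of a flat module which are independent modulo a nilpotent ideal are independent. -/
theorem linearIndependent_of_flat_of_mod_nilpotent {R M I : Type u} [CommRing R] [AddCommGroup M]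
    [Module R M] [Module.Flat R M] (N : Ideal R) (hN : IsNilpotent N) (v : I → M)
    (hs : Submodule.span R (Set.range v) = ⊤)
    (hb : ∀ c : I →₀ R, Finsupp.linearCombination R v c ∈ N • (⊤ : Submodule R M) → ∀ i, c i ∈ N) :
    LinearIndependent R v := by
  classical
  rw [linearIndependent_iff']
  intro s g hg i hi
  have hg' : ∑ j : s, g j • v j = 0 := by rw [Finset.sum_coe_sort s fun j => g j • v j]; exact hg
  obtain ⟨k, a, y, hy, ha⟩ := Module.Flat.isTrivialRelation_of_sum_smul_eq_zero hg'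
  have hsy : ∀ j, ∃ b : I →₀ R, Finsupp.linearCombination R v b = y j := fun j =>
    Finsupp.mem_span_range_iff_exists_finsupp.mp (hs ▸ Submodule.mem_top : y j ∈ _) |>.imp
      fun b hb => by rw [Finsupp.linearCombination_apply]; exact hb
  choose b hb' using hsy
  have hδ : ∀ (j : s) (l : I), (Finsupp.single (j : I) (1 : R) - ∑ t, a j t • b t) l ∈ N := fun j => by
    refine hb _ ?_
    rw [map_sub, Finsupp.linearCombination_single, one_smul, map_sum]
    simp only [map_smul, hb', ← hy, sub_self]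
    exact zero_mem _
  let C : Ideal R := Ideal.span (Set.range fun j : s => g j)
  have hC : C ≤ N * C := by
    rw [Ideal.span_le]
    rintro _ ⟨l, rfl⟩
    have e : g l = ∑ j : s, g j * (Finsupp.single (j : I) (1 : R) - ∑ t, a j t • b t) (l : I) := by
      simp only [Finsupp.sub_apply, Finsupp.finsetSum_apply, Finsupp.smul_apply, smul_eq_mul, mul_sub,
        Finset.sum_sub_distrib, Finset.mul_sum]
      rw [Finset.sum_comm (γ := s)]
      simp only [← mul_assoc, ← Finset.sum_mul, ha, zero_mul, Finset.sum_const_zero, sub_zero]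
      rw [Fintype.sum_eq_single l fun j hj => by
        rw [Finsupp.single_eq_of_ne fun e => hj (Subtype.ext e.symm), mul_zero]]
      rw [Finsupp.single_eq_same, mul_one]
    rw [SetLike.mem_coe]
    simp only
    rw [e]
    exact sum_mem fun j _ => by
      rw [mul_comm (g j)]
      exact Ideal.mul_mem_mul (hδ j l) (Ideal.subset_span ⟨j, rfl⟩)
  obtain ⟨n, hn⟩ := hN
  have hpow : ∀ m : ℕ, C ≤ N ^ m * C := fun m => by
    induction m with
    | zero => simp
    | succ m ih =>
      refine ih.trans ((mul_le_mul_right hC _).trans ?_)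
      rw [pow_succ, mul_assoc]
  have h0 := hpow n (Ideal.subset_span ⟨⟨i, hi⟩, rfl⟩)
  rw [hn, zero_mul] at h0
  exact h0

/-- Elements generating modulo a nilpotent ideal generate. -/
theorem span_eq_top_of_mod_nilpotent {R M : Type u} [CommRing R] [AddCommGroup M] [Module R M]
    (N : Ideal R) (hN : IsNilpotent N) (P : Submodule R M)
    (h : ⊤ ≤ P ⊔ N • (⊤ : Submodule R M)) : P = ⊤ := by
  obtain ⟨n, hn⟩ := hN
  have hpow : ∀ m : ℕ, (⊤ : Submodule R M) ≤ P ⊔ N ^ m • (⊤ : Submodule R M) := fun m => by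
    induction m with
    | zero => simp
    | succ m ih =>
      refine ih.trans (sup_le le_sup_left ((Submodule.smul_mono le_rfl h).trans ?_))
      rw [Submodule.smul_sup, ← Submodule.smul_assoc, smul_eq_mul, ← pow_succ]
      exact sup_le_sup_right Submodule.smul_le_right _
  exact top_le_iff.mp (le_trans (hpow n) (by rw [hn]; simp))

theorem one_tmul_quotient_eq_zero_iff {R M : Type u} [CommRing R] [AddCommGroup M] [Module R M]
    (N : Ideal R) (x : M) : (1 : R ⧸ N) ⊗ₜ[R] x = 0 ↔ x ∈ N • (⊤ : Submodule R M) := by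
  rw [← (TensorProduct.quotTensorEquivQuotSMul M N).map_eq_zero_iff,
    show (1 : R ⧸ N) = Ideal.Quotient.mk N 1 from rfl, TensorProduct.quotTensorEquivQuotSMul_mk_tmul,
    one_smul, Submodule.Quotient.mk_eq_zero]

section Noetherian

variable {A M : Type u} [CommRing A] [AddCommGroup M] [Module A M] {I : Type u}

/-- The vectors become a basis after every base change killing `N` and inverting `h`. -/
def BasisMod (N : Ideal A) (h : A) (v : I → M) : Prop :=
  ∀ (Q : Type u) [CommRing Q] [Algebra A Q], N.map (algebraMap A Q) = ⊥ → IsUnit (algebraMap A Q h) →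
    ∀ (MQ : Type u) [AddCommGroup MQ] [Module A MQ] [Module Q MQ] [IsScalarTower A Q MQ]
      (ι : M →ₗ[A] MQ), IsBaseChange Q ι → ∃ b : Module.Basis I Q MQ, ∀ i, b i = ι (v i)

variable {N : Ideal A} {h : A} {v : I → M} (hB : BasisMod N h v)
  (R : Type u) [CommRing R] [Algebra A R] (hR : IsUnit (algebraMap A R h))
include hB hR

theorem basisMod_quotient :
    ∃ b : Module.Basis I (R ⧸ N.map (algebraMap A R)) ((R ⧸ N.map (algebraMap A R)) ⊗[R] (R ⊗[A] M)),
      ∀ i, b i = 1 ⊗ₜ[R] ((1 : R) ⊗ₜ[A] v i) := by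
  refine hB _ ?_ ?_ _ (((TensorProduct.mk R (R ⧸ N.map (algebraMap A R)) (R ⊗[A] M) 1).restrictScalars A) ∘ₗ
    TensorProduct.mk A R M 1) ((TensorProduct.isBaseChange A M R).comp (TensorProduct.isBaseChange R (R ⊗[A] M) _))
  · rw [eq_bot_iff, Ideal.map_le_iff_le_comap]
    intro a ha
    rw [Ideal.mem_comap, IsScalarTower.algebraMap_apply A R, Ideal.mem_bot]
    exact Ideal.Quotient.eq_zero_iff_mem.mpr (Ideal.mem_map_of_mem _ ha)
  · rw [IsScalarTower.algebraMap_apply A R]
    exact hR.map _

theorem mem_of_linearCombination_mem {c : I →₀ R}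
    (hc : Finsupp.linearCombination R (fun i => (1 : R) ⊗ₜ[A] v i) c ∈
      N.map (algebraMap A R) • (⊤ : Submodule R (R ⊗[A] M))) (i : I) :
    c i ∈ N.map (algebraMap A R) := by
  obtain ⟨b, hb⟩ := basisMod_quotient hB R hR
  let Q := R ⧸ N.map (algebraMap A R)
  let c' : I →₀ Q := c.mapRange (Ideal.Quotient.mk _) (map_zero _)
  have e : Finsupp.linearCombination Q b c' =
      (1 : Q) ⊗ₜ[R] Finsupp.linearCombination R (fun i => (1 : R) ⊗ₜ[A] v i) c := by
    rw [Finsupp.linearCombination_apply, Finsupp.linearCombination_apply, Finsupp.sum_mapRange_index (by simp),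
      Finsupp.sum, Finsupp.sum, tmul_sum]
    refine Finset.sum_congr rfl fun j _ => ?_
    rw [hb, tmul_smul, ← algebraMap_smul Q (c j)]
    rfl
  rw [(one_tmul_quotient_eq_zero_iff _ _).mpr hc, ← map_zero (Finsupp.linearCombination Q b)] at e
  have := DFunLike.congr_fun (b.linearIndependent e) i
  exact Ideal.Quotient.eq_zero_iff_mem.mp this

theorem span_baseChange_eq_top (hN : IsNilpotent N) :
    Submodule.span R (Set.range fun i => (1 : R) ⊗ₜ[A] v i) = ⊤ := by
  obtain ⟨b, hb⟩ := basisMod_quotient hB R hR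
  let N' := N.map (algebraMap A R)
  let Q := R ⧸ N'
  refine span_eq_top_of_mod_nilpotent N' ?_ _ fun x _ => ?_
  · obtain ⟨n, hn⟩ := hN
    exact ⟨n, by rw [← Ideal.map_pow, hn]; exact Ideal.map_bot⟩
  let c' := b.repr ((1 : Q) ⊗ₜ[R] x)
  choose c hc using fun i => Ideal.Quotient.mk_surjective (c' i)
  let y := ∑ i ∈ c'.support, c i • ((1 : R) ⊗ₜ[A] v i)
  have e : (1 : Q) ⊗ₜ[R] (x - y) = 0 := by
    rw [tmul_sub, sub_eq_zero]
    conv_lhs => rw [← b.linearCombination_repr ((1 : Q) ⊗ₜ[R] x), Finsupp.linearCombination_apply, Finsupp.sum]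
    rw [tmul_sum]
    refine Finset.sum_congr rfl fun i _ => ?_
    rw [hb, tmul_smul, ← algebraMap_smul Q (c i)]
    exact congrArg (· • _) (hc i).symm
  rw [← add_sub_cancel y x]
  exact Submodule.add_mem_sup (Submodule.sum_mem _ fun i _ => Submodule.smul_mem _ _ (Submodule.subset_span ⟨i, rfl⟩))
    ((one_tmul_quotient_eq_zero_iff _ _).mp e)

/-- Flatness is the independence of the lifted basis. -/
theorem flat_iff_linearIndependent (hN : IsNilpotent N) :
    Module.Flat R (R ⊗[A] M) ↔ LinearIndependent R fun i => (1 : R) ⊗ₜ[A] v i := by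
  refine ⟨fun _ => ?_, fun hli => ?_⟩
  · refine linearIndependent_of_flat_of_mod_nilpotent (N.map (algebraMap A R)) ?_ _
      (span_baseChange_eq_top hB R hR hN) fun c => mem_of_linearCombination_mem hB R hR
    obtain ⟨n, hn⟩ := hN
    exact ⟨n, by rw [← Ideal.map_pow, hn]; exact Ideal.map_bot⟩
  · haveI : Module.Free R (R ⊗[A] M) :=
      Module.Free.of_basis (Module.Basis.mk hli (span_baseChange_eq_top hB R hR hN).ge)
    infer_instance

end Noetherian

/-- The flattening ideal: the coefficients of the relations between the lifted basis. -/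
theorem exists_flattening_of_basisMod {A M I : Type u} [CommRing A] [IsNoetherianRing A] [AddCommGroup M]
    [Module A M] {N : Ideal A} [N.IsPrime] (hN : IsNilpotent N) {h : A} (hh : h ∉ N) {v : I → M}
    (hB : BasisMod N h v) :
    ∃ J : Ideal A, J ≤ N ∧ ∀ (R : Type u) [CommRing R] [Algebra A R], IsUnit (algebraMap A R h) →
      (Module.Flat R (R ⊗[A] M) ↔ J.map (algebraMap A R) = ⊥) := by
  classical
  let L := Localization.Away h
  have hL : IsUnit (algebraMap A L h) := IsLocalization.Away.algebraMap_isUnit h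
  let vL : I → L ⊗[A] M := fun i => (1 : L) ⊗ₜ[A] v i
  let J0 : Ideal L := Ideal.span {x | ∃ c : I →₀ L, Finsupp.linearCombination L vL c = 0 ∧ ∃ i, c i = x}
  have hJ0 : J0 ≤ N.map (algebraMap A L) := Ideal.span_le.mpr fun _ ⟨c, hc, i, hi⟩ =>
    hi ▸ mem_of_linearCombination_mem hB L hL (hc ▸ zero_mem _) i
  refine ⟨J0.comap (algebraMap A L), fun a ha => ?_, fun R _ _ hR => ?_⟩
  · have hdisj : Disjoint (Submonoid.powers h : Set A) (N : Set A) := by
      refine Set.disjoint_left.mpr ?_
      rintro _ ⟨n, rfl⟩ hn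
      exact hh (‹N.IsPrime›.mem_of_pow_mem n hn)
    rw [← IsLocalization.under_map_of_isPrime_disjoint (Submonoid.powers h) L (I := N) ‹_› hdisj]
    exact hJ0 ha
  let θ : L →ₐ[A] R := IsLocalization.liftAlgHom (M := Submonoid.powers h) (f := Algebra.ofId A R)
    fun y => by
      obtain ⟨n, hn⟩ := y.2
      rw [← hn, map_pow]
      exact hR.pow n
  have hθ : (θ : L →+* R).comp (algebraMap A L) = algebraMap A R := θ.comp_algebraMap
  rw [show (J0.comap (algebraMap A L)).map (algebraMap A R) = J0.map (θ : L →+* R) by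
    rw [← hθ, ← Ideal.map_map, IsLocalization.map_under (Submonoid.powers h) L]]
  rw [flat_iff_linearIndependent hB R hR hN]
  constructor
  · intro hli
    rw [eq_bot_iff, Ideal.map_le_iff_le_comap, Ideal.span_le]
    rintro _ ⟨c, hc, i, rfl⟩
    rw [SetLike.mem_coe, Ideal.mem_comap, Ideal.mem_bot]
    have e : Finsupp.linearCombination R (fun i => (1 : R) ⊗ₜ[A] v i) (c.mapRange θ (map_zero θ)) =
        (θ.toLinearMap.rTensor M) (Finsupp.linearCombination L vL c) := by
      rw [Finsupp.linearCombination_apply, Finsupp.linearCombination_apply, Finsupp.sum_mapRange_index (by simp),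
        Finsupp.sum, Finsupp.sum, map_sum]
      refine Finset.sum_congr rfl fun j _ => ?_
      simp [vL, smul_tmul']
    rw [hc, map_zero, ← map_zero (Finsupp.linearCombination R fun i => (1 : R) ⊗ₜ[A] v i)] at e
    exact DFunLike.congr_fun (hli e) i
  · intro hJ
    have hs := span_baseChange_eq_top hB L hL hN
    choose rep hrep using fun m : M =>
      Finsupp.mem_span_range_iff_exists_finsupp.mp (hs ▸ Submodule.mem_top : (1 : L) ⊗ₜ[A] m ∈ _)
    have hrep' : ∀ m, Finsupp.linearCombination L vL (rep m) = (1 : L) ⊗ₜ[A] m := fun m => by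
      rw [Finsupp.linearCombination_apply]; exact hrep m
    let red : (I →₀ L) →ₗ[A] (I →₀ R) := Finsupp.mapRange.linearMap θ.toLinearMap
    have hred : ∀ c, Finsupp.linearCombination L vL c = 0 → red c = 0 := fun c hc => Finsupp.ext fun i => by
      show θ (c i) = 0
      have : θ (c i) ∈ J0.map (θ : L →+* R) := Ideal.mem_map_of_mem _ (Ideal.subset_span ⟨c, hc, i, rfl⟩)
      rwa [hJ] at this
    let g0 : M →ₗ[A] (I →₀ R) :=
      { toFun := fun m => red (rep m)
        map_add' := fun m m' => by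
          rw [← map_add, ← sub_eq_zero, ← map_sub]
          refine hred _ ?_
          rw [map_sub, map_add, hrep', hrep', hrep', tmul_add, sub_self]
        map_smul' := fun a m => by
          rw [RingHom.id_apply, ← map_smul red, ← sub_eq_zero, ← map_sub]
          refine hred _ ?_
          rw [map_sub, LinearMap.map_smul_of_tower, hrep', hrep', tmul_smul, sub_self] }
    let g := g0.liftBaseChange R
    refine LinearIndependent.of_comp g ?_
    have hg : g ∘ (fun i => (1 : R) ⊗ₜ[A] v i) = fun i => Finsupp.single i (1 : R) := funext fun i => by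
      show g ((1 : R) ⊗ₜ[A] v i) = _
      rw [LinearMap.liftBaseChange_tmul, one_smul]
      show red (rep (v i)) = _
      rw [show Finsupp.single i (1 : R) = red (Finsupp.single i 1) by simp [red], ← sub_eq_zero, ← map_sub]
      refine hred _ ?_
      rw [map_sub, hrep', Finsupp.linearCombination_single, one_smul, sub_self]
    rw [hg]
    exact Finsupp.basisSingleOne.linearIndependent

/-- Generic freeness gives vectors which are a basis modulo a prime. -/
theorem exists_basisMod {σ A M : Type u} [Finite σ] [CommRing A] [AddCommGroup M] [Module A M]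
    [Module (MvPolynomial σ A) M] [IsScalarTower A (MvPolynomial σ A) M]
    [Module.Finite (MvPolynomial σ A) M] (N : Ideal A) [N.IsPrime] :
    ∃ h ∉ N, ∃ (I : Type u) (v : I → M), BasisMod N h v := by
  classical
  let R := A ⧸ N
  haveI : Module.Finite (MvPolynomial σ R) (BC σ A M R) := Module.Finite.base_change _ _ _
  obtain ⟨f, hf, hfree⟩ := gfree_of_finite (R := R) (MvPolynomial σ R) (BC σ A M R)
  obtain ⟨h, rfl⟩ := Ideal.Quotient.mk_surjective f
  refine ⟨h, fun hN => hf (Ideal.Quotient.eq_zero_iff_mem.mpr hN), ?_⟩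
  let Rf := Localization.Away (Ideal.Quotient.mk N h)
  let Mf := Rf ⊗[R] BC σ A M R
  let b₀ := Module.Free.chooseBasis Rf Mf
  let ι₀ : M →ₗ[A] Mf := (TensorProduct.mk R Rf (BC σ A M R) 1).restrictScalars A ∘ₗ inc σ A M R
  have hι₀ : IsBaseChange Rf ι₀ := (isBaseChange_inc σ A M R).comp (TensorProduct.isBaseChange R _ Rf)
  have hsc : ∀ z : Mf, ∃ (m : M) (u : Rf), IsUnit u ∧ u • z = ι₀ m := fun z => by
    obtain ⟨⟨y, s⟩, hy⟩ := IsLocalizedModule.surj (Submonoid.powers (Ideal.Quotient.mk N h))
      (TensorProduct.mk R Rf (BC σ A M R) 1) z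
    obtain ⟨m, rfl⟩ : y ∈ LinearMap.range (inc σ A M R) := by
      refine (isBaseChange_inc σ A M R).inductionOn y _ (zero_mem _) (fun m => ⟨m, rfl⟩)
        (fun r n hn => ?_) fun _ _ => add_mem
      obtain ⟨a, rfl⟩ := Ideal.Quotient.mk_surjective r
      rw [show Ideal.Quotient.mk N a • n = a • n from algebraMap_smul R a n]
      exact Submodule.smul_mem _ a hn
    refine ⟨m, algebraMap R Rf s, IsLocalization.map_units Rf s, ?_⟩
    rw [algebraMap_smul]
    exact hy
  choose mi ui hu hmi using fun i => hsc (b₀ i)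
  refine ⟨_, mi, ?_⟩
  intro Q _ _ hQN hQh MQ _ _ _ _ ι hι
  let φ : R →+* Q := Ideal.Quotient.lift N (algebraMap A Q) fun a ha => by
    have := Ideal.mem_map_of_mem (algebraMap A Q) ha
    rwa [hQN] at this
  have hφh : IsUnit (φ (Ideal.Quotient.mk N h)) := hQh
  letI : Algebra Rf Q := (IsLocalization.Away.lift (Ideal.Quotient.mk N h) hφh).toAlgebra
  haveI : IsScalarTower A Rf Q := IsScalarTower.of_algebraMap_eq fun a => by
    rw [IsScalarTower.algebraMap_apply A R Rf]
    show φ (Ideal.Quotient.mk N a) = _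
    exact (IsLocalization.Away.lift_eq (S := Rf) (Ideal.Quotient.mk N h) hφh (Ideal.Quotient.mk N a)).symm
  let b₁ := b₀.isUnitSMul hu
  have hcomp : IsBaseChange Q ((TensorProduct.mk Rf Q Mf 1).restrictScalars A ∘ₗ ι₀) :=
    hι₀.comp (TensorProduct.isBaseChange Rf Mf Q)
  let e : Q ⊗[Rf] Mf ≃ₗ[Q] MQ := hcomp.equiv.symm.trans hι.equiv
  refine ⟨(b₁.baseChange Q).map e, fun i => ?_⟩
  rw [Module.Basis.map_apply, Module.Basis.baseChange_apply, Module.Basis.isUnitSMul_apply, hmi]
  show hι.equiv (hcomp.equiv.symm _) = _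
  rw [show (1 : Q) ⊗ₜ[Rf] ι₀ (mi i) = ((TensorProduct.mk Rf Q Mf 1).restrictScalars A ∘ₗ ι₀) (mi i) from rfl,
    hcomp.equiv_symm_apply, hι.equiv_tmul, one_smul]

/-- The flattening, for a module descended to a Noetherian subring. -/
theorem nilpotent_flattening_of_isBaseChange {σ A₀ A M₀ M : Type u} [Finite σ] [CommRing A₀]
    [IsNoetherianRing A₀] [CommRing A] [Algebra A₀ A] (hinj : Function.Injective (algebraMap A₀ A))
    (hA : (nilradical A).IsPrime) [AddCommGroup M₀] [Module A₀ M₀] [Module (MvPolynomial σ A₀) M₀]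
    [IsScalarTower A₀ (MvPolynomial σ A₀) M₀] [Module.Finite (MvPolynomial σ A₀) M₀] [AddCommGroup M]
    [Module A₀ M] [Module A M] [IsScalarTower A₀ A M] (ι : M₀ →ₗ[A₀] M) (hι : IsBaseChange A ι) :
    ∃ h : A, h ∉ nilradical A ∧ ∃ J : Ideal A, J.FG ∧ J ≤ nilradical A ∧
      ∀ (A' : Type u) [CommRing A'] [Algebra A A'], IsUnit (algebraMap A A' h) →
        (Module.Flat A' (A' ⊗[A] M) ↔ J.map (algebraMap A A') = ⊥) := by
  let N := (nilradical A).comap (algebraMap A₀ A)
  have : N.IsPrime := Ideal.IsPrime.comap _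
  have hN : IsNilpotent N := by
    obtain ⟨n, hn⟩ := IsNoetherianRing.isNilpotent_nilradical A₀
    refine ⟨n, eq_bot_iff.mpr (le_trans (Ideal.pow_right_mono (fun a ha => ?_) n) hn.le)⟩
    exact mem_nilradical.mpr ((IsNilpotent.map_iff (f := algebraMap A₀ A) hinj).mp (mem_nilradical.mp ha))
  obtain ⟨h, hh, I, v, hB⟩ := exists_basisMod (σ := σ) (M := M₀) N
  obtain ⟨J, hJN, hJ⟩ := exists_flattening_of_basisMod hN hh hB
  refine ⟨algebraMap A₀ A h, hh, J.map (algebraMap A₀ A), Ideal.FG.map (IsNoetherian.noetherian J) _,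
    Ideal.map_le_iff_le_comap.mpr hJN, fun A' _ _ hu => ?_⟩
  letI : Algebra A₀ A' := ((algebraMap A A').comp (algebraMap A₀ A)).toAlgebra
  haveI : IsScalarTower A₀ A A' := IsScalarTower.of_algebraMap_eq fun _ => rfl
  rw [Ideal.map_map]
  refine Iff.trans ?_ (hJ A' hu)
  let eM : A' ⊗[A₀] M₀ ≃ₗ[A'] A' ⊗[A] M :=
    (AlgebraTensorModule.cancelBaseChange A₀ A A' A' M₀).symm.trans
      (AlgebraTensorModule.congr (LinearEquiv.refl A' A') hι.equiv)
  exact ⟨fun _ => Module.Flat.of_linearEquiv eM, fun _ => Module.Flat.of_linearEquiv eM.symm⟩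

theorem exists_isBaseChange_of_model {σ A₀ A M₀ M : Type u} [CommRing A₀] [CommRing A] [Algebra A₀ A]
    [AddCommGroup M₀] [Module A₀ M₀] [Module (MvPolynomial σ A₀) M₀]
    [IsScalarTower A₀ (MvPolynomial σ A₀) M₀] [AddCommGroup M] [Module (MvPolynomial σ A) M]
    [Module A M] [IsScalarTower A (MvPolynomial σ A) M] [Module A₀ M] [IsScalarTower A₀ A M]
    (e : BC σ A₀ M₀ A ≃ₗ[MvPolynomial σ A] M) : ∃ ι : M₀ →ₗ[A₀] M, IsBaseChange A ι := by
  let E : A ⊗[A₀] M₀ ≃ₗ[A] M := (isBaseChange_inc σ A₀ M₀ A).equiv.trans (e.restrictScalars A)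
  exact ⟨E.toLinearMap.restrictScalars A₀ ∘ₗ TensorProduct.mk A₀ A M₀ 1, IsBaseChange.of_equiv E fun _ => rfl⟩

/-- Flattening of a finitely presented module by a nilpotent ideal over a dense open of the base. -/
theorem exists_nilpotent_flattening {A : Type u} [CommRing A] [IrreducibleSpace (PrimeSpectrum A)]
    (B M : Type u) [CommRing B] [Algebra A B] [Algebra.FinitePresentation A B] [AddCommGroup M] [Module B M]
    [Module A M] [IsScalarTower A B M] [Module.FinitePresentation B M] :
    ∃ h : A, h ∉ nilradical A ∧ ∃ J : Ideal A, J.FG ∧ J ≤ nilradical A ∧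
      ∀ (A' : Type u) [CommRing A'] [Algebra A A'], IsUnit (algebraMap A A' h) →
        (Module.Flat A' (A' ⊗[A] M) ↔ J.map (algebraMap A A') = ⊥) := by
  obtain ⟨σ, hσ, π, hπ, hker⟩ := Algebra.FinitePresentation.iff_quotient_mvPolynomial'.{_, _, u}.mp
    (inferInstance : Algebra.FinitePresentation A B)
  let P := MvPolynomial σ A
  letI : Algebra P B := π.toRingHom.toAlgebra
  letI : Module P M := Module.compHom M π.toRingHom
  have : IsScalarTower P B M := IsScalarTower.of_algebraMap_smul fun _ _ ↦ rfl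
  have : IsScalarTower A P M := IsScalarTower.of_algebraMap_smul fun r m ↦ by
    show π (algebraMap A P r) • m = r • m
    rw [π.commutes, algebraMap_smul]
  have : Module.FinitePresentation P B :=
    Module.finitePresentation_of_surjective (Algebra.linearMap P B) hπ hker
  have : Module.FinitePresentation P M := Module.FinitePresentation.trans P M B
  obtain ⟨A₀, M₀, _, _, _, _, hA₀, _, ⟨e⟩, -⟩ := exists_model (σ := σ) (R := A) (M := M) ∅ (by simp)
  have : IsNoetherianRing A₀ := isNoetherianRing_of_fg hA₀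
  obtain ⟨ι, hι⟩ := exists_isBaseChange_of_model e
  exact nilpotent_flattening_of_isBaseChange (σ := σ) Subtype.val_injective
    (PrimeSpectrum.irreducibleSpace_iff_isPrime_nilradical.mp ‹_›) ι hι

end FlatLib
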