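import Groth.Agent.FlatLib.PrimaryScheme
import Groth.Agent.DvrFlatLib.Global
import Mathlib

/-! The criterion of flatness for primary residue extensions, over a Noetherian base. -/

set_option autoImplicit false
universe u

open CategoryTheory CategoryTheory.Limits AlgebraicGeometry TensorProduct IsLocalRing

attribute [local instance] Algebra.TensorProduct.rightAlgebra

namespace FlatLib

open DvrFlatLib

/-- Some point over `p` and the closed point is in the flat locus of the base change. -/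
def FlatPoint (A : Type u) {B : Type u} [CommRing A] [CommRing B] [Algebra A B] (M : Type u) [AddCommGroup M]
    [Module B M] [Module A M] [IsScalarTower A B M] (A' : Type u) [CommRing A'] [IsLocalRing A'] [Algebra A A']
    (p : Ideal B) : Prop :=
  ∃ Q : PrimeSpectrum (BCA A A' B), Q.asIdeal.comap (algebraMap B (BCA A A' B)) = p ∧
    Q.asIdeal.comap (algebraMap A' (BCA A A' B)) = maximalIdeal A' ∧
    Q ∈ flatLocus A' (BCA A A' B) (BCM A B M A')

/-- Every element is a fraction with denominator outside `p`. -/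
def IsFracAt {B B₁ : Type u} [CommRing B] [CommRing B₁] [Algebra B B₁] (p : Ideal B) : Prop :=
  ∀ z : B₁, ∃ b s : B, s ∉ p ∧ z * algebraMap B B₁ s = algebraMap B B₁ b

theorem IsFracAt.of_surjective {B B₁ : Type u} [CommRing B] [CommRing B₁] [Algebra B B₁] {p : Ideal B}
    [p.IsPrime] (h : Function.Surjective (algebraMap B B₁)) : IsFracAt (B₁ := B₁) p := fun z => by
  obtain ⟨b, rfl⟩ := h z
  exact ⟨b, 1, fun h1 => ‹p.IsPrime›.ne_top ((Ideal.eq_top_iff_one p).mpr h1), by rw [map_one, mul_one]⟩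

theorem IsFracAt.eq_of_comap {B B₁ : Type u} [CommRing B] [CommRing B₁] [Algebra B B₁] {p : Ideal B}
    (h : IsFracAt (B₁ := B₁) p) {q q' : Ideal B₁} [hq : q.IsPrime] [hq' : q'.IsPrime]
    (e : q.comap (algebraMap B B₁) = p) (e' : q'.comap (algebraMap B B₁) = p) : q = q' := by
  ext z
  obtain ⟨b, s, hs, hz⟩ := h z
  have key : ∀ (r : Ideal B₁), r.IsPrime → r.comap (algebraMap B B₁) = p → (z ∈ r ↔ b ∈ p) := fun r hr er => by
    rw [← er, Ideal.mem_comap, ← hz]
    exact ⟨fun hzr => r.mul_mem_right _ hzr, fun hzr => (hr.mem_or_mem hzr).resolve_right fun hsr => hs (er ▸ hsr)⟩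
  rw [key q hq e, key q' hq' e']

/-- The residue field does not change at a point of fractions. -/
theorem IsFracAt.residueFieldMap_surjective {B B₁ : Type u} [CommRing B] [CommRing B₁] [Algebra B B₁]
    {p : Ideal B} [p.IsPrime] (h : IsFracAt (B₁ := B₁) p) (q : Ideal B₁) [q.IsPrime]
    (e : p = q.comap (algebraMap B B₁)) :
    Function.Surjective (Ideal.ResidueField.map p q (algebraMap B B₁) e) := by
  let φ := Ideal.ResidueField.map p q (algebraMap B B₁) e
  have hφ : ∀ c : B, φ (algebraMap B p.ResidueField c) = algebraMap B₁ q.ResidueField (algebraMap B B₁ c) :=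
    fun c => Ideal.ResidueField.map_algebraMap p q (algebraMap B B₁) e c
  have key : ∀ z : B₁, algebraMap B₁ q.ResidueField z ∈ φ.range := fun z => by
    obtain ⟨b, s, hs, hz⟩ := h z
    refine ⟨algebraMap B p.ResidueField b / algebraMap B p.ResidueField s, ?_⟩
    have hsne : algebraMap B₁ q.ResidueField (algebraMap B B₁ s) ≠ 0 := fun h0 =>
      hs (e.ge (Ideal.mem_comap.mpr (Ideal.algebraMap_residueField_eq_zero.mp h0)))
    rw [map_div₀, hφ, hφ, div_eq_iff hsne, ← map_mul, hz]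
  intro w
  obtain ⟨a, b, hb, rfl⟩ := IsFractionRing.div_surjective (A := B₁ ⧸ q) (K := q.ResidueField) w
  obtain ⟨a, rfl⟩ := Ideal.Quotient.mk_surjective a
  obtain ⟨b, rfl⟩ := Ideal.Quotient.mk_surjective b
  obtain ⟨a', ha⟩ := key a
  obtain ⟨b', hb'⟩ := key b
  exact ⟨a' / b', by rw [map_div₀, ha, hb']; rfl⟩

theorem IsFracAt.trans {B B₁ B₂ : Type u} [CommRing B] [CommRing B₁] [CommRing B₂] [Algebra B B₁] [Algebra B B₂]
    [Algebra B₁ B₂] [IsScalarTower B B₁ B₂] {p : Ideal B} (h : IsFracAt (B₁ := B₁) p)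
    (h' : Function.Surjective (algebraMap B₁ B₂)) : IsFracAt (B₁ := B₂) p := fun z => by
  obtain ⟨z, rfl⟩ := h' z
  obtain ⟨b, s, hs, hz⟩ := h z
  exact ⟨b, s, hs, by rw [IsScalarTower.algebraMap_apply B B₁ B₂, IsScalarTower.algebraMap_apply B B₁ B₂ b,
    ← map_mul, hz]⟩

/-- A base change to a localization of the base consists of fractions. -/
theorem IsFracAt.localization {R Rq B : Type u} [CommRing R] [CommRing B] [Algebra R B] [CommRing Rq] [Algebra R Rq]
    (p : Ideal B) [p.IsPrime] [IsLocalization.AtPrime Rq (p.comap (algebraMap R B))] :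
    IsFracAt (B₁ := BCA R Rq B) p := fun z => by
  have := (Algebra.isLocalization_iff_isPushout (p.comap (algebraMap R B)).primeCompl Rq
    (R := R) (T := B) (B := BCA R Rq B)).mpr inferInstance
  obtain ⟨b, ⟨_, s, hs, rfl⟩, rfl⟩ :=
    IsLocalization.exists_mk'_eq (Algebra.algebraMapSubmonoid B (p.comap (algebraMap R B)).primeCompl) z
  exact ⟨b, algebraMap R B s, hs, IsLocalization.mk'_spec _ _ _⟩

/-- A point passes to quotients of the coefficient algebra. -/
theorem FlatPoint.map {A B M A' A'' : Type u} [CommRing A] [CommRing B] [Algebra A B] [AddCommGroup M] [Module B M]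
    [Module A M] [IsScalarTower A B M] [CommRing A'] [IsLocalRing A'] [Algebra A A'] [CommRing A'']
    [IsLocalRing A''] [Algebra A A''] [Algebra A' A''] [IsScalarTower A A' A''] {p : Ideal B}
    (h : FlatPoint A M A' p) (hsurj : Function.Surjective (algebraMap A' A'')) : FlatPoint A M A'' p := by
  obtain ⟨Q, hQp, hQm, hQ⟩ := h
  let π := IsScalarTower.toAlgHom A A' A''
  let ψ : BCA A A' B →ₐ[A] BCA A A'' B := DvrFlatLib.bcMap B π
  have hψB : ∀ b, ψ (algebraMap B (BCA A A' B) b) = algebraMap B (BCA A A'' B) b := DvrFlatLib.bcMap_right _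
  have hψA : ∀ a, ψ (algebraMap A' (BCA A A' B) a) = algebraMap A'' (BCA A A'' B) (algebraMap A' A'' a) :=
    DvrFlatLib.bcMap_left _
  have hψ : Function.Surjective ψ := TensorProduct.map_surjective hsurj Function.surjective_id
  have hker : RingHom.ker ψ ≤ Q.asIdeal := by
    show RingHom.ker (Algebra.TensorProduct.map π (AlgHom.id A B)) ≤ _
    rw [Algebra.TensorProduct.map_ker π (AlgHom.id A B) hsurj Function.surjective_id,
      show RingHom.ker (AlgHom.id A B) = ⊥ from (RingHom.injective_iff_ker_eq_bot _).mp Function.injective_id,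
      Ideal.map_bot, sup_bot_eq, Ideal.map_le_iff_le_comap]
    have hne : RingHom.ker π ≠ ⊤ := RingHom.ker_ne_top _
    exact (le_maximalIdeal hne).trans hQm.ge
  have hP : (Q.asIdeal.map ψ.toRingHom).IsPrime := Ideal.map_isPrime_of_surjective hψ hker
  have hcomap : (Q.asIdeal.map ψ.toRingHom).comap ψ.toRingHom = Q.asIdeal := by
    rw [Ideal.comap_map_of_surjective ψ.toRingHom hψ]
    exact sup_eq_left.mpr hker
  refine ⟨⟨_, hP⟩, ?_, ?_, ?_⟩
  · rw [← hQp]
    conv_rhs => rw [← hcomap]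
    ext b
    simp only [Ideal.mem_comap]
    show _ ↔ ψ (algebraMap B _ b) ∈ _
    rw [hψB]
  · refine IsLocalRing.eq_maximalIdeal ?_
    have hmax := hQm.symm ▸ maximalIdeal.isMaximal A'
    have hc : ((Q.asIdeal.map ψ.toRingHom).comap (algebraMap A'' (BCA A A'' B))).comap (algebraMap A' A'') =
        Q.asIdeal.comap (algebraMap A' (BCA A A' B)) := by
      conv_rhs => rw [← hcomap]
      ext a
      simp only [Ideal.mem_comap]
      show _ ↔ ψ (algebraMap A' _ a) ∈ _
      rw [hψA]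
    rw [← Ideal.map_comap_of_surjective (algebraMap A' A'') hsurj
      ((Q.asIdeal.map ψ.toRingHom).comap (algebraMap A'' (BCA A A'' B))), hc]
    refine (Ideal.map_eq_top_or_isMaximal_of_surjective _ hsurj hmax).resolve_left fun htop => ?_
    rw [← hc, Ideal.map_comap_of_surjective _ hsurj] at htop
    exact (hP.comap _).ne_top htop
  · refine mem_flatLocus_of_map (bcι A B M A') (isBaseChange_bcι A B M A')
      (isBaseChange_restrict (A := A) (A' := A') _ (isBaseChange_bcι A B M A')) (bcι A B M A'')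
      (isBaseChange_restrict (A := A) (A' := A'') _ (isBaseChange_bcι A B M A'')) ψ.toRingHom hψA hψB _ ?_
    rwa [show PrimeSpectrum.comap ψ.toRingHom ⟨_, hP⟩ = Q from PrimeSpectrum.ext hcomap]

section Trans

variable {A B M A₁ B₁ M₁ : Type u} [CommRing A] [CommRing B] [Algebra A B] [AddCommGroup M]
  [Module B M] [Module A M] [IsScalarTower A B M]
  [CommRing A₁] [CommRing B₁] [Algebra A A₁] [Algebra A B₁] [Algebra B B₁] [Algebra A₁ B₁]
  [IsScalarTower A A₁ B₁] [IsScalarTower A B B₁] [Algebra.IsPushout A A₁ B B₁]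
  [AddCommGroup M₁] [Module B₁ M₁] [Module B M₁] [IsScalarTower B B₁ M₁] [Module A₁ M₁]
  [IsScalarTower A₁ B₁ M₁]

/-- A point passes along a base change of the base ring made of fractions. -/
theorem FlatPoint.trans {A' : Type u} [CommRing A'] [IsLocalRing A'] [Algebra A A'] [Algebra A₁ A']
    [IsScalarTower A A₁ A'] {p : Ideal B} (h : FlatPoint A M A' p) (hfrac : IsFracAt (B₁ := B₁) p)
    (ι : M →ₗ[B] M₁) (hι : IsBaseChange B₁ ι) (p₁ : Ideal B₁) [p₁.IsPrime]
    (hp₁ : p₁.comap (algebraMap B B₁) = p) : FlatPoint A₁ M₁ A' p₁ := by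
  obtain ⟨Q, hQp, hQm, hQ⟩ := h
  let B' := BCA A₁ A' B₁
  let M' := BCM A₁ B₁ M₁ A'
  letI : Algebra B B' := ((algebraMap B₁ B').comp (algebraMap B B₁)).toAlgebra
  have : IsScalarTower B B₁ B' := IsScalarTower.of_algebraMap_eq fun _ ↦ rfl
  have hA₁ : ∀ a : A₁, algebraMap A₁ B' a = algebraMap B₁ B' (algebraMap A₁ B₁ a) :=
    fun a ↦ IsScalarTower.algebraMap_apply A₁ B₁ B' a
  have : IsScalarTower A A₁ B' := IsScalarTower.of_algebraMap_eq fun a ↦ by
    show algebraMap A B' a = algebraMap A' B' (algebraMap A₁ A' (algebraMap A A₁ a))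
    rw [← IsScalarTower.algebraMap_apply A A₁ A', ← IsScalarTower.algebraMap_apply A A' B']
  have : IsScalarTower A B₁ B' := IsScalarTower.of_algebraMap_eq fun a ↦ by
    rw [IsScalarTower.algebraMap_apply A A₁ B₁, ← hA₁, ← IsScalarTower.algebraMap_apply]
  have : IsScalarTower A B B' := IsScalarTower.of_algebraMap_eq fun a ↦ by
    show algebraMap A B' a = algebraMap B₁ B' (algebraMap B B₁ (algebraMap A B a))
    rw [← IsScalarTower.algebraMap_apply A B B₁, ← IsScalarTower.algebraMap_apply A B₁ B']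
  have : Algebra.IsPushout A A' B B' :=
    (Algebra.IsPushout.comp_iff A A₁ B B₁).mpr inferInstance
  have : IsScalarTower B B' M' := inferInstance
  have : IsScalarTower B B₁ M' := IsScalarTower.of_algebraMap_smul fun b m ↦ by
    rw [← algebraMap_smul B' (algebraMap B B₁ b) m, ← IsScalarTower.algebraMap_apply, algebraMap_smul]
  have : IsScalarTower A A' M' := inferInstance
  have : IsScalarTower A B M' := IsScalarTower.of_algebraMap_smul fun a m ↦ by
    rw [← algebraMap_smul B' (algebraMap A B a) m, ← IsScalarTower.algebraMap_apply,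
      IsScalarTower.algebraMap_apply A A' B', algebraMap_smul, algebraMap_smul]
  let ι' : M →ₗ[B] M' := (bcι A₁ B₁ M₁ A').restrictScalars B ∘ₗ ι
  have hι' : IsBaseChange B' ι' := IsBaseChange.comp hι (isBaseChange_bcι A₁ B₁ M₁ A')
  let e := (Algebra.IsPushout.equiv A A' B B').toRingEquiv
  have hA : ∀ a, e (algebraMap A' (BCA A A' B) a) = algebraMap A' B' a := fun a ↦
    (Algebra.IsPushout.equiv A A' B B').commutes a
  have hB : ∀ b, e (algebraMap B (BCA A A' B) b) = algebraMap B B' b := fun b ↦ by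
    show Algebra.IsPushout.equiv A A' B B' ((1 : A') ⊗ₜ b) = _
    rw [Algebra.IsPushout.equiv_tmul, map_one, one_mul]
  let Q' : PrimeSpectrum B' := PrimeSpectrum.comap e.symm.toRingHom Q
  have hQ' : PrimeSpectrum.comap e.toRingHom Q' = Q := PrimeSpectrum.ext (Ideal.ext fun z => by
    show e.symm (e z) ∈ Q.asIdeal ↔ _
    rw [RingEquiv.symm_apply_apply])
  have hQ'p : Q'.asIdeal.comap (algebraMap B B') = p := by
    rw [← hQp]
    ext b
    show e.symm (algebraMap B B' b) ∈ Q.asIdeal ↔ _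
    rw [← hB, RingEquiv.symm_apply_apply]; rfl
  refine ⟨Q', ?_, ?_, ?_⟩
  · exact hfrac.eq_of_comap (by rw [Ideal.comap_comap, ← IsScalarTower.algebraMap_eq]; exact hQ'p) hp₁
  · rw [← hQm]
    ext a
    show e.symm (algebraMap A' B' a) ∈ Q.asIdeal ↔ _
    rw [← hA, RingEquiv.symm_apply_apply]; rfl
  · refine mem_flatLocus_of_map (bcι A B M A') (isBaseChange_bcι A B M A')
      (isBaseChange_restrict (A := A) (A' := A') _ (isBaseChange_bcι A B M A')) ι'
      (isBaseChange_restrict (A := A) (A' := A') ι' hι') e.toRingHom hA hB Q' ?_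
    rwa [hQ']

end Trans

/-- A Noetherian local ring with nilpotent maximal ideal is Artinian. -/
theorem isArtinianRing_of_isNilpotent {A : Type u} [CommRing A] [IsLocalRing A] [IsNoetherianRing A]
    (h : IsNilpotent (maximalIdeal A)) : IsArtinianRing A := by
  obtain ⟨n, hn⟩ := h
  refine isArtinianRing_iff_krullDimLE_zero.mpr (Ring.krullDimLE_zero_iff.mpr fun P hP => ?_)
  have hle : maximalIdeal A ≤ P := fun a ha => hP.mem_of_pow_mem n (by
    have h2 := Ideal.pow_mem_pow ha n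
    rw [hn] at h2
    rw [show a ^ n = 0 from h2]
    exact P.zero_mem)
  rw [← (maximalIdeal.isMaximal A).eq_of_le hP.ne_top hle]
  exact maximalIdeal.isMaximal A

set_option maxHeartbeats 1000000 in
/-- Flatness over a Noetherian local base from one point over each member of an adic family. -/
theorem mem_flatLocus_of_primary_family_adic {R Rq B M : Type u} [CommRing R] [CommRing B] [Algebra R B]
    [CommRing Rq] [Algebra R Rq] [IsLocalRing Rq] [IsNoetherianRing Rq] [AddCommGroup M] [Module B M] [Module R M]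
    [IsScalarTower R B M] [Algebra.FiniteType R B] [Module.Finite B M] (p : PrimeSpectrum B)
    [IsLocalization.AtPrime Rq (p.asIdeal.comap (algebraMap R B))]
    (hsep : ∀ φ : Rq →+* p.asIdeal.ResidueField,
      φ.comp (algebraMap R Rq) = algebraMap R p.asIdeal.ResidueField → SepClosedIn φ)
    {ι : Type u} (A' : ι → Type u) [∀ i, CommRing (A' i)] [∀ i, IsLocalRing (A' i)]
    [∀ i, Algebra R (A' i)] [∀ i, Algebra Rq (A' i)] [∀ i, IsScalarTower R Rq (A' i)]
    [∀ i, IsLocalHom (algebraMap Rq (A' i))]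
    (htop : ∀ N : ℕ, ∃ s : Finset (ι × ℕ),
      ⨅ q ∈ s, Ideal.comap (algebraMap Rq (A' q.1)) (maximalIdeal (A' q.1) ^ q.2) ≤ maximalIdeal Rq ^ N)
    (h : ∀ i, FlatPoint R M (A' i) p.asIdeal) : p ∈ flatLocus R B M := by
  classical
  obtain ⟨p₁, hp₁, hp₁m⟩ := exists_point_localization (R := R) (Rq := Rq) p
  refine mem_flatLocus_of_localized p (p.asIdeal.comap (algebraMap R B)).primeCompl p₁ hp₁ ?_
  let B₁ := BCA R Rq B
  let M₁ := BCM R B M Rq
  haveI : IsNoetherianRing B₁ := Algebra.FiniteType.isNoetherianRing Rq _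
  have hp₁' : p₁.asIdeal.comap (algebraMap B B₁) = p.asIdeal := congrArg PrimeSpectrum.asIdeal hp₁
  have h₁ : ∀ i, FlatPoint Rq M₁ (A' i) p₁.asIdeal := fun i =>
    (h i).trans (IsFracAt.localization p.asIdeal) (bcι R B M Rq) (isBaseChange_bcι R B M Rq) _ hp₁'
  refine mem_flatLocus_of_flat_quotient_pow hp₁m fun N hN => ?_
  obtain ⟨s, hs⟩ := htop N
  let J : Ideal Rq := ⨅ q ∈ s, Ideal.comap (algebraMap Rq (A' q.1)) (maximalIdeal (A' q.1) ^ q.2)
  refine ⟨J, hs, ?_⟩
  have hJm : J ≤ maximalIdeal Rq := hs.trans (Ideal.pow_le_self (by omega))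
  haveI : Nontrivial (Rq ⧸ J) := Ideal.Quotient.nontrivial_iff.mpr fun e ↦
    (maximalIdeal.isMaximal Rq).ne_top (top_le_iff.mp (e.ge.trans hJm))
  haveI : IsLocalRing (Rq ⧸ J) := IsLocalRing.of_surjective' _ Ideal.Quotient.mk_surjective
  have hmax : maximalIdeal (Rq ⧸ J) = (maximalIdeal Rq).map (Ideal.Quotient.mk J) :=
    (IsLocalRing.eq_maximalIdeal (Ideal.IsMaximal.map_of_surjective_of_ker_le Ideal.Quotient.mk_surjective
      (by rwa [Ideal.mk_ker]))).symm
  haveI : IsArtinianRing (Rq ⧸ J) := isArtinianRing_of_isNilpotent ⟨s.sup Prod.snd, by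
    rw [hmax, ← Ideal.map_pow, Submodule.zero_eq_bot, Ideal.map_eq_bot_iff_le_ker, Ideal.mk_ker]
    refine le_iInf₂ fun q hq ↦ (Ideal.pow_le_pow_right (Finset.le_sup hq)).trans ?_
    rw [← Ideal.map_le_iff_le_comap, Ideal.map_pow]
    exact Ideal.pow_right_mono (((IsLocalRing.local_hom_TFAE (algebraMap Rq (A' q.1))).out 0 2 rfl rfl).mp
      inferInstance) _⟩
  obtain ⟨p₂, hp₂⟩ := exists_point_quotient (J := J) (p := p₁) (hp₁m.symm ▸ hJm)
  let B₂ := BCA Rq (Rq ⧸ J) B₁
  let M₂ := BCM Rq B₁ M₁ (Rq ⧸ J)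
  haveI : IsNoetherianRing B₂ := isNoetherianRing_quotient J
  have hsurj := surjective_algebraMap_quotient (B := B₁) J
  refine flat_tensor_of_mem_flatLocus (algebraMap B₁ B₂) hsurj
    ((bcι Rq B₁ M₁ (Rq ⧸ J)).restrictScalars Rq) (isBaseChange_restrict _ (isBaseChange_bcι Rq B₁ M₁ _))
    (fun b m ↦ by rw [LinearMap.restrictScalars_apply, map_smul, algebraMap_smul]; rfl)
    p₁ p₂ (PrimeSpectrum.ext hp₂) ?_
  -- the residue field
  let j : B →+* B₂ := (algebraMap B₁ B₂).comp (algebraMap B B₁)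
  have hsep₂ : SepClosedIn (algebraMap (Rq ⧸ J) p₂.asIdeal.ResidueField) := by
    letI : Algebra B B₂ := j.toAlgebra
    haveI : IsScalarTower B B₁ B₂ := IsScalarTower.of_algebraMap_eq fun _ => rfl
    have e : p.asIdeal = p₂.asIdeal.comap (algebraMap B B₂) := by
      rw [← hp₁', ← hp₂, Ideal.comap_comap]; rfl
    let φ := Ideal.ResidueField.map p.asIdeal p₂.asIdeal (algebraMap B B₂) e
    have hφ : Function.Bijective φ := ⟨φ.injective,
      ((IsFracAt.localization p.asIdeal).trans hsurj).residueFieldMap_surjective p₂.asIdeal e⟩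
    let ε := RingEquiv.ofBijective φ hφ
    refine SepClosedIn.of_comp_surjective (π := Ideal.Quotient.mk J) Ideal.Quotient.mk_surjective ?_
    let φ₂ := (algebraMap (Rq ⧸ J) p₂.asIdeal.ResidueField).comp (Ideal.Quotient.mk J)
    have hc : (ε.symm.toRingHom.comp φ₂).comp (algebraMap R Rq) = algebraMap R p.asIdeal.ResidueField := by
      refine RingHom.ext fun r => ε.injective ?_
      show ε (ε.symm _) = φ (algebraMap R p.asIdeal.ResidueField r)
      rw [RingEquiv.apply_symm_apply]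
      show algebraMap (Rq ⧸ J) p₂.asIdeal.ResidueField (algebraMap Rq (Rq ⧸ J) (algebraMap R Rq r)) = _
      rw [IsScalarTower.algebraMap_apply R B p.asIdeal.ResidueField, Ideal.ResidueField.map_algebraMap,
        IsScalarTower.algebraMap_apply (Rq ⧸ J) B₂ p₂.asIdeal.ResidueField]
      refine congrArg (algebraMap B₂ _) ?_
      show _ = algebraMap B₁ B₂ (algebraMap B B₁ (algebraMap R B r))
      rw [← IsScalarTower.algebraMap_apply Rq (Rq ⧸ J) B₂, IsScalarTower.algebraMap_apply Rq B₁ B₂,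
        ← IsScalarTower.algebraMap_apply R Rq B₁, ← IsScalarTower.algebraMap_apply R B B₁]
    have h2 := (hsep _ hc).comp_equiv ε
    rwa [← RingHom.comp_assoc, show ε.toRingHom.comp ε.symm.toRingHom = RingHom.id _ from
      RingHom.ext ε.apply_symm_apply, RingHom.id_comp] at h2
  -- the family
  let κ := {q : ι × ℕ // q ∈ s ∧ q.2 ≠ 0}
  let W : κ → Type u := fun q => A' q.1.1 ⧸ maximalIdeal (A' q.1.1) ^ q.1.2
  have hW : ∀ q : κ, J ≤ Ideal.comap (algebraMap Rq (A' q.1.1)) (maximalIdeal (A' q.1.1) ^ q.1.2) :=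
    fun q => iInf₂_le q.1 q.2.1
  letI : ∀ q, Algebra (Rq ⧸ J) (W q) := fun q => (Ideal.quotientMap _ (algebraMap Rq (A' q.1.1)) (hW q)).toAlgebra
  haveI : ∀ q, IsScalarTower Rq (Rq ⧸ J) (W q) := fun q => IsScalarTower.of_algebraMap_eq fun _ ↦ rfl
  haveI : ∀ q, Nontrivial (W q) := fun q => Ideal.Quotient.nontrivial_iff.mpr fun e ↦
    (maximalIdeal.isMaximal _).ne_top (top_le_iff.mp (e.ge.trans (Ideal.pow_le_self q.2.2)))
  haveI : ∀ q, IsLocalRing (W q) := fun q => IsLocalRing.of_surjective' _ Ideal.Quotient.mk_surjective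
  refine mem_flatLocus_of_primary_family p₂ hsep₂ W (fun a ha => ?_) fun q => ?_
  · obtain ⟨a, rfl⟩ := Ideal.Quotient.mk_surjective a
    rw [Ideal.Quotient.eq_zero_iff_mem]
    refine Ideal.mem_iInf.mpr fun q ↦ Ideal.mem_iInf.mpr fun hq ↦ ?_
    by_cases hk : q.2 = 0
    · simp [hk]
    have h0 : Ideal.Quotient.mk (maximalIdeal (A' q.1) ^ q.2) (algebraMap Rq (A' q.1) a) = 0 := ha ⟨q, hq, hk⟩
    exact Ideal.mem_comap.mpr (Ideal.Quotient.eq_zero_iff_mem.mp h0)
  · haveI : p₂.asIdeal.IsPrime := p₂.isPrime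
    exact (FlatPoint.map (A'' := W q) (h₁ q.1.1) Ideal.Quotient.mk_surjective).trans
      (IsFracAt.of_surjective hsurj) (bcι Rq B₁ M₁ (Rq ⧸ J)) (isBaseChange_bcι Rq B₁ M₁ _) p₂.asIdeal hp₂

section Spec

variable {X Y : Scheme.{u}} (f : X ⟶ Y) {U : Y.Opens} (hU : IsAffineOpen U) {V : X.Opens}
  (hV : IsAffineOpen V) (hVU : V ≤ f ⁻¹ᵁ U) {x : X} (hx : x ∈ V)
  (W : Type u) [CommRing W] [IsLocalRing W]

include hV hx in
/-- A point of flatness on the fibre product gives one on the chart. -/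
theorem flatPoint_module (M : X.Modules) [Coh.IsQCoh M] [Algebra Γ(Y, U) W]
    (h : ∃ x' : ↥(pullback f (chartMap hU W (algebraMap Γ(Y, U) W))),
      pullback.fst f (chartMap hU W (algebraMap Γ(Y, U) W)) x' = x ∧
      pullback.snd f (chartMap hU W (algebraMap Γ(Y, U) W)) x' = closedPoint W ∧
      FlatMod.IsFlatOverAt (pullback.snd f (chartMap hU W (algebraMap Γ(Y, U) W)))
        ((Scheme.Modules.pullback (pullback.fst f (chartMap hU W (algebraMap Γ(Y, U) W)))).obj M) x') :
    letI := (f.appLE U V hVU).hom.toAlgebra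
    letI : Module Γ(Y, U) Γ(M, V) := Module.compHom Γ(M, V) (f.appLE U V hVU).hom
    haveI : IsScalarTower Γ(Y, U) Γ(X, V) Γ(M, V) := IsScalarTower.of_algebraMap_smul fun _ _ => rfl
    FlatPoint Γ(Y, U) Γ(M, V) W (hV.primeIdealOf ⟨x, hx⟩).asIdeal := by
  letI := (f.appLE U V hVU).hom.toAlgebra
  letI : Module Γ(Y, U) Γ(M, V) := Module.compHom Γ(M, V) (f.appLE U V hVU).hom
  haveI : IsScalarTower Γ(Y, U) Γ(X, V) Γ(M, V) := IsScalarTower.of_algebraMap_smul fun _ _ => rfl
  let T := Spec (CommRingCat.of W)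
  let g : T ⟶ Y := chartMap hU W (algebraMap Γ(Y, U) W)
  have hg : (⊤ : T.Opens) ≤ g ⁻¹ᵁ U := chartMap_preimage hU W _
  let εT : Γ(T, ⊤) ≃+* W := (Scheme.ΓSpecIso (CommRingCat.of W)).commRingCatIsoToRingEquiv
  haveI : IsLocalRing Γ(T, ⊤) := εT.symm.isLocalRing
  let P := pullback f g
  let fst : P ⟶ X := pullback.fst f g
  let snd : P ⟶ T := pullback.snd f g
  let V' : P.Opens := fst ⁻¹ᵁ V
  have hV' : IsAffineOpen V' := isAffineOpen_preimage_fst f g hU (top_le_iff.mp hg) hV hVU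
  let M' := KFlatLib.pb fst M
  haveI : Coh.IsQCoh M' := KFlatLib.isQCoh_pullback fst M
  letI := (g.appLE U ⊤ hg).hom.toAlgebra
  letI : Algebra Γ(T, ⊤) Γ(P, V') := (snd.appLE ⊤ V' le_top).hom.toAlgebra
  letI : Algebra Γ(X, V) Γ(P, V') := (fst.appLE V V' le_rfl).hom.toAlgebra
  letI : Algebra Γ(Y, U) Γ(P, V') :=
    ((fst.appLE V V' le_rfl).hom.comp (f.appLE U V hVU).hom).toAlgebra
  obtain ⟨h1, h2, h3⟩ := isPushout_chart f g hU hg hV hVU
  haveI := h1
  haveI := h2
  haveI : Algebra.IsPushout Γ(Y, U) Γ(T, ⊤) Γ(X, V) Γ(P, V') := h3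
  letI : Module Γ(X, V) Γ(M', V') := Module.compHom Γ(M', V') (fst.appLE V V' le_rfl).hom
  haveI : IsScalarTower Γ(X, V) Γ(P, V') Γ(M', V') := IsScalarTower.of_algebraMap_smul fun _ _ => rfl
  letI : Module Γ(T, ⊤) Γ(M', V') := Module.compHom Γ(M', V') (snd.appLE ⊤ V' le_top).hom
  haveI : IsScalarTower Γ(T, ⊤) Γ(P, V') Γ(M', V') := IsScalarTower.of_algebraMap_smul fun _ _ => rfl
  letI : Module Γ(Y, U) Γ(M', V') := Module.compHom Γ(M', V') (algebraMap Γ(Y, U) Γ(P, V'))
  haveI : IsScalarTower Γ(Y, U) Γ(X, V) Γ(M', V') := IsScalarTower.of_algebraMap_smul fun _ _ => rfl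
  haveI : IsScalarTower Γ(Y, U) Γ(T, ⊤) Γ(M', V') := IsScalarTower.of_algebraMap_smul fun r m => by
    show algebraMap Γ(T, ⊤) Γ(P, V') (algebraMap Γ(Y, U) Γ(T, ⊤) r) • m = algebraMap Γ(Y, U) Γ(P, V') r • m
    rw [← IsScalarTower.algebraMap_apply]
  let ψ : Γ(M, V) →ₗ[Γ(X, V)] Γ(M', V') :=
    { toFun := KFlatLib.puSecLE fst M le_rfl
      map_add' := map_add _
      map_smul' := fun r m => by rw [KFlatLib.puSecLE_smul, RingHom.id_apply]; rfl }
  have hψ : IsBaseChange Γ(P, V') ψ :=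
    KFlatLib.isBaseChange_puSec fst M hV hV' le_rfl (fun _ => rfl) ψ fun _ => rfl
  obtain ⟨y, hy1, hy2, hy3⟩ := h
  subst hy1
  obtain ⟨Q₀, hp, hm, hQ⟩ := exists_point_of_model (A := Γ(Y, U)) (A' := Γ(T, ⊤)) ψ hψ (hV'.primeIdealOf ⟨y, hx⟩)
    ((isFlatOverAt_iff snd M' ⊤ (isAffineOpen_top T) V' hV' le_top hx rfl).mp hy3)
  have hT : FlatPoint Γ(Y, U) Γ(M, V) Γ(T, ⊤) (hV.primeIdealOf ⟨fst y, hx⟩).asIdeal := by
    refine ⟨Q₀, hp.trans ?_, hm.trans ?_, hQ⟩
    · exact congrArg PrimeSpectrum.asIdeal (IsAffineOpen.comap_primeIdealOf_appLE V hV V' hV' (f := fst) le_rfl hx)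
    · refine (congrArg PrimeSpectrum.asIdeal (IsAffineOpen.comap_primeIdealOf_appLE ⊤ (isAffineOpen_top T) V' hV'
        (f := snd) le_top hx)).trans ?_
      refine IsLocalRing.eq_maximalIdeal (primeIdealOf_isMaximal (isAffineOpen_top T) trivial ?_)
      rw [show snd y = closedPoint W from hy2]
      exact IsLocalRing.isClosed_singleton_closedPoint W
  letI : Algebra Γ(T, ⊤) W := εT.toRingHom.toAlgebra
  haveI : IsScalarTower Γ(Y, U) Γ(T, ⊤) W :=
    IsScalarTower.of_algebraMap_eq fun r => (chartMap_appLE hU W (algebraMap Γ(Y, U) W) r).symm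
  exact hT.map εT.surjective

include hU hV hx in
/-- The residue field condition at a chart, over the local ring of the base. -/
theorem sepClosedIn_of_stalk (hyU : f x ∈ U)
    (hprim : letI := (f.residueFieldMap x).hom.toAlgebra
      ∀ a : ↑(X.residueField x), IsSeparable ↑(Y.residueField (f x)) a →
        a ∈ (f.residueFieldMap x).hom.range) :
    letI := (f.appLE U V hVU).hom.toAlgebra
    ∀ φ : (Y.presheaf.stalk (f x) : Type u) →+* (hV.primeIdealOf ⟨x, hx⟩).asIdeal.ResidueField,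
      φ.comp (Y.presheaf.germ U (f x) hyU).hom = algebraMap Γ(Y, U) _ → SepClosedIn φ := by
  letI := (f.appLE U V hVU).hom.toAlgebra
  intro φ hφ
  let p := (hV.primeIdealOf ⟨x, hx⟩).asIdeal
  letI : Algebra Γ(X, V) (X.presheaf.stalk x) := (X.presheaf.germ V x hx).hom.toAlgebra
  haveI : IsLocalization.AtPrime (X.presheaf.stalk x) p := hV.isLocalization_stalk ⟨x, hx⟩
  letI := (f.residueFieldMap x).hom.toAlgebra
  have h0 : SepClosedIn (f.residueFieldMap x).hom := sepClosedIn_of_forall hprim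
  let q := (hU.primeIdealOf ⟨f x, hyU⟩).asIdeal
  letI : Algebra Γ(Y, U) (Y.presheaf.stalk (f x)) := (Y.presheaf.germ U (f x) hyU).hom.toAlgebra
  haveI : IsLocalization.AtPrime (Y.presheaf.stalk (f x)) q := hU.isLocalization_stalk ⟨f x, hyU⟩
  let e0 : Localization.AtPrime p ≃ₐ[Γ(X, V)] X.presheaf.stalk x :=
    IsLocalization.algEquiv p.primeCompl _ _
  let e : p.ResidueField ≃+* X.residueField x := IsLocalRing.ResidueField.mapEquiv e0.toRingEquiv
  have h1 := (h0.comp_surjective (π := (Y.residue (f x)).hom) residue_surjective).comp_equiv e.symm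
  convert h1 using 1
  refine IsLocalization.ringHom_ext q.primeCompl ?_
  show φ.comp (Y.presheaf.germ U (f x) hyU).hom = _
  rw [hφ]
  refine RingHom.ext fun a => e.injective ?_
  show e (residue _ (algebraMap Γ(Y, U) (Localization.AtPrime p) a)) =
    e (e.symm ((f.residueFieldMap x) (Y.residue (f x) (Y.presheaf.germ U (f x) hyU a))))
  rw [RingEquiv.apply_symm_apply]
  show residue (X.presheaf.stalk x) (e0 (algebraMap Γ(Y, U) (Localization.AtPrime p) a)) =
    (Y.residue (f x) ≫ f.residueFieldMap x) (Y.presheaf.germ U (f x) hyU a)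
  rw [Scheme.residue_residueFieldMap,
    IsScalarTower.algebraMap_apply Γ(Y, U) Γ(X, V) (Localization.AtPrime p), e0.commutes]
  show residue _ (X.presheaf.germ V x hx (f.appLE U V hVU a)) =
    residue _ (f.stalkMap x (Y.presheaf.germ U (f x) hyU a))
  rw [Scheme.Hom.germ_stalkMap_apply]
  exact congrArg (residue _) (TopCat.Presheaf.germ_res_apply X.presheaf _ _ _ _)

end Spec

end FlatLib
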