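import Groth.Agent.FlatLib.PrimaryTensor
import Groth.Agent.RichLib.FlatFamily
import Mathlib

/-! Flatness tested at one point of each base change, for a primary residue extension. -/

set_option autoImplicit false
universe u

open TensorProduct IsLocalRing

namespace FlatLib

/-- A regular element modulo `I` stays regular on the modules killed by a power of `I`. -/
theorem smul_injective_of_pow_smul_eq_bot {L R : Type u} [CommRing L] [CommRing R] [Algebra L R] [Module.Flat L R]
    (I : Ideal L) [I.IsMaximal] {z : R}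
    (hz : ∀ y : R ⊗[L] (L ⧸ I), z • y = 0 → y = 0) :
    ∀ (j : ℕ) (N : Type u) [AddCommGroup N] [Module L N], I ^ j • (⊤ : Submodule L N) = ⊥ →
      ∀ y : R ⊗[L] N, z • y = 0 → y = 0 := by
  intro j
  induction j with
  | zero =>
    intro N _ _ h y _
    rw [pow_zero, Ideal.one_eq_top, Submodule.top_smul] at h
    have : Subsingleton N := subsingleton_of_forall_eq 0 fun x => (Submodule.eq_bot_iff _).mp h x trivial
    exact Subsingleton.elim _ _
  | succ j ih =>
    intro N _ _ h y hy
    let S := I • (⊤ : Submodule L N)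
    have hS : I ^ j • (⊤ : Submodule L S) = ⊥ := by
      apply Submodule.map_injective_of_injective S.subtype_injective
      rw [Submodule.map_smul'', Submodule.map_subtype_top, Submodule.map_bot, ← Submodule.smul_assoc,
        smul_eq_mul, ← pow_succ]
      exact h
    have hex : Function.Exact (S.subtype.lTensor R) (S.mkQ.lTensor R) :=
      lTensor_exact R (LinearMap.exact_subtype_mkQ S) S.mkQ_surjective
    have hq : ∀ w : R ⊗[L] (N ⧸ S), z • w = 0 → w = 0 := by
      letI := Ideal.Quotient.field I
      haveI : Module.Free (L ⧸ I) (N ⧸ S) := Module.Free.of_divisionRing _ _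
      let b := Module.Free.chooseBasis (L ⧸ I) (N ⧸ S)
      let e : R ⊗[L] (N ⧸ S) ≃ₗ[R] (_ →₀ R ⊗[L] (L ⧸ I)) :=
        (AlgebraTensorModule.congr (LinearEquiv.refl R R) (b.repr.restrictScalars L)).trans
          (TensorProduct.finsuppRight L R R (L ⧸ I) _)
      intro w hw
      refine e.injective (Finsupp.ext fun t => ?_)
      rw [map_zero, Finsupp.zero_apply]
      refine hz _ ?_
      rw [← Finsupp.smul_apply, ← map_smul, hw, map_zero, Finsupp.zero_apply]
    have hqy : S.mkQ.lTensor R y = 0 := hq _ (by
      have h1 : z • AlgebraTensorModule.lTensor R R S.mkQ y = AlgebraTensorModule.lTensor R R S.mkQ (z • y) :=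
        (map_smul _ _ _).symm
      rw [hy, map_zero] at h1
      exact h1)
    obtain ⟨w, rfl⟩ := (hex y).mp hqy
    have hw : z • w = 0 := Module.Flat.lTensor_preserves_injective_linearMap (M := R) S.subtype S.subtype_injective
      (by
        rw [map_zero]
        exact (map_smul (AlgebraTensorModule.lTensor R R S.subtype) z w).trans hy)
    rw [ih S hS w hw, map_zero]

/-- A regular element modulo the maximal ideal is regular on finite modules. -/
theorem smul_injective_of_regular_residue {L R : Type u} [CommRing L] [IsLocalRing L] [IsNoetherianRing L]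
    [CommRing R] [Algebra L R] [Module.Free L R] {z : R}
    (hz : ∀ y : R ⊗[L] (L ⧸ maximalIdeal L), z • y = 0 → y = 0)
    (N : Type u) [AddCommGroup N] [Module L N] [Module.Finite L N] {y : R ⊗[L] N} (hy : z • y = 0) : y = 0 := by
  classical
  let b := Module.Free.chooseBasis L R
  let e := TensorProduct.equivFinsuppOfBasisLeft (N := N) b
  refine e.injective (Finsupp.ext fun t => ?_)
  rw [map_zero, Finsupp.zero_apply, ← Submodule.mem_bot L,
    ← Ideal.iInf_pow_smul_eq_bot_of_le_jacobson (M := N) (maximalIdeal L)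
      (by rw [IsLocalRing.jacobson_eq_maximalIdeal _ bot_ne_top]), Submodule.mem_iInf]
  intro j
  let S := maximalIdeal L ^ j • (⊤ : Submodule L N)
  have hq : S.mkQ.lTensor R y = 0 := by
    refine smul_injective_of_pow_smul_eq_bot (maximalIdeal L) hz j (N ⧸ S) ?_ _ ?_
    · rw [← Submodule.range_mkQ S, ← Submodule.map_top, ← Submodule.map_smul'', Submodule.mkQ_map_self]
    · have h1 : z • AlgebraTensorModule.lTensor R R S.mkQ y = AlgebraTensorModule.lTensor R R S.mkQ (z • y) :=
        (map_smul _ _ _).symm
      rw [hy, map_zero] at h1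
      exact h1
  obtain ⟨w, hw⟩ := (lTensor_exact R (LinearMap.exact_subtype_mkQ S) S.mkQ_surjective y).mp hq
  subst hw
  clear hy hq
  induction w using TensorProduct.induction_on with
  | zero => simp
  | add a b ha hb => simp only [map_add, Finsupp.add_apply]; exact S.add_mem ha hb
  | tmul r n =>
    rw [LinearMap.lTensor_tmul, TensorProduct.equivFinsuppOfBasisLeft_apply_tmul_apply]
    exact S.smul_mem _ n.2

section Relation

variable {A B M A' B' M' : Type u} [CommRing A] [CommRing B] [Algebra A B] [AddCommGroup M] [Module B M]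
  [Module A M] [IsScalarTower A B M] [CommRing A'] [CommRing B'] [Algebra A A'] [Algebra A B']
  [Algebra B B'] [Algebra A' B'] [IsScalarTower A A' B'] [IsScalarTower A B B']
  [AddCommGroup M'] [Module B' M'] [Module B M'] [IsScalarTower B B' M'] [Module A' M'] [IsScalarTower A' B' M']

set_option maxHeartbeats 800000 in
/-- The coefficients of a relation are killed by functionals with values in a regular quotient. -/
theorem relation_sum_eq_zero (ι : M →ₗ[B] M') (hι : IsBaseChange B' ι) (Q : PrimeSpectrum B')
    (hflat : Q ∈ flatLocus A' B' M') {R T : Type u} [CommRing R] [Algebra A' R] [AddCommGroup T] [Module R T]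
    [Module B T] (ψ : B' →+* R) (hψA : ∀ a, ψ (algebraMap A' B' a) = algebraMap A' R a)
    (f : M →ₗ[B] T) (hψB : ∀ (b : B) (y : T), ψ (algebraMap B B' b) • y = b • y)
    (hreg : ∀ d ∉ Q.asIdeal, ∀ y : T, ψ d • y = 0 → y = 0)
    {σ : Type u} (s : Finset σ) (x : σ → M) (v : σ → A) (hsum : ∑ i ∈ s, v i • x i = 0)
    (c : Ideal A') (hc : ∀ i ∈ s, algebraMap A A' (v i) ∈ c) (χ : c →ₗ[A'] R) :
    ∑ i ∈ s.attach, χ ⟨_, hc i.1 i.2⟩ • f (x i.1) = 0 := by
  letI : Module B' T := Module.compHom T ψ
  haveI : IsScalarTower B B' T := IsScalarTower.of_algebraMap_smul hψB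
  let g : M' →ₗ[B'] T := hι.lift f
  have hg : ∀ m, g (ι m) = f m := hι.lift_eq f
  let ω : M' ⊗[A'] c := ∑ i ∈ s.attach, ι (x i.1) ⊗ₜ[A'] ⟨_, hc i.1 i.2⟩
  haveI : Module.Flat A' (LocalizedModule Q.asIdeal.primeCompl M') := hflat
  let loc := LocalizedModule.mkLinearMap Q.asIdeal.primeCompl M'
  let ψc := AlgebraTensorModule.rTensor A' c loc
  haveI : IsLocalizedModule Q.asIdeal.primeCompl ψc := inferInstance
  have h0 : ψc ω = 0 := by
    refine Module.Flat.lTensor_preserves_injective_linearMap (M := LocalizedModule Q.asIdeal.primeCompl M')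
      c.subtype Subtype.val_injective ?_
    refine (TensorProduct.rid A' _).injective ?_
    rw [map_zero, map_zero]
    have h1 : ∀ w, TensorProduct.rid A' _ (c.subtype.lTensor _ (ψc w)) =
        loc (TensorProduct.rid A' M' (c.subtype.lTensor M' w)) := fun w => by
      induction w using TensorProduct.induction_on with
      | zero => simp
      | add a b ha hb => simp only [map_add, ha, hb]
      | tmul m z => simp [ψc, LinearMap.map_smul_of_tower]
    rw [h1, map_sum, map_sum]
    simp only [LinearMap.lTensor_tmul, Submodule.subtype_apply, TensorProduct.rid_tmul]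
    rw [Finset.sum_attach s (fun i => algebraMap A A' (v i) • ι (x i))]
    have h2 : ∀ i, algebraMap A A' (v i) • ι (x i) = ι (v i • x i) := fun i => by
      rw [← algebraMap_smul B (v i) (x i), map_smul, ← algebraMap_smul B' (algebraMap A A' (v i)),
        ← IsScalarTower.algebraMap_apply, IsScalarTower.algebraMap_apply A B B', algebraMap_smul]
    rw [Finset.sum_congr rfl fun i _ => h2 i, ← map_sum, hsum, map_zero, map_zero]
  obtain ⟨d, hd⟩ := (IsLocalizedModule.eq_zero_iff Q.asIdeal.primeCompl ψc).mp h0
  letI : Module A' T := Module.compHom T (algebraMap A' R)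
  haveI : IsScalarTower A' R T := IsScalarTower.of_algebraMap_smul fun _ _ => rfl
  haveI : IsScalarTower A' B' T := IsScalarTower.of_algebraMap_smul fun a y => by
    show ψ (algebraMap A' B' a) • y = algebraMap A' R a • y
    rw [hψA]
  let F : M' ⊗[A'] c →ₗ[A'] T :=
    TensorProduct.lift (LinearMap.mk₂ A' (fun m r => χ r • g m)
      (fun m m' r => by simp only [map_add, smul_add])
      (fun a m r => by rw [LinearMap.map_smul_of_tower, smul_comm])
      (fun m r r' => by simp only [map_add, add_smul])
      (fun a m r => by simp only [map_smul, smul_assoc]))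
  have hF : ∀ w, F ((d : B') • w) = ψ (d : B') • F w := fun w => by
    induction w using TensorProduct.induction_on with
    | zero => simp
    | add a b ha hb => simp only [smul_add, map_add, ha, hb]
    | tmul m r =>
      rw [smul_tmul']
      show χ r • g ((d : B') • m) = ψ (d : B') • (χ r • g m)
      rw [map_smul]
      show χ r • (ψ (d : B') • g m) = ψ (d : B') • (χ r • g m)
      rw [smul_comm]
  have hω : F ω = 0 := hreg d d.2 _ (by rw [← hF, ← Submonoid.smul_def, hd, map_zero])
  rw [← hω, map_sum]
  exact Finset.sum_congr rfl fun i _ => by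
    show _ = χ _ • g (ι (x i.1))
    rw [hg]

end Relation

section Primary

variable {A B M A' B' M' : Type u} [CommRing A] [IsLocalRing A] [CommRing B] [Algebra A B] [AddCommGroup M]
  [Module B M] [Module A M] [IsScalarTower A B M] [CommRing A'] [IsLocalRing A'] [CommRing B'] [Algebra A A']
  [IsLocalHom (algebraMap A A')] [Algebra A B'] [Algebra B B'] [Algebra A' B'] [IsScalarTower A A' B']
  [IsScalarTower A B B'] [Algebra.IsPushout A A' B B'] [AddCommGroup M'] [Module B' M'] [Module B M']
  [IsScalarTower B B' M'] [Module A' M'] [IsScalarTower A' B' M']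

set_option maxHeartbeats 1600000 in
/-- The coefficients of a relation die at one point of a base change, residue extension primary. -/
theorem relation_mem_primary_aux (p : Ideal B) [p.IsPrime] {L N : Type u} [CommRing L] [IsLocalRing L]
    [IsNoetherianRing L] [Algebra B L] [Algebra A L] [IsScalarTower A B L]
    [Algebra (ResidueField A) L] [IsScalarTower A (ResidueField A) L]
    (hunit : ∀ b ∉ p, IsUnit (algebraMap B L b)) (hmax : ∀ b ∈ p, algebraMap B L b ∈ maximalIdeal L)
    (hfrac : ∀ y : L, ∃ (b : B) (t : B), t ∉ p ∧ algebraMap B L t * y = algebraMap B L b)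
    (hsep : SepClosedIn (algebraMap A (ResidueField L)))
    [AddCommGroup N] [Module L N] [Module.Finite L N] [Module B N] [IsScalarTower B L N]
    (f : M →ₗ[B] N) (ι : M →ₗ[B] M') (hι : IsBaseChange B' ι) (Q : PrimeSpectrum B')
    (hQp : Q.asIdeal.comap (algebraMap B B') = p)
    (hQm : Q.asIdeal.comap (algebraMap A' B') = maximalIdeal A') (hflat : Q ∈ flatLocus A' B' M')
    {σ : Type u} (s : Finset σ) (x : σ → M) (v : σ → A) (hsum : ∑ i ∈ s, v i • x i = 0)
    (hind : ∀ a : σ → A, ∑ i ∈ s, algebraMap A L (a i) • f (x i) = 0 → ∀ i ∈ s, a i ∈ maximalIdeal A) :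
    ∀ i ∈ s, algebraMap A A' (v i) = 0 := by
  classical
  let k := ResidueField A
  let k' := ResidueField A'
  let R := L ⊗[k] k'
  letI algAR : Algebra A' R :=
    ((Algebra.TensorProduct.includeRight (R := k) (A := L) (B := k')).toRingHom.comp (residue A')).toAlgebra
  haveI : IsScalarTower A A' R := IsScalarTower.of_algebraMap_eq fun a => by
    show algebraMap A L a ⊗ₜ[k] (1 : k') = (1 : L) ⊗ₜ[k] residue A' (algebraMap A A' a)
    rw [IsScalarTower.algebraMap_apply A k L,
      Algebra.algebraMap_eq_smul_one, TensorProduct.smul_tmul, ← Algebra.algebraMap_eq_smul_one]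
    rfl
  haveI : IsScalarTower A B R := IsScalarTower.of_algebraMap_eq fun a => by
    show algebraMap A L a ⊗ₜ[k] (1 : k') = algebraMap B L (algebraMap A B a) ⊗ₜ[k] (1 : k')
    rw [← IsScalarTower.algebraMap_apply]
  let ψ0 : A' ⊗[A] B →ₐ[A] R :=
    Algebra.TensorProduct.lift (IsScalarTower.toAlgHom A A' R) (IsScalarTower.toAlgHom A B R)
      fun _ _ => Commute.all _ _
  let ψ : B' →+* R := ψ0.toRingHom.comp (Algebra.IsPushout.equiv A A' B B').symm.toRingEquiv.toRingHom
  have hψA : ∀ a, ψ (algebraMap A' B' a) = algebraMap A' R a := fun a => by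
    show ψ0 ((Algebra.IsPushout.equiv A A' B B').symm (algebraMap A' B' a)) = _
    rw [AlgEquiv.commutes]
    show ψ0 (a ⊗ₜ[A] (1 : B)) = _
    rw [Algebra.TensorProduct.lift_tmul, map_one, mul_one]
    rfl
  have hψB : ∀ b, ψ (algebraMap B B' b) = algebraMap B R b := fun b => by
    show ψ0 ((Algebra.IsPushout.equiv A A' B B').symm (algebraMap B B' b)) = _
    rw [show (Algebra.IsPushout.equiv A A' B B').symm (algebraMap B B' b) = (1 : A') ⊗ₜ[A] b by
      rw [AlgEquiv.symm_apply_eq, Algebra.IsPushout.equiv_tmul, map_one, one_mul]]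
    rw [Algebra.TensorProduct.lift_tmul, map_one, one_mul]
    rfl
  -- the residue field of the point
  let F := FractionRing (B' ⧸ Q.asIdeal)
  let π : B' →+* F := (algebraMap (B' ⧸ Q.asIdeal) F).comp (Ideal.Quotient.mk _)
  have hπ : ∀ d, π d = 0 ↔ d ∈ Q.asIdeal := fun d => by
    show algebraMap _ F (Ideal.Quotient.mk Q.asIdeal d) = 0 ↔ _
    rw [map_eq_zero_iff _ (IsFractionRing.injective _ F), Ideal.Quotient.eq_zero_iff_mem]
  let κ := ResidueField L
  let θ : R →ₐ[k] κ ⊗[k] k' :=
    Algebra.TensorProduct.map (IsScalarTower.toAlgHom k L κ) (AlgHom.id k k')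
  have hθker : ∀ d ∉ Q.asIdeal, ¬ IsNilpotent (θ (ψ d)) := by
    intro d hd hn
    have hk' : ∃ β : k' →+* F, ∀ a, β (residue A' a) = π (algebraMap A' B' a) := by
      refine ⟨Ideal.Quotient.lift _ (π.comp (algebraMap A' B')) fun a ha => ?_, fun a => rfl⟩
      rw [← hQm] at ha
      exact (hπ _).mpr ha
    obtain ⟨β, hβ⟩ := hk'
    choose nb db hdb hnd using hfrac
    have hbz : ∀ b : B, π (algebraMap B B' b) = 0 ↔ b ∈ p := fun b => by rw [hπ, ← hQp]; rfl
    have hwd : ∀ (b : B), b ∉ p → π (algebraMap B B' b) ≠ 0 := fun b hb h => hb ((hbz b).mp h)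
    have hmaxiff : ∀ b : B, algebraMap B L b ∈ maximalIdeal L ↔ b ∈ p := fun b =>
      ⟨fun h => by_contra fun hb => h (hunit b hb), hmax b⟩
    have hres : ∀ b : B, algebraMap B κ b = 0 ↔ b ∈ p := fun b => by
      rw [IsScalarTower.algebraMap_apply B L κ]
      exact (residue_eq_zero_iff _).trans (hmaxiff b)
    let P' := B ⧸ p
    let j : P' →+* κ := Ideal.Quotient.lift p (algebraMap B κ) fun b hb => (hres b).mpr hb
    have hj : Function.Injective j := RingHom.lift_injective_of_ker_le_ideal p _ fun b hb => (hres b).mp hb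
    letI : Algebra P' κ := j.toAlgebra
    haveI : IsFractionRing P' κ := by
      haveI : FaithfulSMul P' κ := (faithfulSMul_iff_algebraMap_injective P' κ).mpr hj
      refine IsFractionRing.of_field P' κ fun y => ?_
      obtain ⟨y, rfl⟩ := residue_surjective y
      refine ⟨Ideal.Quotient.mk p (nb y), Ideal.Quotient.mk p (db y), ?_⟩
      show residue L y = algebraMap B κ (nb y) / algebraMap B κ (db y)
      rw [eq_div_iff (mt (hres _).mp (hdb y)), IsScalarTower.algebraMap_apply B L κ, IsScalarTower.algebraMap_apply B L κ,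
        ResidueField.algebraMap_eq, ← map_mul, mul_comm, hnd]
    let iF : P' →+* F := Ideal.Quotient.lift p (π.comp (algebraMap B B')) fun b hb => (hbz b).mpr hb
    have hiF : Function.Injective iF := RingHom.lift_injective_of_ker_le_ideal p _ fun b hb => (hbz b).mp hb
    let α : κ →+* F := IsFractionRing.lift hiF
    have hα : ∀ b : B, α (algebraMap B κ b) = π (algebraMap B B' b) := fun b =>
      IsFractionRing.lift_algebraMap hiF (Ideal.Quotient.mk p b)
    letI : Algebra k F := (α.comp (algebraMap k κ)).toAlgebra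
    have hαk : ∀ a : A, α (algebraMap A κ a) = π (algebraMap A B' a) := fun a => by
      rw [IsScalarTower.algebraMap_apply A B κ, hα, ← IsScalarTower.algebraMap_apply]
    have hβk : ∀ r : k, β (algebraMap k k' r) = algebraMap k F r := fun r => by
      obtain ⟨a, rfl⟩ := residue_surjective r
      show β (residue A' (algebraMap A A' a)) = α (algebraMap k κ (algebraMap A k a))
      rw [hβ, ← IsScalarTower.algebraMap_apply, ← IsScalarTower.algebraMap_apply A k κ, hαk]
    let α' : κ →ₐ[k] F := { α with commutes' := fun _ => rfl }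
    let β' : k' →ₐ[k] F := { β with commutes' := hβk }
    let χ : κ ⊗[k] k' →ₐ[k] F := Algebra.TensorProduct.lift α' β' fun _ _ => Commute.all _ _
    have hχ : ∀ e, χ (θ (ψ e)) = π e := fun e => by
      obtain ⟨e, rfl⟩ := (Algebra.IsPushout.equiv A A' B B').surjective e
      show χ (θ (ψ0 ((Algebra.IsPushout.equiv A A' B B').symm _))) = _
      rw [AlgEquiv.symm_apply_apply]
      induction e using TensorProduct.induction_on with
      | zero => simp
      | add a b ha hb => simp only [map_add, ha, hb]
      | tmul a b =>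
        rw [Algebra.IsPushout.equiv_tmul, map_mul, ← hα, ← hβ]
        show χ (θ (((1 : L) ⊗ₜ[k] residue A' a) * (algebraMap B L b ⊗ₜ[k] (1 : k')))) = _
        rw [Algebra.TensorProduct.tmul_mul_tmul, one_mul, mul_one]
        show α (algebraMap L κ (algebraMap B L b)) * β (residue A' a) = _
        rw [← IsScalarTower.algebraMap_apply, mul_comm]
    exact hd ((hπ d).mp (by rw [← hχ]; exact (hn.map χ).eq_zero))
  -- regularity
  have hsep' : SepClosedIn (algebraMap k κ) :=
    SepClosedIn.of_comp_surjective (π := algebraMap A k) residue_surjective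
      (by rw [← IsScalarTower.algebraMap_eq]; exact hsep)
  let T := R ⊗[L] N
  have hreg : ∀ d ∉ Q.asIdeal, ∀ y : T, ψ d • y = 0 → y = 0 := fun d hd y hy => by
    refine smul_injective_of_regular_residue (fun w hw => ?_) N hy
    let e0 : R ⊗[L] κ ≃ₗ[L] κ ⊗[k] k' :=
      (TensorProduct.comm L R κ).trans ((AlgebraTensorModule.cancelBaseChange k L L κ k'))
    have he0 : ∀ (r : R) (w : R ⊗[L] κ), e0 (r • w) = θ r * e0 w := fun r w => by
      induction w using TensorProduct.induction_on with
      | zero => simp
      | add a b ha hb => simp only [smul_add, map_add, ha, hb, mul_add]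
      | tmul r' y =>
        rw [smul_tmul', smul_eq_mul]
        induction r using TensorProduct.induction_on with
        | zero => simp
        | add a b ha hb => simp only [add_mul, TensorProduct.add_tmul, map_add, ha, hb]
        | tmul l a =>
          induction r' using TensorProduct.induction_on with
          | zero => simp
          | add a b ha hb => simp only [mul_add, TensorProduct.add_tmul, map_add, ha, hb]
          | tmul l' a' =>
            rw [Algebra.TensorProduct.tmul_mul_tmul]
            show ((l * l') • y) ⊗ₜ[k] (a * a') = (algebraMap L κ l ⊗ₜ[k] a) * ((l' • y) ⊗ₜ[k] a')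
            rw [Algebra.TensorProduct.tmul_mul_tmul, mul_smul, Algebra.smul_def l]
    have hnil : ¬ IsNilpotent (Algebra.TensorProduct.comm k κ k' (θ (ψ d))) := fun hn => hθker d hd (by
      have := hn.map (Algebra.TensorProduct.comm k κ k').symm
      rwa [AlgEquiv.symm_apply_apply] at this)
    have h0 := eq_zero_of_mul_tensor hsep' k' hnil (w := Algebra.TensorProduct.comm k κ k' (e0 w))
      (by
        rw [← map_mul, ← he0]
        refine (congrArg (fun u => Algebra.TensorProduct.comm k κ k' (e0 u)) hw).trans ?_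
        show Algebra.TensorProduct.comm k κ k' (e0 (0 : R ⊗[L] κ)) = 0
        rw [map_zero, map_zero])
    exact (map_eq_zero_iff e0 e0.injective).mp
      ((map_eq_zero_iff (Algebra.TensorProduct.comm k κ k') (AlgEquiv.injective _)).mp h0)
  letI : Module B T := Module.compHom T (algebraMap B R)
  let fT : M →ₗ[B] T :=
    { toFun := fun m => (1 : R) ⊗ₜ[L] f m
      map_add' := fun m m' => by rw [map_add, tmul_add]
      map_smul' := fun b m => by
        rw [map_smul, RingHom.id_apply, ← algebraMap_smul L b (f m), tmul_smul]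
        show algebraMap B L b • ((1 : R) ⊗ₜ[L] f m) = algebraMap B R b • ((1 : R) ⊗ₜ[L] f m)
        rw [smul_tmul', smul_tmul', Algebra.smul_def, smul_eq_mul]
        rfl }
  let c : Ideal A' := Ideal.span ((s.image fun i => algebraMap A A' (v i)) : Set A')
  have hc : ∀ i ∈ s, algebraMap A A' (v i) ∈ c := fun i hi =>
    Ideal.subset_span (Finset.mem_image_of_mem (fun i => algebraMap A A' (v i)) hi)
  let V := c ⧸ (maximalIdeal A' • (⊤ : Submodule A' c))
  suffices hV : ∀ i (hi : i ∈ s), (Submodule.Quotient.mk (⟨_, hc i hi⟩ : c) : V) = 0 by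
    have hle : c ≤ maximalIdeal A' • c := by
      refine Ideal.span_le.mpr fun a ha => ?_
      obtain ⟨i, hi, rfl⟩ := Finset.mem_image.mp ha
      have h4 := (Submodule.Quotient.mk_eq_zero _).mp (hV i hi)
      have h5 := Submodule.mem_map_of_mem (f := c.subtype) h4
      rw [Submodule.map_smul'', Submodule.map_subtype_top] at h5
      exact h5
    have hc0 : c = ⊥ := Submodule.eq_bot_of_le_smul_of_le_jacobson_bot _ c
      (Submodule.fg_span (Finset.finite_toSet _)) hle
      (by rw [IsLocalRing.jacobson_eq_maximalIdeal _ bot_ne_top])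
    exact fun i hi => (Submodule.mem_bot A').mp (hc0 ▸ hc i hi)
  intro i hi
  by_contra hne
  have hkill : ∀ a ∈ maximalIdeal A', ∀ w : V, a • w = 0 := by
    intro a ha w
    obtain ⟨w, rfl⟩ := Submodule.Quotient.mk_surjective _ w
    rw [← Submodule.Quotient.mk_smul, Submodule.Quotient.mk_eq_zero]
    exact Submodule.smul_mem_smul ha Submodule.mem_top
  obtain ⟨φ, hφ⟩ := RichLib.FlatFamily.exists_dual_ne_zero hkill hne
  let inc : k' →ₗ[A'] R :=
    { toFun := fun a => (1 : L) ⊗ₜ[k] a
      map_add' := fun _ _ => tmul_add _ _ _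
      map_smul' := fun a w => by
        rw [RingHom.id_apply, Algebra.smul_def, Algebra.smul_def]
        show (1 : L) ⊗ₜ[k] (residue A' a * w) = ((1 : L) ⊗ₜ[k] residue A' a) * ((1 : L) ⊗ₜ[k] w)
        rw [Algebra.TensorProduct.tmul_mul_tmul, one_mul] }
  let χ : c →ₗ[A'] R := inc ∘ₗ φ ∘ₗ Submodule.mkQ _
  have hsum0 := relation_sum_eq_zero ι hι Q hflat (T := T) ψ hψA fT
    (fun b y => by rw [hψB]; rfl) hreg s x v hsum c hc χ
  let w : σ → k' := fun j => if h : j ∈ s then φ (Submodule.Quotient.mk (⟨_, hc j h⟩ : c)) else 0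
  refine hφ ((dif_pos hi : w i = φ (Submodule.Quotient.mk (⟨_, hc i hi⟩ : c))).symm.trans
    ((Module.forall_dual_apply_eq_zero_iff k (w i)).mp fun ε => ?_))
  let E : R →ₗ[L] L := Module.Dual.baseChange L ε
  let G : T →ₗ[L] N := TensorProduct.lift ((LinearMap.lsmul L N).comp E)
  have hG := congrArg G hsum0
  rw [map_sum, map_zero] at hG
  have hG' : ∀ j : s, G (χ ⟨_, hc j.1 j.2⟩ • fT (x j.1)) =
      algebraMap k L (ε (w j.1)) • f (x j.1) := fun j => by
    have hχw : χ ⟨_, hc j.1 j.2⟩ = (1 : L) ⊗ₜ[k] w j.1 :=
      congrArg inc (dif_pos j.2 : w j.1 = φ (Submodule.Quotient.mk (⟨_, hc j.1 j.2⟩ : c))).symm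
    rw [hχw]
    show G (((1 : L) ⊗ₜ[k] w j.1) • ((1 : R) ⊗ₜ[L] f (x j.1))) = _
    rw [smul_tmul', smul_eq_mul, mul_one]
    show E ((1 : L) ⊗ₜ[k] w j.1) • f (x j.1) = _
    show (ε (w j.1) • (1 : L)) • f (x j.1) = _
    rw [Algebra.algebraMap_eq_smul_one]
  rw [Finset.sum_congr rfl fun j _ => hG' j] at hG
  choose a ha using fun j => residue_surjective (R := A) (ε (w j))
  have h6 := hind a (by
    rw [← hG, ← Finset.sum_attach s (fun j => algebraMap A L (a j) • f (x j))]
    refine Finset.sum_congr rfl fun j _ => ?_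
    rw [IsScalarTower.algebraMap_apply A k L, show algebraMap A k (a j.1) = ε (w j.1) from ha j.1]) i hi
  rw [← ha i]
  exact (residue_eq_zero_iff _).mpr h6

end Primary

end FlatLib
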