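import Groth.Agent.FlatLib.PrimaryFamily
import Groth.Agent.DvrFlatLib.Chart
import Mathlib

/-! Flatness over an Artinian base tested at one point of each member of a separating family. -/

set_option autoImplicit false
universe u

open TensorProduct IsLocalRing

attribute [local instance] Algebra.TensorProduct.rightAlgebra

namespace FlatLib

section Ring

variable {A B M : Type u} [CommRing A] [IsLocalRing A] [CommRing B] [Algebra A B] [IsNoetherianRing B]
  [AddCommGroup M] [Module B M] [Module A M] [IsScalarTower A B M] [Module.Finite B M]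

set_option maxHeartbeats 800000 in
/-- The coefficients of a relation lifting a basis die in a member of the family. -/
theorem relation_mem_primary (p : PrimeSpectrum B)
    (hsep : SepClosedIn (algebraMap A p.asIdeal.ResidueField))
    (hp : p.asIdeal.comap (algebraMap A B) = maximalIdeal A)
    (A' : Type u) [CommRing A'] [IsLocalRing A'] [Algebra A A'] [IsLocalHom (algebraMap A A')]
    (Q : PrimeSpectrum (DvrFlatLib.BCA A A' B))
    (hQp : Q.asIdeal.comap (algebraMap B (DvrFlatLib.BCA A A' B)) = p.asIdeal)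
    (hQm : Q.asIdeal.comap (algebraMap A' (DvrFlatLib.BCA A A' B)) = maximalIdeal A')
    (hflat : Q ∈ flatLocus A' (DvrFlatLib.BCA A A' B) (DvrFlatLib.BCM A B M A'))
    {σ : Type u} (l : σ → LocalizedModule p.asIdeal.primeCompl M)
    (hl : Function.Injective ((Finsupp.linearCombination A l).lTensor (A ⧸ maximalIdeal A)))
    (v : σ →₀ A) (hv : Finsupp.linearCombination A l v = 0) (j : σ) : algebraMap A A' (v j) = 0 := by
  classical
  let mk := LocalizedModule.mkLinearMap p.asIdeal.primeCompl M
  obtain ⟨s, x, hx, hsum⟩ : ∃ (s : p.asIdeal.primeCompl) (x : σ → M),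
      (∀ i ∈ v.support, mk (x i) = (s : B) • l i) ∧ ∑ i ∈ v.support, v i • x i = 0 := by
    obtain ⟨s₁, hs₁⟩ := IsLocalizedModule.exist_integer_multiples p.asIdeal.primeCompl mk v.support l
    choose x₁ hx₁ using hs₁
    let x : σ → M := fun i => if h : i ∈ v.support then x₁ i h else 0
    have hx : ∀ i ∈ v.support, mk (x i) = (s₁ : B) • l i := fun i hi => by
      simp only [x, dif_pos hi]
      exact hx₁ i hi
    have h0 : mk (∑ i ∈ v.support, v i • x i) = 0 := by
      have h1 : ∀ i ∈ v.support, mk (v i • x i) = (s₁ : B) • (v i • l i) := fun i hi => by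
        rw [← algebraMap_smul B (v i) (x i), map_smul, hx i hi, smul_comm, algebraMap_smul]
      rw [map_sum, Finset.sum_congr rfl h1, ← Finset.smul_sum,
        show ∑ i ∈ v.support, v i • l i = 0 from hv, smul_zero]
    obtain ⟨s₂, hs₂⟩ := (IsLocalizedModule.eq_zero_iff p.asIdeal.primeCompl mk).mp h0
    refine ⟨s₂ * s₁, fun i => (s₂ : B) • x i, fun i hi => ?_, ?_⟩
    · rw [map_smul, hx i hi, Submonoid.coe_mul, mul_smul]
    · rw [Submonoid.smul_def, Finset.smul_sum] at hs₂
      rw [← hs₂]
      exact Finset.sum_congr rfl fun i _ => smul_comm _ _ _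
  let Bp := Localization.AtPrime p.asIdeal
  let Mp := LocalizedModule p.asIdeal.primeCompl M
  have : IsNoetherianRing Bp := IsLocalization.isNoetherianRing p.asIdeal.primeCompl Bp inferInstance
  have : Module.Finite Bp Mp := Module.Finite.of_isLocalizedModule p.asIdeal.primeCompl mk
  haveI : IsScalarTower A Bp Mp := IsScalarTower.of_algebraMap_smul fun r x ↦ by
    rw [IsScalarTower.algebraMap_apply A B Bp, algebraMap_smul, algebraMap_smul]
  let I : Ideal Bp := (maximalIdeal A).map (algebraMap A Bp)
  have hI : I ≤ maximalIdeal Bp := by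
    rw [Ideal.map_le_iff_le_comap]
    intro a ha
    rw [Ideal.mem_comap, IsScalarTower.algebraMap_apply A B Bp]
    exact (IsLocalization.AtPrime.to_map_mem_maximal_iff Bp p.asIdeal _).mpr (hp.ge ha)
  let L := Bp ⧸ I
  haveI : Nontrivial L := Ideal.Quotient.nontrivial_iff.mpr fun e =>
    (maximalIdeal.isMaximal Bp).ne_top (top_le_iff.mp (e.ge.trans hI))
  haveI : IsLocalRing L := IsLocalRing.of_surjective' _ Ideal.Quotient.mk_surjective
  haveI : IsLocalHom (Ideal.Quotient.mk I) := Function.Surjective.isLocalHom _ Ideal.Quotient.mk_surjective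
  letI : Algebra (ResidueField A) L := (Ideal.Quotient.lift (maximalIdeal A) (algebraMap A L) fun a ha =>
    Ideal.Quotient.eq_zero_iff_mem.mpr (Ideal.mem_map_of_mem _ ha)).toAlgebra
  haveI : IsScalarTower A (ResidueField A) L := IsScalarTower.of_algebraMap_eq fun _ => rfl
  haveI : IsScalarTower A B L := inferInstance
  let N := Mp ⧸ (I • (⊤ : Submodule Bp Mp))
  let f : M →ₗ[B] N := (Submodule.mkQ (I • (⊤ : Submodule Bp Mp))).restrictScalars B ∘ₗ mk
  haveI : IsScalarTower B L N := ⟨fun b r y => by
    obtain ⟨r, rfl⟩ := Ideal.Quotient.mk_surjective r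
    obtain ⟨y, rfl⟩ := Submodule.Quotient.mk_surjective _ y
    show Submodule.Quotient.mk ((b • r) • y) = Submodule.Quotient.mk (b • (r • y))
    rw [smul_assoc]⟩
  haveI : Module.Finite L N := Module.Finite.of_restrictScalars_finite Bp L N
  haveI : IsNoetherianRing L := inferInstance
  have hres : SepClosedIn (algebraMap A (ResidueField L)) := by
    let e0 : ResidueField Bp →+* ResidueField L := ResidueField.map (Ideal.Quotient.mk I)
    have he0 : Function.Bijective e0 := ⟨e0.injective, fun y => by
      obtain ⟨y, rfl⟩ := residue_surjective y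
      obtain ⟨y, rfl⟩ := Ideal.Quotient.mk_surjective y
      exact ⟨residue Bp y, rfl⟩⟩
    have h1 := hsep.comp_equiv (RingEquiv.ofBijective e0 he0)
    have h2 : (RingEquiv.ofBijective e0 he0).toRingHom.comp (algebraMap A p.asIdeal.ResidueField) =
        algebraMap A (ResidueField L) := RingHom.ext fun a => rfl
    rwa [h2] at h1
  have hunit : ∀ b ∉ p.asIdeal, IsUnit (algebraMap B L b) := fun b hb =>
    (IsLocalization.map_units Bp (⟨b, hb⟩ : p.asIdeal.primeCompl)).map (Ideal.Quotient.mk I)
  have key := relation_mem_primary_aux (A := A) (B := B) (M := M) p.asIdeal (L := L) (N := N) hunit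
    (fun b hb => fun hu => by
      have hu' : IsUnit (algebraMap B Bp b) := isUnit_of_map_unit (Ideal.Quotient.mk I) _ hu
      exact ((IsLocalization.AtPrime.to_map_mem_maximal_iff Bp p.asIdeal b).mpr hb) hu')
    (fun y => by
      obtain ⟨y, rfl⟩ := Ideal.Quotient.mk_surjective y
      obtain ⟨b, t, rfl⟩ := IsLocalization.exists_mk'_eq p.asIdeal.primeCompl y
      refine ⟨b, t, t.2, ?_⟩
      show Ideal.Quotient.mk I (algebraMap B Bp t) * _ = Ideal.Quotient.mk I (algebraMap B Bp b)
      rw [← map_mul, mul_comm, IsLocalization.mk'_spec])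
    hres f (DvrFlatLib.bcι A B M A') (DvrFlatLib.isBaseChange_bcι A B M A') Q hQp hQm hflat v.support x v hsum
    (fun a ha => ?_)
  · by_cases hj : j ∈ v.support
    · exact key j hj
    · rw [Finsupp.notMem_support_iff.mp hj, map_zero]
  intro i hi
  let y : Mp := ∑ i ∈ v.support, a i • l i
  have hy : y ∈ maximalIdeal A • (⊤ : Submodule A Mp) := by
    have h1 : (Submodule.mkQ (I • (⊤ : Submodule Bp Mp))) ((s : B) • y) = 0 := by
      rw [← ha, Finset.smul_sum, map_sum]
      refine Finset.sum_congr rfl fun i hi => ?_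
      show _ = Ideal.Quotient.mk I (algebraMap A Bp (a i)) • Submodule.Quotient.mk (mk (x i))
      rw [hx i hi]
      show Submodule.Quotient.mk ((s : B) • a i • l i) = Submodule.Quotient.mk (algebraMap A Bp (a i) • ((s : B) • l i))
      rw [algebraMap_smul, smul_comm]
    rw [Submodule.mkQ_apply, Submodule.Quotient.mk_eq_zero] at h1
    obtain ⟨w, hw⟩ := IsLocalization.map_units Bp s
    have h2 := Submodule.smul_mem _ (↑w⁻¹ : Bp) h1
    rw [← algebraMap_smul Bp (s : B) y, ← hw, ← mul_smul, Units.inv_mul, one_smul] at h2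
    rw [← Submodule.restrictScalars_mem A (I • (⊤ : Submodule Bp Mp)), Ideal.smul_restrictScalars,
      Submodule.restrictScalars_top] at h2
    exact h2
  have hy0 : (1 : A ⧸ maximalIdeal A) ⊗ₜ[A] y = 0 := by
    rw [← (TensorProduct.quotTensorEquivQuotSMul Mp (maximalIdeal A)).map_eq_zero_iff,
      show (1 : A ⧸ maximalIdeal A) = Ideal.Quotient.mk _ 1 from rfl,
      TensorProduct.quotTensorEquivQuotSMul_mk_tmul, one_smul, Submodule.Quotient.mk_eq_zero]
    exact hy
  have hz : (Finsupp.linearCombination A l).lTensor (A ⧸ maximalIdeal A)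
      ((1 : A ⧸ maximalIdeal A) ⊗ₜ ∑ i ∈ v.support, Finsupp.single i (a i)) = 0 := by
    rw [LinearMap.lTensor_tmul, map_sum]
    simp only [Finsupp.linearCombination_single]
    exact hy0
  have h3 := congrArg (fun z => TensorProduct.finsuppScalarRight A A (A ⧸ maximalIdeal A) σ z i)
    (hl (hz.trans (map_zero _).symm))
  simp only [TensorProduct.finsuppScalarRight_apply_tmul_apply, map_zero, Finsupp.zero_apply] at h3
  rw [Finsupp.finsetSum_apply, Finset.sum_eq_single i (fun b _ hb => Finsupp.single_eq_of_ne' hb)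
    (fun h => absurd hi h), Finsupp.single_eq_same, ← Algebra.algebraMap_eq_smul_one,
    Ideal.Quotient.algebraMap_eq] at h3
  exact Ideal.Quotient.eq_zero_iff_mem.mp h3

/-- Flatness over an Artinian local ring from flatness at one point over a separating family. -/
theorem mem_flatLocus_of_primary_family [IsArtinianRing A] (p : PrimeSpectrum B)
    (hsep : SepClosedIn (algebraMap A p.asIdeal.ResidueField)) {ι : Type u} (A' : ι → Type u)
    [∀ i, CommRing (A' i)] [∀ i, IsLocalRing (A' i)] [∀ i, Algebra A (A' i)]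
    (hu : ∀ a : A, (∀ i, algebraMap A (A' i) a = 0) → a = 0)
    (hflat : ∀ i, ∃ Q : PrimeSpectrum (DvrFlatLib.BCA A (A' i) B),
      Q.asIdeal.comap (algebraMap B (DvrFlatLib.BCA A (A' i) B)) = p.asIdeal ∧
      Q.asIdeal.comap (algebraMap (A' i) (DvrFlatLib.BCA A (A' i) B)) = maximalIdeal (A' i) ∧
      Q ∈ flatLocus (A' i) (DvrFlatLib.BCA A (A' i) B) (DvrFlatLib.BCM A B M (A' i))) :
    p ∈ flatLocus A B M := by
  have hmax : ∀ (P : Ideal A) [P.IsPrime], P = maximalIdeal A := fun P _ =>
    IsLocalRing.eq_maximalIdeal inferInstance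
  have hnil : IsNilpotent (maximalIdeal A) := by
    rw [← IsLocalRing.jacobson_eq_maximalIdeal (⊥ : Ideal A) bot_ne_top]
    exact IsArtinianRing.isNilpotent_jacobson_bot
  refine RichLib.FlatFamily.mem_flatLocus_of_family hnil p M fun {σ} l hl v hv j => hu _ fun i => ?_
  haveI : IsLocalHom (algebraMap A (A' i)) :=
    ((IsLocalRing.local_hom_TFAE (algebraMap A (A' i))).out 4 0).mp (hmax _)
  obtain ⟨Q, hQp, hQm, hQ⟩ := hflat i
  exact relation_mem_primary p hsep (hmax _) (A' i) Q hQp hQm hQ l hl v hv j

omit [IsLocalRing A] [IsNoetherianRing B] [Module.Finite B M] in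
/-- A point of flatness in a model gives one in the standard base change. -/
theorem exists_point_of_model {A' : Type u} [CommRing A'] [IsLocalRing A'] [Algebra A A'] {B' M' : Type u}
    [CommRing B'] [Algebra A B'] [Algebra B B'] [Algebra A' B'] [IsScalarTower A A' B'] [IsScalarTower A B B']
    [Algebra.IsPushout A A' B B'] [AddCommGroup M'] [Module B' M'] [Module B M'] [IsScalarTower B B' M']
    [Module A' M'] [IsScalarTower A' B' M'] [Module A M'] [IsScalarTower A A' M'] [IsScalarTower A B M']
    (ι : M →ₗ[B] M') (hι : IsBaseChange B' ι) (Q : PrimeSpectrum B') (hflat : Q ∈ flatLocus A' B' M') :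
    ∃ Q₀ : PrimeSpectrum (DvrFlatLib.BCA A A' B),
      Q₀.asIdeal.comap (algebraMap B (DvrFlatLib.BCA A A' B)) = Q.asIdeal.comap (algebraMap B B') ∧
      Q₀.asIdeal.comap (algebraMap A' (DvrFlatLib.BCA A A' B)) = Q.asIdeal.comap (algebraMap A' B') ∧
      Q₀ ∈ flatLocus A' (DvrFlatLib.BCA A A' B) (DvrFlatLib.BCM A B M A') := by
  let e := (Algebra.IsPushout.equiv A A' B B').toRingEquiv
  have hA : ∀ a, e (algebraMap A' (DvrFlatLib.BCA A A' B) a) = algebraMap A' B' a := fun a ↦
    (Algebra.IsPushout.equiv A A' B B').commutes a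
  have hB : ∀ b, e (algebraMap B (DvrFlatLib.BCA A A' B) b) = algebraMap B B' b := fun b ↦ by
    show Algebra.IsPushout.equiv A A' B B' ((1 : A') ⊗ₜ b) = _
    rw [Algebra.IsPushout.equiv_tmul, map_one, one_mul]
  refine ⟨PrimeSpectrum.comap e.toRingHom Q, ?_, ?_, ?_⟩
  · ext b; exact iff_of_eq (congrArg (· ∈ Q.asIdeal) (hB b))
  · ext a; exact iff_of_eq (congrArg (· ∈ Q.asIdeal) (hA a))
  · refine DvrFlatLib.mem_flatLocus_of_map ι hι (DvrFlatLib.isBaseChange_restrict (A := A) (A' := A') ι hι)
      (DvrFlatLib.bcι A B M A') (DvrFlatLib.isBaseChange_restrict (A' := A') _ (DvrFlatLib.isBaseChange_bcι A B M A'))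
      e.symm.toRingHom (fun a => e.injective (by
        show e (e.symm (algebraMap A' B' a)) = e (algebraMap A' (DvrFlatLib.BCA A A' B) (algebraMap A' A' a))
        rw [RingEquiv.apply_symm_apply, hA]; rfl))
      (fun b => e.injective (by
        show e (e.symm (algebraMap B B' b)) = e (algebraMap B (DvrFlatLib.BCA A A' B) b)
        rw [RingEquiv.apply_symm_apply, hB])) _ ?_
    have : PrimeSpectrum.comap e.symm.toRingHom (PrimeSpectrum.comap e.toRingHom Q) = Q :=
      PrimeSpectrum.ext (Ideal.ext fun b => by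
        show e (e.symm b) ∈ Q.asIdeal ↔ _
        rw [RingEquiv.apply_symm_apply])
    rwa [this]

end Ring

end FlatLib
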