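import Groth.Agent.FlatLib.PrimaryFlat
import Mathlib

/-! The criterion for primary residue extensions, on schemes. -/

set_option autoImplicit false
universe u

open CategoryTheory CategoryTheory.Limits AlgebraicGeometry TensorProduct IsLocalRing

attribute [local instance] Algebra.TensorProduct.rightAlgebra

namespace FlatLib

theorem primeIdealOf_isMaximal {X : Scheme.{u}} {U : X.Opens} (hU : IsAffineOpen U) {x : X} (hx : x ∈ U)
    (h : IsClosed ({x} : Set X)) : (hU.primeIdealOf ⟨x, hx⟩).asIdeal.IsMaximal := by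
  rw [← PrimeSpectrum.isClosed_singleton_iff_isMaximal]
  have h1 : IsClosed ({⟨x, hx⟩} : Set ↥U) := by
    have h2 := h.preimage (continuous_subtype_val (p := (· ∈ U)))
    convert! h2 using 1
    ext y
    simp [Subtype.ext_iff]
  have h2 := hU.isoSpec.hom.homeomorph.isClosedMap _ h1
  erw [Set.image_singleton] at h2
  exact h2

/-- A point of flatness of a base change, read on the chart. -/
theorem exists_flat_point {X Y T : Scheme.{u}} [IsAffine Y] [IsAffine T] [IsLocalRing Γ(T, ⊤)] (f : X ⟶ Y)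
    (M : X.Modules) [Coh.IsQCoh M] {V : X.Opens} (hV : IsAffineOpen V) (g : T ⟶ Y) {x : X} (hx : x ∈ V)
    (y : ↥(pullback f g)) (hy : pullback.fst f g y = x) (hyc : IsClosed ({pullback.snd f g y} : Set T))
    (h : FlatMod.IsFlatOverAt (pullback.snd f g) ((Scheme.Modules.pullback (pullback.fst f g)).obj M) y) :
    letI := (f.appLE ⊤ V le_top).hom.toAlgebra
    letI : Module Γ(Y, ⊤) Γ(M, V) := Module.compHom Γ(M, V) (f.appLE ⊤ V le_top).hom
    haveI : IsScalarTower Γ(Y, ⊤) Γ(X, V) Γ(M, V) := IsScalarTower.of_algebraMap_smul fun _ _ => rfl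
    letI := (g.appLE ⊤ ⊤ le_top).hom.toAlgebra
    ∃ Q : PrimeSpectrum (DvrFlatLib.BCA Γ(Y, ⊤) Γ(T, ⊤) Γ(X, V)),
      Q.asIdeal.comap (algebraMap Γ(X, V) (DvrFlatLib.BCA Γ(Y, ⊤) Γ(T, ⊤) Γ(X, V))) =
        (hV.primeIdealOf ⟨x, hx⟩).asIdeal ∧
      Q.asIdeal.comap (algebraMap Γ(T, ⊤) (DvrFlatLib.BCA Γ(Y, ⊤) Γ(T, ⊤) Γ(X, V))) = maximalIdeal Γ(T, ⊤) ∧
      Q ∈ flatLocus Γ(T, ⊤) (DvrFlatLib.BCA Γ(Y, ⊤) Γ(T, ⊤) Γ(X, V))
        (DvrFlatLib.BCM Γ(Y, ⊤) Γ(X, V) Γ(M, V) Γ(T, ⊤)) := by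
  subst hy
  letI := (f.appLE ⊤ V le_top).hom.toAlgebra
  letI : Module Γ(Y, ⊤) Γ(M, V) := Module.compHom Γ(M, V) (f.appLE ⊤ V le_top).hom
  haveI : IsScalarTower Γ(Y, ⊤) Γ(X, V) Γ(M, V) := IsScalarTower.of_algebraMap_smul fun _ _ => rfl
  letI := (g.appLE ⊤ ⊤ le_top).hom.toAlgebra
  let P := pullback f g
  let fst : P ⟶ X := pullback.fst f g
  let snd : P ⟶ T := pullback.snd f g
  let V' : P.Opens := fst ⁻¹ᵁ V
  have hV' : IsAffineOpen V' := DvrFlatLib.isAffineOpen_preimage_fst f g (isAffineOpen_top Y) rfl hV le_top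
  let M' := KFlatLib.pb fst M
  haveI : Coh.IsQCoh M' := KFlatLib.isQCoh_pullback fst M
  letI : Algebra Γ(T, ⊤) Γ(P, V') := (snd.appLE ⊤ V' le_top).hom.toAlgebra
  letI : Algebra Γ(X, V) Γ(P, V') := (fst.appLE V V' le_rfl).hom.toAlgebra
  letI : Algebra Γ(Y, ⊤) Γ(P, V') :=
    ((fst.appLE V V' le_rfl).hom.comp (f.appLE ⊤ V le_top).hom).toAlgebra
  obtain ⟨h1, h2, h3⟩ := DvrFlatLib.isPushout_chart f g (isAffineOpen_top Y) le_top hV le_top
  haveI := h1
  haveI := h2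
  haveI : Algebra.IsPushout Γ(Y, ⊤) Γ(T, ⊤) Γ(X, V) Γ(P, V') := h3
  letI : Module Γ(X, V) Γ(M', V') := Module.compHom Γ(M', V') (fst.appLE V V' le_rfl).hom
  haveI : IsScalarTower Γ(X, V) Γ(P, V') Γ(M', V') := IsScalarTower.of_algebraMap_smul fun _ _ => rfl
  letI : Module Γ(T, ⊤) Γ(M', V') := Module.compHom Γ(M', V') (snd.appLE ⊤ V' le_top).hom
  haveI : IsScalarTower Γ(T, ⊤) Γ(P, V') Γ(M', V') := IsScalarTower.of_algebraMap_smul fun _ _ => rfl
  letI : Module Γ(Y, ⊤) Γ(M', V') := Module.compHom Γ(M', V') (algebraMap Γ(Y, ⊤) Γ(P, V'))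
  haveI : IsScalarTower Γ(Y, ⊤) Γ(X, V) Γ(M', V') := IsScalarTower.of_algebraMap_smul fun _ _ => rfl
  haveI : IsScalarTower Γ(Y, ⊤) Γ(T, ⊤) Γ(M', V') := IsScalarTower.of_algebraMap_smul fun r m => by
    show algebraMap Γ(T, ⊤) Γ(P, V') (algebraMap Γ(Y, ⊤) Γ(T, ⊤) r) • m = algebraMap Γ(Y, ⊤) Γ(P, V') r • m
    rw [← IsScalarTower.algebraMap_apply]
  let ψ : Γ(M, V) →ₗ[Γ(X, V)] Γ(M', V') :=
    { toFun := KFlatLib.puSecLE fst M le_rfl
      map_add' := map_add _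
      map_smul' := fun r m => by rw [KFlatLib.puSecLE_smul, RingHom.id_apply]; rfl }
  have hψ : IsBaseChange Γ(P, V') ψ :=
    KFlatLib.isBaseChange_puSec fst M hV hV' le_rfl (fun _ => rfl) ψ fun _ => rfl
  obtain ⟨Q₀, hp, hm, hQ⟩ := exists_point_of_model (A := Γ(Y, ⊤)) (A' := Γ(T, ⊤)) ψ hψ (hV'.primeIdealOf ⟨y, hx⟩)
    ((isFlatOverAt_iff snd M' ⊤ (isAffineOpen_top T) V' hV' le_top hx rfl).mp h)
  refine ⟨Q₀, hp.trans ?_, hm.trans ?_, hQ⟩
  · exact congrArg PrimeSpectrum.asIdeal (IsAffineOpen.comap_primeIdealOf_appLE V hV V' hV' (f := fst) le_rfl hx)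
  · refine (congrArg PrimeSpectrum.asIdeal (IsAffineOpen.comap_primeIdealOf_appLE ⊤ (isAffineOpen_top T) V' hV'
      (f := snd) le_top hx)).trans ?_
    exact IsLocalRing.eq_maximalIdeal (primeIdealOf_isMaximal (isAffineOpen_top T) trivial hyc)

/-- The residue field condition, read on a chart. -/
theorem sepClosedIn_residueField {X Y : Scheme.{u}} [IsAffine Y] [IsLocalRing Γ(Y, ⊤)] [IsArtinianRing Γ(Y, ⊤)]
    (f : X ⟶ Y) {V : X.Opens} (hV : IsAffineOpen V) {x : X} (hx : x ∈ V)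
    (hprim : letI := (f.residueFieldMap x).hom.toAlgebra
      ∀ a : ↑(X.residueField x), IsSeparable ↑(Y.residueField (f x)) a →
        a ∈ (f.residueFieldMap x).hom.range) :
    letI := (f.appLE ⊤ V le_top).hom.toAlgebra
    SepClosedIn (algebraMap Γ(Y, ⊤) (hV.primeIdealOf ⟨x, hx⟩).asIdeal.ResidueField) := by
  letI := (f.appLE ⊤ V le_top).hom.toAlgebra
  let p := (hV.primeIdealOf ⟨x, hx⟩).asIdeal
  letI : Algebra Γ(X, V) (X.presheaf.stalk x) := (X.presheaf.germ V x hx).hom.toAlgebra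
  haveI : IsLocalization.AtPrime (X.presheaf.stalk x) p := hV.isLocalization_stalk ⟨x, hx⟩
  letI := (f.residueFieldMap x).hom.toAlgebra
  have h0 : SepClosedIn (f.residueFieldMap x).hom := sepClosedIn_of_forall hprim
  let q := ((isAffineOpen_top Y).primeIdealOf ⟨f x, trivial⟩).asIdeal
  letI : Algebra Γ(Y, ⊤) (Y.presheaf.stalk (f x)) := (Y.presheaf.germ ⊤ (f x) trivial).hom.toAlgebra
  haveI : IsLocalization.AtPrime (Y.presheaf.stalk (f x)) q :=
    (isAffineOpen_top Y).isLocalization_stalk ⟨f x, trivial⟩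
  let π : Γ(Y, ⊤) →+* Y.residueField (f x) :=
    (Y.residue (f x)).hom.comp (algebraMap Γ(Y, ⊤) (Y.presheaf.stalk (f x)))
  have hπ : Function.Surjective π := fun z => by
    obtain ⟨z, rfl⟩ := residue_surjective z
    obtain ⟨a, s, rfl⟩ := IsLocalization.exists_mk'_eq q.primeCompl z
    have hs : IsUnit (s : Γ(Y, ⊤)) := by
      by_contra hs
      exact s.2 ((IsLocalRing.eq_maximalIdeal (inferInstance : q.IsMaximal)).ge hs)
    obtain ⟨w, hw⟩ := hs
    refine ⟨a * ↑w⁻¹, congrArg (Y.residue (f x)).hom ?_⟩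
    rw [IsLocalization.eq_mk'_iff_mul_eq, ← map_mul, mul_assoc, ← hw, Units.inv_mul, mul_one]
  let e0 : Localization.AtPrime p ≃ₐ[Γ(X, V)] X.presheaf.stalk x :=
    IsLocalization.algEquiv p.primeCompl _ _
  let e : p.ResidueField ≃+* X.residueField x := IsLocalRing.ResidueField.mapEquiv e0.toRingEquiv
  have h1 := (h0.comp_surjective hπ).comp_equiv e.symm
  have h2 : e.symm.toRingHom.comp ((f.residueFieldMap x).hom.comp π) =
      algebraMap Γ(Y, ⊤) p.ResidueField := RingHom.ext fun a => e.injective (by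
    show e (e.symm _) = e (residue _ (algebraMap Γ(Y, ⊤) (Localization.AtPrime p) a))
    rw [RingEquiv.apply_symm_apply]
    show (f.residueFieldMap x) (Y.residue (f x) (Y.presheaf.germ ⊤ (f x) trivial a)) =
      residue (X.presheaf.stalk x) (e0 (algebraMap Γ(Y, ⊤) (Localization.AtPrime p) a))
    rw [IsScalarTower.algebraMap_apply Γ(Y, ⊤) Γ(X, V) (Localization.AtPrime p), e0.commutes]
    show (Y.residue (f x) ≫ f.residueFieldMap x) (Y.presheaf.germ ⊤ (f x) trivial a) =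
      residue _ (X.presheaf.germ V x hx (f.appLE ⊤ V le_top a))
    rw [Scheme.residue_residueFieldMap]
    show residue _ (f.stalkMap x (Y.presheaf.germ ⊤ (f x) trivial a)) = _
    rw [Scheme.Hom.germ_stalkMap_apply]
    exact congrArg (residue _) (TopCat.Presheaf.germ_res_apply X.presheaf _ _ _ _).symm)
  rwa [h2] at h1

/-- Flatness at a point over an Artinian local affine base. -/
theorem isFlatOverAt_of_primary_family {X Y : Scheme.{u}} [IsAffine Y] [IsLocalRing Γ(Y, ⊤)]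
    [IsArtinianRing Γ(Y, ⊤)] (f : X ⟶ Y) [LocallyOfFiniteType f] (F : X.Modules) [Coh.IsQCoh F]
    (hF : CohB1.IsFT F) (x : X)
    (hprim : letI := (f.residueFieldMap x).hom.toAlgebra
      ∀ a : ↑(X.residueField x), IsSeparable ↑(Y.residueField (f x)) a →
        a ∈ (f.residueFieldMap x).hom.range)
    {ι : Type u} (T : ι → Scheme.{u}) [∀ i, IsAffine (T i)] [∀ i, IsLocalRing Γ(T i, ⊤)] (g : ∀ i, T i ⟶ Y)
    (hu : ∀ a : Γ(Y, ⊤), (∀ i, (g i).appLE ⊤ ⊤ le_top a = 0) → a = 0)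
    (hflat : ∀ i, ∃ y : ↥(pullback f (g i)), pullback.fst f (g i) y = x ∧
      IsClosed ({pullback.snd f (g i) y} : Set (T i)) ∧
      FlatMod.IsFlatOverAt (pullback.snd f (g i)) ((Scheme.Modules.pullback (pullback.fst f (g i))).obj F) y) :
    FlatMod.IsFlatOverAt f F x := by
  obtain ⟨V, hV, hxV⟩ := QCohLib.exists_affine_nhd x
  letI := (f.appLE ⊤ V le_top).hom.toAlgebra
  haveI : Algebra.FiniteType Γ(Y, ⊤) Γ(X, V) := f.finiteType_appLE (isAffineOpen_top Y) hV le_top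
  haveI : IsNoetherianRing Γ(X, V) := Algebra.FiniteType.isNoetherianRing Γ(Y, ⊤) _
  letI : Module Γ(Y, ⊤) Γ(F, V) := Module.compHom Γ(F, V) (f.appLE ⊤ V le_top).hom
  haveI : IsScalarTower Γ(Y, ⊤) Γ(X, V) Γ(F, V) := IsScalarTower.of_algebraMap_smul fun _ _ => rfl
  haveI := QCohLib.finite_of_isFT hF hV
  letI : ∀ i, Algebra Γ(Y, ⊤) Γ(T i, ⊤) := fun i => ((g i).appLE ⊤ ⊤ le_top).hom.toAlgebra
  rw [isFlatOverAt_iff f F ⊤ (isAffineOpen_top Y) V hV le_top hxV rfl]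
  refine mem_flatLocus_of_primary_family _ (sepClosedIn_residueField f hV hxV hprim) (fun i => Γ(T i, ⊤)) hu
    fun i => ?_
  obtain ⟨y, hy, hc, hy'⟩ := hflat i
  exact exists_flat_point f F hV (g i) hxV y hy hc hy'

end FlatLib
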