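import Groth.Agent.ConnBC.Tensor
import Groth.Agent.RichLib.FieldExtComponents
import Groth.Agent.SweepSix.TensorDomain
import Mathlib

/-! Tensor products with a field in which the base is separably closed. -/

set_option autoImplicit false
universe u

open TensorProduct

namespace FlatLib

/-- `R` is separably closed in `K` along `φ`. -/
def SepClosedIn {R K : Type u} [CommRing R] [Field K] (φ : R →+* K) : Prop :=
  ∀ (x : K) (P : Polynomial R), (P.map φ).Separable → (P.map φ).IsRoot x → x ∈ φ.range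

theorem SepClosedIn.of_comp_surjective {R S K : Type u} [CommRing R] [CommRing S] [Field K] {π : R →+* S}
    {φ : S →+* K} (hπ : Function.Surjective π) (h : SepClosedIn (φ.comp π)) : SepClosedIn φ := fun x P hs hr => by
  obtain ⟨P, rfl⟩ := Polynomial.map_surjective π hπ P
  rw [Polynomial.map_map] at hs hr
  obtain ⟨r, hr'⟩ := h x P hs hr
  exact ⟨π r, hr'⟩

theorem SepClosedIn.comp_surjective {R S K : Type u} [CommRing R] [CommRing S] [Field K] {π : R →+* S}
    {φ : S →+* K} (hπ : Function.Surjective π) (h : SepClosedIn φ) : SepClosedIn (φ.comp π) := fun x P hs hr => by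
  rw [← Polynomial.map_map] at hs hr
  obtain ⟨s, hs'⟩ := h x (P.map π) hs hr
  obtain ⟨r, rfl⟩ := hπ s
  exact ⟨r, hs'⟩

theorem SepClosedIn.comp_equiv {R K L : Type u} [CommRing R] [Field K] [Field L] {φ : R →+* K}
    (h : SepClosedIn φ) (e : K ≃+* L) : SepClosedIn (e.toRingHom.comp φ) := fun x P hs hr => by
  rw [← Polynomial.map_map] at hs hr
  rw [Polynomial.separable_map] at hs
  obtain ⟨x, rfl⟩ := e.surjective x
  obtain ⟨r, rfl⟩ := h x P hs ((Polynomial.isRoot_map_iff e.injective).mp hr)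
  exact ⟨r, rfl⟩

theorem sepClosedIn_of_forall {k K : Type u} [Field k] [Field K] [Algebra k K]
    (h : ∀ x : K, IsSeparable k x → x ∈ (algebraMap k K).range) : SepClosedIn (algebraMap k K) :=
  fun x P hs hr => by
    rw [Polynomial.separable_map] at hs
    refine h x (hs.of_dvd (minpoly.dvd k x ?_))
    rwa [Polynomial.aeval_def, ← Polynomial.eval_map]

section Algebraic

variable {k κ : Type u} [Field k] [Field κ] [Algebra k κ]

theorem isPurelyInseparable_algebraicClosure (h : SepClosedIn (algebraMap k κ)) :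
    IsPurelyInseparable k (algebraicClosure k κ) := by
  have : Algebra.IsIntegral k (algebraicClosure k κ) := (algebraicClosure.isAlgebraic k κ).isIntegral
  refine ⟨inferInstance, fun x hx => ?_⟩
  obtain ⟨a, ha⟩ := h (x : κ) (minpoly k x) (Polynomial.Separable.map hx) (by
    rw [Polynomial.IsRoot.def, Polynomial.eval_map, ← Polynomial.aeval_def]
    have := Polynomial.aeval_algHom_apply (algebraicClosure k κ).val x (minpoly k x)
    simpa using this)
  exact ⟨a, Subtype.ext ha⟩

/-- Over an algebraic extension of the base all non-units of the tensor product are nilpotent. -/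
theorem nilpotent_or_isUnit_of_integral {K R : Type u} [Field K] [CommRing R] [Algebra K R]
    [Algebra.IsIntegral K R] (h : ConnBC.TrivIdem R) (a : R) : IsNilpotent a ∨ IsUnit a := by
  obtain ⟨P, hP, hPa⟩ := Algebra.IsIntegral.isIntegral (R := K) a
  obtain ⟨q, hq, hX⟩ := Polynomial.exists_eq_pow_rootMultiplicity_mul_and_not_dvd P hP.ne_zero 0
  set n := P.rootMultiplicity 0
  rw [map_zero, sub_zero] at hq hX
  have hc : q.coeff 0 ≠ 0 := fun hc => hX (Polynomial.X_dvd_iff.mpr hc)
  have hmain : a ^ n * Polynomial.aeval a q = 0 := by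
    have : Polynomial.aeval a P = 0 := hPa
    rw [hq, map_mul, map_pow, Polynomial.aeval_X] at this
    exact this
  rw [← Polynomial.X_mul_divX_add q, map_add, map_mul, Polynomial.aeval_X, Polynomial.aeval_C] at hmain
  set g := Polynomial.aeval a q.divX
  let v : R := algebraMap K R (q.coeff 0)⁻¹
  have hv : algebraMap K R (q.coeff 0) * v = 1 := by rw [← map_mul, mul_inv_cancel₀ hc, map_one]
  let b : R := -(g * v)
  have hab : a ^ n = a ^ n * (a * b) := by
    linear_combination v * hmain - a ^ n * hv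
  have hpow : ∀ m : ℕ, a ^ n = a ^ n * (a * b) ^ m := fun m => by
    induction m with
    | zero => rw [pow_zero, mul_one]
    | succ m ih => rw [pow_succ, ← mul_assoc, ← ih, ← hab]
  have he : IsIdempotentElem ((a * b) ^ n) := by
    show (a * b) ^ n * (a * b) ^ n = (a * b) ^ n
    calc (a * b) ^ n * (a * b) ^ n = a ^ n * (a * b) ^ n * b ^ n := by rw [mul_pow]; ring
      _ = a ^ n * b ^ n := by rw [← hpow n]
      _ = (a * b) ^ n := (mul_pow a b n).symm
  rcases h _ he with h0 | h1
  · exact Or.inl ⟨n, by rw [hpow n, h0, mul_zero]⟩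
  · rcases Nat.eq_zero_or_pos n with hn | hn
    · refine Or.inr ?_
      rw [hn, pow_zero, one_mul] at hab
      exact IsUnit.of_mul_eq_one b hab.symm
    · exact Or.inr (isUnit_of_mul_isUnit_left ((isUnit_pow_iff hn.ne').mp (h1 ▸ isUnit_one)))

/-- The tensor product with an algebraic closure has only trivial idempotents modulo nilpotents. -/
theorem isPrime_nilradical_tensor_algebraicClosure (h : SepClosedIn (algebraMap k κ)) :
    (nilradical (AlgebraicClosure k ⊗[k] κ)).IsPrime := by
  let Ω := AlgebraicClosure k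
  let E := algebraicClosure k κ
  have : Algebra.IsAlgebraic k E := algebraicClosure.isAlgebraic k κ
  have : IsPurelyInseparable k E := isPurelyInseparable_algebraicClosure h
  let ι : E →ₐ[k] Ω := IsAlgClosed.lift
  letI : Algebra E Ω := ι.toRingHom.toAlgebra
  have : IsScalarTower k E Ω := IsScalarTower.of_algebraMap_eq fun x => (ι.commutes x).symm
  have hbot : algebraicClosure E κ = ⊥ := eq_bot_iff.mpr fun x hx => by
    have hx' : IsAlgebraic E x := mem_algebraicClosure_iff.mp hx
    have : x ∈ algebraicClosure k κ := mem_algebraicClosure_iff.mpr (hx'.restrictScalars k)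
    exact IntermediateField.mem_bot.mpr ⟨⟨x, this⟩, rfl⟩
  have hT : ConnBC.TrivIdem (Ω ⊗[E] κ) := ConnBC.TrivIdem.of_injective
    (Algebra.TensorProduct.comm E Ω κ).toAlgHom.toRingHom (AlgEquiv.injective _)
    (ConnBC.trivIdem_tensor hbot Ω)
  let ρ : Ω ⊗[k] κ →ₐ[k] Ω ⊗[E] κ :=
    Algebra.TensorProduct.lift ((Algebra.TensorProduct.includeLeft (S := E)).restrictScalars k)
      ((Algebra.TensorProduct.includeRight (R := E)).restrictScalars k) fun _ _ => Commute.all _ _
  have : Algebra.IsIntegral κ (κ ⊗[E] Ω) := by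
    have : Algebra.IsIntegral E Ω := ⟨fun x => ((Algebra.IsIntegral.isIntegral (R := k) x).tower_top)⟩
    exact Algebra.IsIntegral.tensorProduct E κ Ω
  have hnu : ∀ a : Ω ⊗[E] κ, IsNilpotent a ∨ IsUnit a := fun a => by
    have hT' : ConnBC.TrivIdem (κ ⊗[E] Ω) := ConnBC.trivIdem_tensor hbot Ω
    rcases nilpotent_or_isUnit_of_integral (K := κ) hT' (Algebra.TensorProduct.comm E Ω κ a) with h1 | h1
    · left
      have := h1.map (Algebra.TensorProduct.comm E Ω κ).symm
      rwa [AlgEquiv.symm_apply_apply] at this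
    · right
      have := h1.map (Algebra.TensorProduct.comm E Ω κ).symm
      rwa [AlgEquiv.symm_apply_apply] at this
  have : Nontrivial (Ω ⊗[E] κ) := Algebra.TensorProduct.nontrivial_of_algebraMap_injective_of_flat_left
    (R := E) (A := Ω) (B := κ) (algebraMap E κ).injective
  have hkey : ∀ (L : Type u) [Field L] [Algebra k L] (φ : Ω ⊗[k] κ →ₐ[k] L) (z : Ω ⊗[k] κ),
      IsNilpotent (ρ z) → φ z = 0 := by
    intro L _ _ φ z hz
    let α : Ω →ₐ[k] L := φ.comp Algebra.TensorProduct.includeLeft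
    let β : κ →ₐ[k] L := φ.comp Algebra.TensorProduct.includeRight
    have hαβ : ∀ e : E, α (algebraMap E Ω e) = β (e : κ) := fun e => by
      obtain ⟨q, hq⟩ := ExpChar.exists k
      have : ExpChar L q := expChar_of_injective_algebraMap (algebraMap k L).injective q
      obtain ⟨m, c, hc⟩ := IsPurelyInseparable.pow_mem k q e
      refine (iterateFrobenius_inj L q m) ?_
      simp only [iterateFrobenius_def]
      rw [← map_pow, ← map_pow, ← map_pow, ← hc, ← IsScalarTower.algebraMap_apply, α.commutes,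
        show ((e : κ)) ^ q ^ m = algebraMap k κ c by rw [← SubmonoidClass.coe_pow, ← hc]; rfl, β.commutes]
    letI : Algebra E L := (α.toRingHom.comp (algebraMap E Ω)).toAlgebra
    let α' : Ω →ₐ[E] L := { α.toRingHom with commutes' := fun _ => rfl }
    let β' : κ →ₐ[E] L := { β.toRingHom with commutes' := fun e => (hαβ e).symm }
    let ψ : Ω ⊗[E] κ →ₐ[E] L := Algebra.TensorProduct.lift α' β' fun _ _ => Commute.all _ _
    have hψ : ∀ w, ψ (ρ w) = φ w := fun w => by
      induction w using TensorProduct.induction_on with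
      | zero => simp
      | add a b ha hb => simp only [map_add, ha, hb]
      | tmul a b =>
        have h1 : ρ (a ⊗ₜ b) = a ⊗ₜ[E] b := by simp [ρ]
        refine (congrArg ψ h1).trans ((Algebra.TensorProduct.lift_tmul _ _ _ _ _).trans ?_)
        show φ (a ⊗ₜ 1) * φ (1 ⊗ₜ b) = _
        rw [← map_mul, Algebra.TensorProduct.tmul_mul_tmul, mul_one, one_mul]
    rw [← hψ]
    exact (hz.map ψ).eq_zero
  have hmem : ∀ (P : Ideal (Ω ⊗[k] κ)) [P.IsPrime] (z : Ω ⊗[k] κ), IsNilpotent (ρ z) → z ∈ P := by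
    intro P _ z hz
    let φ : Ω ⊗[k] κ →ₐ[k] FractionRing ((Ω ⊗[k] κ) ⧸ P) :=
      (IsScalarTower.toAlgHom k _ _).comp (Ideal.Quotient.mkₐ k P)
    have h0 : algebraMap _ (FractionRing ((Ω ⊗[k] κ) ⧸ P)) (Ideal.Quotient.mk P z) = 0 := hkey _ φ z hz
    rwa [map_eq_zero_iff _ (IsFractionRing.injective _ _), Ideal.Quotient.eq_zero_iff_mem] at h0
  have hiff : ∀ z, z ∈ nilradical (Ω ⊗[k] κ) ↔ IsNilpotent (ρ z) := fun z =>
    ⟨fun hz => (mem_nilradical.mp hz).map ρ, fun hz => by
      rw [nilradical_eq_sInf, Submodule.mem_sInf]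
      intro P (hP : Ideal.IsPrime P)
      haveI := hP
      exact hmem P z hz⟩
  refine ⟨fun htop => ?_, fun {x y} hxy => ?_⟩
  · have h1 := (hiff 1).mp (htop ▸ Submodule.mem_top)
    rw [map_one] at h1
    exact not_isNilpotent_one h1
  · rw [hiff, map_mul] at hxy
    rw [hiff, hiff]
    rcases hnu (ρ x) with h1 | h1
    · exact Or.inl h1
    · obtain ⟨u, hu⟩ := h1
      refine Or.inr ?_
      have h2 := (nilradical (Ω ⊗[E] κ)).mul_mem_left (↑u⁻¹ : Ω ⊗[E] κ) (mem_nilradical.mpr hxy)
      rw [← hu, ← mul_assoc, Units.inv_mul, one_mul] at h2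
      exact mem_nilradical.mp h2

/-- `k' ⊗ κ` has one minimal prime. -/
theorem isPrime_nilradical_tensor (h : SepClosedIn (algebraMap k κ)) (k' : Type u) [Field k'] [Algebra k k'] :
    (nilradical (k' ⊗[k] κ)).IsPrime := by
  let Ω := AlgebraicClosure k
  let K := AlgebraicClosure k'
  let ι : Ω →ₐ[k] K := IsAlgClosed.lift
  letI : Algebra Ω K := ι.toRingHom.toAlgebra
  have : IsScalarTower k Ω K := IsScalarTower.of_algebraMap_eq fun x => (ι.commutes x).symm
  have hN := isPrime_nilradical_tensor_algebraicClosure h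
  let Φ := (Ω ⊗[k] κ) ⧸ nilradical (Ω ⊗[k] κ)
  have : IsDomain (K ⊗[Ω] Φ) := SweepSix.isDomain_tensor K Φ
  let j : K ⊗[Ω] (Ω ⊗[k] κ) →ₐ[Ω] K ⊗[Ω] Φ :=
    Algebra.TensorProduct.map (AlgHom.id Ω K) (Ideal.Quotient.mkₐ Ω _)
  have hker : ∀ w, j w = 0 → IsNilpotent w := fun w hw => by
    have h1 : w ∈ RingHom.ker j := hw
    rw [Algebra.TensorProduct.lTensor_ker _ (Ideal.Quotient.mkₐ_surjective Ω _)] at h1
    have hle : (RingHom.ker (Ideal.Quotient.mkₐ Ω (nilradical (Ω ⊗[k] κ)))).map
        Algebra.TensorProduct.includeRight ≤ nilradical (K ⊗[Ω] (Ω ⊗[k] κ)) :=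
      Ideal.map_le_iff_le_comap.mpr fun z hz => by
        have hz' : z ∈ nilradical (Ω ⊗[k] κ) := Ideal.Quotient.eq_zero_iff_mem.mp hz
        exact mem_nilradical.mpr ((mem_nilradical.mp hz').map _)
    exact mem_nilradical.mp (hle h1)
  let g : k' ⊗[k] κ →ₐ[k] K ⊗[k] κ := Algebra.TensorProduct.map (IsScalarTower.toAlgHom k k' K) (AlgHom.id k κ)
  have hg : Function.Injective g := Module.Flat.rTensor_preserves_injective_linearMap (M := κ)
    (IsScalarTower.toAlgHom k k' K).toLinearMap (algebraMap k' K).injective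
  let e := (Algebra.TensorProduct.cancelBaseChange k Ω Ω K κ).symm
  let τ : k' ⊗[k] κ →+* K ⊗[Ω] Φ := j.toRingHom.comp (e.toRingHom.comp g.toRingHom)
  have hiff : ∀ z, z ∈ nilradical (k' ⊗[k] κ) ↔ τ z = 0 := fun z => by
    refine ⟨fun hz => ((mem_nilradical.mp hz).map τ).eq_zero, fun hz => mem_nilradical.mpr ?_⟩
    have h1 : IsNilpotent (e (g z)) := hker _ hz
    exact (IsNilpotent.map_iff (f := g) hg).mp ((IsNilpotent.map_iff (f := e) e.injective).mp h1)
  have e1 : nilradical (k' ⊗[k] κ) = RingHom.ker τ := Ideal.ext fun z => hiff z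
  rw [e1]
  exact RingHom.ker_isPrime τ

end Algebraic

/-- In an integral torsion-free algebra over a domain with one minimal prime the non-nilpotent elements
are regular. -/
theorem eq_zero_of_mul_of_integral {D R : Type u} [CommRing D] [IsDomain D] [CommRing R] [Algebra D R]
    [Algebra.IsIntegral D R] [Module.Free D R] (hP : (nilradical R).IsPrime) {z w : R}
    (hz : ¬ IsNilpotent z) (hzw : z * w = 0) : w = 0 := by
  classical
  have hex : ∃ n, ∃ P : Polynomial D, P.Monic ∧ P.natDegree = n ∧ Polynomial.aeval z P ∈ nilradical R := by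
    obtain ⟨P, hP1, hP2⟩ := Algebra.IsIntegral.isIntegral (R := D) z
    exact ⟨_, P, hP1, rfl, by
      rw [show Polynomial.aeval z P = 0 from hP2]; exact zero_mem _⟩
  obtain ⟨P, hmon, hdeg, hmem⟩ := Nat.find_spec hex
  have hc : P.coeff 0 ≠ 0 := fun hc => by
    obtain ⟨Q, rfl⟩ := Polynomial.X_dvd_iff.mpr hc
    have hQ : Q.Monic := Polynomial.monic_X.of_mul_monic_left hmon
    have hQd : Q.natDegree < Nat.find hex := by
      rw [← hdeg, Polynomial.monic_X.natDegree_mul hQ, Polynomial.natDegree_X]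
      omega
    refine Nat.find_min hex hQd ⟨Q, hQ, rfl, ?_⟩
    rw [map_mul, Polynomial.aeval_X] at hmem
    exact (hP.mem_or_mem hmem).resolve_left fun h => hz (mem_nilradical.mp h)
  obtain ⟨m, hm⟩ := mem_nilradical.mp hmem
  have h1 : P.coeff 0 • w = Polynomial.aeval z P * w := by
    rw [Algebra.smul_def]
    conv_rhs => rw [← Polynomial.X_mul_divX_add P, map_add, map_mul, Polynomial.aeval_X, Polynomial.aeval_C,
      add_mul, mul_right_comm, hzw, zero_mul, zero_add]
  have h2 : ∀ j : ℕ, (P.coeff 0) ^ j • w = Polynomial.aeval z P ^ j * w := fun j => by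
    induction j with
    | zero => simp
    | succ j ih => rw [pow_succ', mul_smul, ih, ← mul_smul_comm, h1, ← mul_assoc, ← pow_succ]
  have h3 := h2 m
  rw [hm, zero_mul] at h3
  exact (smul_eq_zero.mp h3).resolve_left (pow_ne_zero _ hc)

/-- Non-nilpotent elements of `k' ⊗ κ` are regular, given an intermediate field. -/
theorem eq_zero_of_mul_tensor_aux {k L κ : Type u} [Field k] [Field L] [Field κ] [Algebra k κ] [Algebra k L]
    [Algebra L κ] [IsScalarTower k L κ] [Algebra.IsIntegral L κ]
    (k' : Type u) [Field k'] [Algebra k k'] [IsDomain (L ⊗[k] k')] (hN : (nilradical (k' ⊗[k] κ)).IsPrime)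
    {z w : k' ⊗[k] κ} (hz : ¬ IsNilpotent z) (hzw : z * w = 0) : w = 0 := by
  let e : (L ⊗[k] k') ⊗[L] κ ≃+* k' ⊗[k] κ :=
    (Algebra.TensorProduct.comm L (L ⊗[k] k') κ).toRingEquiv.trans
      ((Algebra.TensorProduct.cancelBaseChange k L κ κ k').toRingEquiv.trans
        (Algebra.TensorProduct.comm k κ k').toRingEquiv)
  have hP : (nilradical ((L ⊗[k] k') ⊗[L] κ)).IsPrime := by
    have : nilradical ((L ⊗[k] k') ⊗[L] κ) = (nilradical (k' ⊗[k] κ)).comap e.toRingHom := Ideal.ext fun x => by
      rw [Ideal.mem_comap, mem_nilradical, mem_nilradical]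
      exact (IsNilpotent.map_iff (f := e.toRingHom) e.injective).symm
    rw [this]
    exact Ideal.IsPrime.comap _
  have hz' : ¬ IsNilpotent (e.symm z) := fun hn => hz (by
    have := hn.map e
    rwa [RingEquiv.apply_symm_apply] at this)
  have h0 := eq_zero_of_mul_of_integral (D := L ⊗[k] k') hP hz' (w := e.symm w)
    (by rw [← map_mul, hzw, map_zero])
  exact (map_eq_zero_iff e.symm e.symm.injective).mp h0

/-- Non-nilpotent elements of `k' ⊗ κ` are regular. -/
theorem eq_zero_of_mul_tensor {k κ : Type u} [Field k] [Field κ] [Algebra k κ]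
    (h : SepClosedIn (algebraMap k κ)) (k' : Type u) [Field k'] [Algebra k k'] {z w : k' ⊗[k] κ}
    (hz : ¬ IsNilpotent z) (hzw : z * w = 0) : w = 0 := by
  obtain ⟨s, hs⟩ := exists_isTranscendenceBasis k κ
  let L := IntermediateField.adjoin k (Set.range ((↑) : s → κ))
  have : Algebra.IsAlgebraic L κ := hs.isAlgebraic_field
  have : Algebra.IsIntegral L κ := Algebra.IsAlgebraic.isIntegral
  have : IsDomain (L ⊗[k] k') := by
    let F := FractionRing (MvPolynomial s k)
    have : IsDomain (F ⊗[k] k') := RichLib.FieldExtComp.isDomain_tensor_fractionRing k k' F s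
    let e3 : F ≃ₐ[k] L := hs.1.aevalEquivField
    exact MulEquiv.isDomain (F ⊗[k] k')
      (Algebra.TensorProduct.congr e3.symm (AlgEquiv.refl : k' ≃ₐ[k] k')).toRingEquiv.toMulEquiv
  exact eq_zero_of_mul_tensor_aux (L := L) k' (isPrime_nilradical_tensor h k') hz hzw

end FlatLib
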