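import Groth.Agent.FlatLib.Slicing
import Groth.Agent.FlatLib.SchemeFlat
import Groth.Agent.FlatLib.QFCover
import Mathlib

/-! Slicing a flat morphism of schemes by a fibrewise regular element. -/

set_option autoImplicit false
universe u

open AlgebraicGeometry CategoryTheory

namespace FlatLib

theorem exists_basicOpen_slice {R B : Type u} [CommRing R] [CommRing B] [Algebra R B]
    [Algebra.FinitePresentation R B] (q : PrimeSpectrum B) (b : B) (hb : b ∈ q.asIdeal)
    (hflat : q ∈ flatLocus R B B)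
    (hreg : ∀ m : B, (∃ t ∉ q.asIdeal, t * (b * m) ∈ (q.asIdeal.comap (algebraMap R B)).map (algebraMap R B)) →
      ∃ t ∉ q.asIdeal, t * m ∈ (q.asIdeal.comap (algebraMap R B)).map (algebraMap R B)) :
    ∃ g ∉ q.asIdeal, ∀ (L : Type u) [CommRing L] [Algebra B L] [IsLocalization.Away g L] [Algebra R L]
      [IsScalarTower R B L],
      algebraMap B L b ∈ nonZeroDivisors L ∧ Module.Flat R (L ⧸ Ideal.span {algebraMap B L b}) := by
  obtain ⟨U, hUo, hqU, hU⟩ := slice_point (M := B) q b hb hflat (by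
    intro m hm
    simp only [smul_eq_mul, Ideal.mul_top] at hm ⊢
    exact hreg m hm)
  obtain ⟨_, ⟨g, rfl⟩, hqg, hgU⟩ := PrimeSpectrum.isTopologicalBasis_basic_opens.exists_subset_of_mem_open hqU hUo
  refine ⟨g, hqg, fun L _ _ _ _ _ ↦ ⟨?_, ?_⟩⟩
  · refine mem_nonZeroDivisors_iff_right.mpr fun l hl ↦ ?_
    obtain ⟨m, s, rfl⟩ := IsLocalization.exists_mk'_eq (Submonoid.powers g) l
    rw [IsLocalization.mk'_eq_mul_mk'_one, mul_right_comm] at hl
    have hu : IsUnit (IsLocalization.mk' L (1 : B) s) :=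
      IsUnit.of_mul_eq_one _ ((IsLocalization.mk'_spec L (1 : B) s).trans (map_one _))
    rw [hu.mul_left_eq_zero, ← map_mul, IsLocalization.map_eq_zero_iff (Submonoid.powers g)] at hl
    obtain ⟨s', hs'⟩ := hl
    have hann : g ∈ (Ideal.torsionOf B B ((s' : B) * m)).radical := by
      rw [Ideal.radical_eq_sInf, Ideal.mem_sInf]
      rintro Q ⟨hIQ, hQ⟩
      by_contra hgQ
      obtain ⟨t, ht, htm⟩ := (hU ⟨Q, hQ⟩ (hgU hgQ)).1 ((s' : B) * m) (by
        rw [smul_eq_mul, ← hs']; ring)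
      exact ht (hIQ htm)
    obtain ⟨n, hn⟩ := hann
    rw [IsLocalization.mk'_eq_zero_iff]
    exact ⟨⟨g ^ n, n, rfl⟩ * s', by
      rw [Submonoid.coe_mul, mul_assoc]
      exact hn⟩
  · let J : Ideal B := Ideal.span {b}
    let C := B ⧸ J
    let gC : C := Ideal.Quotient.mk J g
    haveI : Module.Flat R (Localization.Away gC) := flat_away_of_basicOpen gC fun Q hQ ↦ by
      let Q' := PrimeSpectrum.comap (Ideal.Quotient.mk J) Q
      have h1 : Q' ∈ flatLocus R B (B ⧸ (Ideal.span {b} • (⊤ : Submodule B B))) := (hU Q' (hgU hQ)).2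
      have e : (B ⧸ (Ideal.span {b} • (⊤ : Submodule B B))) ≃ₗ[B] C :=
        Submodule.quotEquivOfEq _ _ (by rw [Ideal.smul_eq_mul, Ideal.mul_top])
      have h2 : Q' ∈ flatLocus R B C :=
        flat_of_le Q'.asIdeal.primeCompl (LocalizedModule.mkLinearMap _ _) Q'.asIdeal.primeCompl
          ((LocalizedModule.mkLinearMap Q'.asIdeal.primeCompl C) ∘ₗ e.toLinearMap) le_rfl h1
      refine (flat_localized_iff Q.asIdeal.primeCompl (LocalizedModule.mkLinearMap _ _)).mpr fun P _ _ N x hx ↦ ?_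
      obtain ⟨t, ht, htx⟩ :=
        (flat_localized_iff Q'.asIdeal.primeCompl (LocalizedModule.mkLinearMap _ _)).mp h2 P N x hx
      refine ⟨Ideal.Quotient.mk J t, ht, ?_⟩
      rw [← htx]
      exact algebraMap_smul C t x
    haveI h3 : IsLocalization (Algebra.algebraMapSubmonoid C (Submonoid.powers g))
        (L ⧸ J.map (algebraMap B L)) := inferInstance
    haveI : IsLocalization.Away gC (L ⧸ J.map (algebraMap B L)) := by
      show IsLocalization (Submonoid.powers gC) _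
      rwa [show Algebra.algebraMapSubmonoid C (Submonoid.powers g) = Submonoid.powers gC from
        Submonoid.map_powers _ g] at h3
    haveI : IsScalarTower R C (L ⧸ J.map (algebraMap B L)) := IsScalarTower.of_algebraMap_eq fun r ↦ by
      show Ideal.Quotient.mk _ (algebraMap R L r) = Ideal.Quotient.mk _ (algebraMap B L (algebraMap R B r))
      rw [IsScalarTower.algebraMap_apply R B L]
    have heq : J.map (algebraMap B L) = Ideal.span {algebraMap B L b} := by
      rw [Ideal.map_span, Set.image_singleton]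
    haveI : Module.Flat R (L ⧸ J.map (algebraMap B L)) := Module.Flat.of_linearEquiv
      ((IsLocalization.algEquiv (Submonoid.powers gC) (L ⧸ J.map (algebraMap B L))
        (Localization.Away gC)).restrictScalars R).toLinearEquiv
    exact Module.Flat.of_linearEquiv (Ideal.quotientEquivAlgOfEq R heq).toLinearEquiv.symm

/-- EGA IV 11.3.8: slicing a flat morphism by a fibrewise nonzerodivisor. -/
theorem exists_affine_slice {X S : Scheme.{u}} (f : X ⟶ S) [LocallyOfFinitePresentation f] (x : X)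
    (hflat : (f.stalkMap x).hom.Flat) (h : X.presheaf.stalk x)
    (hm : h ∈ IsLocalRing.maximalIdeal (X.presheaf.stalk x))
    (hreg : Ideal.Quotient.mk (Ideal.map (f.stalkMap x).hom (IsLocalRing.maximalIdeal (S.presheaf.stalk (f x)))) h ∈
      nonZeroDivisors (X.presheaf.stalk x ⧸ Ideal.map (f.stalkMap x).hom (IsLocalRing.maximalIdeal (S.presheaf.stalk (f x))))) :
    ∃ (U : X.Opens) (hU : IsAffineOpen U) (hx : x ∈ U) (h' : Γ(X, U)), X.presheaf.germ U x hx h' = h ∧
      h' ∈ nonZeroDivisors Γ(X, U) ∧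
      Flat (Spec.map (CommRingCat.ofHom (Ideal.Quotient.mk (Ideal.span {h'}))) ≫ hU.fromSpec ≫ f) ∧
      LocallyOfFinitePresentation
        (Spec.map (CommRingCat.ofHom (Ideal.Quotient.mk (Ideal.span {h'}))) ≫ hU.fromSpec ≫ f) := by
  obtain ⟨W, hxW, sW, hsW⟩ := X.presheaf.exists_germ_eq h
  obtain ⟨_, ⟨U₀, hU₀, rfl⟩, hxU₀, -⟩ :=
    S.isBasis_affineOpens.exists_subset_of_mem_open (Set.mem_univ (f x)) isOpen_univ
  obtain ⟨_, ⟨V, hV, rfl⟩, hxV, hVsub⟩ := X.isBasis_affineOpens.exists_subset_of_mem_open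
    (show x ∈ ((f ⁻¹ᵁ U₀) ⊓ W : X.Opens) from ⟨hxU₀, hxW⟩) ((f ⁻¹ᵁ U₀) ⊓ W).2
  have hVU : V ≤ f ⁻¹ᵁ U₀ := fun z hz ↦ (hVsub hz).1
  have hVW : V ≤ W := fun z hz ↦ (hVsub hz).2
  let b : Γ(X, V) := X.presheaf.map (homOfLE hVW).op sW
  have hb : X.presheaf.germ V x hxV b = h := by
    rw [← hsW]
    exact X.presheaf.germ_res_apply _ _ _ _
  have hfp := f.finitePresentation_appLE hU₀ hV hVU
  algebraize [(f.appLE U₀ V hVU).hom]
  let q := hV.primeIdealOf ⟨x, hxV⟩
  let p := q.asIdeal.comap (algebraMap Γ(S, U₀) Γ(X, V))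
  let pS := hU₀.primeIdealOf ⟨f x, hVU hxV⟩
  have hpp : pS.asIdeal = p :=
    congrArg PrimeSpectrum.asIdeal (IsAffineOpen.comap_primeIdealOf_appLE U₀ hU₀ V hV hVU hxV).symm
  letI := X.presheaf.algebra_section_stalk ⟨x, hxV⟩
  haveI : IsLocalization.AtPrime (X.presheaf.stalk x) q.asIdeal := hV.isLocalization_stalk ⟨x, hxV⟩
  letI := S.presheaf.algebra_section_stalk ⟨f x, hVU hxV⟩
  haveI : IsLocalization.AtPrime (S.presheaf.stalk (f x)) pS.asIdeal := hU₀.isLocalization_stalk ⟨f x, hVU hxV⟩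
  have hcomm : ∀ r : Γ(S, U₀), (f.stalkMap x).hom (algebraMap Γ(S, U₀) (S.presheaf.stalk (f x)) r) =
      algebraMap Γ(X, V) (X.presheaf.stalk x) (algebraMap Γ(S, U₀) Γ(X, V) r) := fun r ↦ by
    show (S.presheaf.germ U₀ (f x) (hVU hxV) ≫ f.stalkMap x) r = (f.appLE U₀ V hVU ≫ X.presheaf.germ V x hxV) r
    rw [Scheme.Hom.germ_stalkMap, Scheme.Hom.appLE, Category.assoc, X.presheaf.germ_res]
  have hI : Ideal.map (f.stalkMap x).hom (IsLocalRing.maximalIdeal (S.presheaf.stalk (f x))) =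
      (p.map (algebraMap Γ(S, U₀) Γ(X, V))).map (algebraMap Γ(X, V) (X.presheaf.stalk x)) := by
    rw [← IsLocalization.AtPrime.map_eq_maximalIdeal pS.asIdeal (S.presheaf.stalk (f x)), Ideal.map_map,
      Ideal.map_map, hpp]
    exact congrArg (fun φ : Γ(S, U₀) →+* X.presheaf.stalk x ↦ p.map φ) (RingHom.ext hcomm)
  have hbq : b ∈ q.asIdeal := by
    rw [← IsLocalization.AtPrime.to_map_mem_maximal_iff (X.presheaf.stalk x) q.asIdeal]
    show X.presheaf.germ V x hxV b ∈ IsLocalRing.maximalIdeal _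
    rw [hb]
    exact hm
  obtain ⟨g, hgq, hg⟩ := exists_basicOpen_slice q b hbq ((flat_stalkMap_iff U₀ hU₀ V hV hVU hxV).mp hflat) (by
    rintro m ⟨t, ht, htm⟩
    have h1 := Ideal.mem_map_of_mem (algebraMap Γ(X, V) (X.presheaf.stalk x)) htm
    rw [← hI, map_mul, Ideal.unit_mul_mem_iff_mem _ (IsLocalization.map_units (X.presheaf.stalk x) (⟨t, ht⟩ : q.asIdeal.primeCompl)),
      map_mul, ← Ideal.Quotient.eq_zero_iff_mem, map_mul] at h1
    rw [show algebraMap Γ(X, V) (X.presheaf.stalk x) b = h from hb] at h1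
    have h2 := (mem_nonZeroDivisors_iff_left.mp hreg) _ h1
    rw [Ideal.Quotient.eq_zero_iff_mem, hI,
      IsLocalization.algebraMap_mem_map_algebraMap_iff q.asIdeal.primeCompl] at h2
    exact h2)
  have hxg : x ∈ X.basicOpen g := by
    rw [Scheme.mem_basicOpen X g x hxV]
    exact IsLocalization.map_units (X.presheaf.stalk x) (⟨g, hgq⟩ : q.asIdeal.primeCompl)
  let U := X.basicOpen g
  have hU : IsAffineOpen U := hV.basicOpen g
  have hUV : U ≤ V := X.basicOpen_le g
  let φ : Γ(X, V) ⟶ Γ(X, U) := X.presheaf.map (homOfLE hUV).op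
  letI : Algebra Γ(X, V) Γ(X, U) := φ.hom.toAlgebra
  haveI : IsLocalization.Away g Γ(X, U) := hV.isLocalization_basicOpen g
  letI : Algebra Γ(S, U₀) Γ(X, U) := (f.appLE U₀ U (hUV.trans hVU)).hom.toAlgebra
  haveI : IsScalarTower Γ(S, U₀) Γ(X, V) Γ(X, U) := IsScalarTower.of_algebraMap_eq fun r ↦ by
    show f.appLE U₀ U (hUV.trans hVU) r = (f.appLE U₀ V hVU ≫ φ) r
    rw [Scheme.Hom.appLE_map]
  obtain ⟨hnzd, hfl⟩ := hg Γ(X, U)
  let h' : Γ(X, U) := φ b
  have hh' : X.presheaf.germ U x hxg h' = h := by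
    rw [← hb]
    exact X.presheaf.germ_res_apply _ _ _ _
  refine ⟨U, hU, hxg, h', hh', hnzd, ?_, ?_⟩
  · rw [← IsAffineOpen.SpecMap_appLE_fromSpec f hU₀ hU (hUV.trans hVU), ← Category.assoc, ← Spec.map_comp]
    haveI : Flat (Spec.map (f.appLE U₀ U (hUV.trans hVU) ≫ CommRingCat.ofHom (Ideal.Quotient.mk (Ideal.span {h'})))) := by
      rw [HasRingHomProperty.Spec_iff (P := @Flat)]
      exact RingHom.flat_algebraMap_iff.mpr hfl
    infer_instance
  · rw [← IsAffineOpen.SpecMap_appLE_fromSpec f hU₀ hU (hUV.trans hVU), ← Category.assoc, ← Spec.map_comp]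
    haveI : LocallyOfFinitePresentation
        (Spec.map (f.appLE U₀ U (hUV.trans hVU) ≫ CommRingCat.ofHom (Ideal.Quotient.mk (Ideal.span {h'})))) := by
      rw [HasRingHomProperty.Spec_iff (P := @LocallyOfFinitePresentation)]
      refine RingHom.FinitePresentation.comp ?_ (f.finitePresentation_appLE hU₀ hU (hUV.trans hVU))
      exact RingHom.FinitePresentation.of_surjective _ Ideal.Quotient.mk_surjective
        (by show (RingHom.ker (Ideal.Quotient.mk (Ideal.span {h'}))).FG; rw [Ideal.mk_ker]; exact Submodule.fg_span_singleton _)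
    infer_instance

end FlatLib
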