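import Mathlib

/-! Locality on the source for precoverages by `Q`-morphisms. -/

set_option autoImplicit false
universe u

open CategoryTheory CategoryTheory.Limits AlgebraicGeometry

namespace FlatLib

theorem isLocalAtSource_precoverage (P Q : MorphismProperty Scheme.{u}) [IsZariskiLocalAtSource P] [IsZariskiLocalAtSource Q]
    (hcomp : ∀ {X' X Y : Scheme.{u}} (g : X' ⟶ X) (f : X ⟶ Y), Q g → P f → P (g ≫ f))
    (hd : ∀ {X' X Y : Scheme.{u}} (g : X' ⟶ X) (f : X ⟶ Y), Q g → Surjective g → P (g ≫ f) → P f) :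
    P.IsLocalAtSource (Scheme.precoverage Q) where
  __ : P.RespectsIso := inferInstance
  comp hR U g hg hf := hcomp g _ (hR.2 hg) hf
  of_forall_comp {X Y f R} hR h := by
    have hx : ∀ x : X, ∃ (U : Scheme.{u}) (g : U ⟶ X), R g ∧ x ∈ Set.range g := fun x => by
      have h1 := hR.1
      rw [Precoverage.mem_comap_iff, Types.mem_jointlySurjectivePrecoverage_iff] at h1
      obtain ⟨Z, g, ⟨hg⟩, y, hy⟩ := h1 x
      exact ⟨_, _, hg, y, hy⟩
    choose U g hg hy using hx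
    refine hd (Sigma.desc g) f (IsZariskiLocalAtSource.sigmaDesc fun i => hR.2 (hg i)) ⟨fun x => ?_⟩ ?_
    · obtain ⟨y, hxy⟩ := hy x
      exact ⟨Sigma.ι U x y, by rw [← Scheme.Hom.comp_apply, Sigma.ι_desc]; exact hxy⟩
    · have : Sigma.desc g ≫ f = Sigma.desc fun i => g i ≫ f := Sigma.hom_ext _ _ fun i => by
        rw [Sigma.ι_desc_assoc, Sigma.ι_desc]
      rw [this]
      exact IsZariskiLocalAtSource.sigmaDesc fun i => h (hg i)

/-- The largest open on which a source-local property holds. -/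
theorem exists_largest_open (P Q : MorphismProperty Scheme.{u}) [P.IsLocalAtSource (Scheme.precoverage Q)]
    (hQ : ∀ {U X : Scheme.{u}} (j : U ⟶ X), IsOpenImmersion j → Q j) [Q.IsStableUnderComposition]
    (hQres : ∀ {X' X : Scheme.{u}} (g : X' ⟶ X) (U : X.Opens), Q g → Q (g ∣_ U))
    (hopen : ∀ {X' X : Scheme.{u}} (g : X' ⟶ X), Q g → IsOpenMap g)
    {X Y : Scheme.{u}} (f : X ⟶ Y) :
    ∃ W : X.Opens, (P (W.ι ≫ f) ∧ ∀ W' : X.Opens, P (W'.ι ≫ f) → W' ≤ W) ∧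
      ∀ (X' : Scheme.{u}) (g : X' ⟶ X), Q g → ∀ (V : X'.Opens),
        (P (V.ι ≫ g ≫ f) ∧ ∀ V' : X'.Opens, P (V'.ι ≫ g ≫ f) → V' ≤ V) → V = g ⁻¹ᵁ W := by
  have hsub : ∀ {Z : Scheme.{u}} (k : Z ⟶ Y) {U : Scheme.{u}} (j : U ⟶ Z), Q j → P k → P (j ≫ k) := by
    intro Z k U j hj hk
    refine MorphismProperty.IsLocalAtSource.comp (K := Scheme.precoverage Q)
      (R := Presieve.ofArrows (fun b : Bool => cond b U Z)
        (fun b => Bool.rec (motive := fun b => cond b U Z ⟶ Z) (𝟙 Z) j b)) ?_ j ⟨true⟩ hk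
    rw [Scheme.ofArrows_mem_precoverage_iff]
    refine ⟨fun x => ⟨false, x, rfl⟩, fun b => ?_⟩
    cases b
    · exact hQ (𝟙 Z) inferInstance
    · exact hj
  let W : X.Opens := ⨆ U : {U : X.Opens // P (U.ι ≫ f)}, U.1
  have hle : ∀ W' : X.Opens, P (W'.ι ≫ f) → W' ≤ W := fun W' h =>
    le_iSup (fun U : {U : X.Opens // P (U.ι ≫ f)} => U.1) ⟨W', h⟩
  have hW : P (W.ι ≫ f) := by
    refine MorphismProperty.IsLocalAtSource.of_forall_comp (K := Scheme.precoverage Q)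
      (R := Presieve.ofArrows (fun U : {U : X.Opens // P (U.ι ≫ f)} => U.1.toScheme)
        (fun U => X.homOfLE (hle U.1 U.2))) ?_ ?_
    · rw [Scheme.ofArrows_mem_precoverage_iff]
      refine ⟨fun x => ?_, fun U => hQ _ inferInstance⟩
      obtain ⟨U, hU⟩ := TopologicalSpace.Opens.mem_iSup.1 x.2
      exact ⟨U, ⟨⟨x.1, hU⟩, Subtype.ext (X.homOfLE_apply _ _)⟩⟩
    · rintro _ _ ⟨U⟩
      rw [Scheme.homOfLE_ι_assoc]
      exact U.2
  refine ⟨W, ⟨hW, hle⟩, fun X' g hg V hV => le_antisymm ?_ ?_⟩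
  · let O : X.Opens := ⟨g '' (V : Set X'), hopen g hg _ V.2⟩
    have hOV : V ≤ g ⁻¹ᵁ O := fun x hx => ⟨x, hx, rfl⟩
    suffices hP : P (O.ι ≫ f) from fun x hx => hle O hP ⟨x, hx, rfl⟩
    let gV : V.toScheme ⟶ O.toScheme := X'.homOfLE hOV ≫ g ∣_ O
    have hgV : gV ≫ O.ι = V.ι ≫ g := by
      simp [gV]
    refine MorphismProperty.IsLocalAtSource.of_forall_comp (K := Scheme.precoverage Q)
      (R := Presieve.ofArrows (fun _ : Unit => V.toScheme) (fun _ => gV)) ?_ ?_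
    · rw [Scheme.ofArrows_mem_precoverage_iff]
      refine ⟨fun x => ?_, fun _ => ?_⟩
      · obtain ⟨y, hy, hxy⟩ := x.2
        refine ⟨⟨⟩, ⟨⟨y, hy⟩, O.ι.injective ?_⟩⟩
        rw [← Scheme.Hom.comp_apply, hgV]
        exact hxy
      · exact MorphismProperty.comp_mem Q _ _ (hQ _ inferInstance) (hQres g O hg)
    · rintro _ _ ⟨⟩
      rw [← Category.assoc, hgV, Category.assoc]
      exact hV.1
  · refine hV.2 _ ?_
    rw [← Category.assoc, ← morphismRestrict_ι, Category.assoc]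
    exact hsub _ _ (hQres g W hg) hW

end FlatLib
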